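import Cfsg.Agent.H93.Essential
import Cfsg.Agent.H95.NormalCriteria

/-!
# A characteristic chain with steps of index `p` prevents being essential
-/

set_option autoImplicit false

namespace Cfsg.Agent.H29

open Cfsg Subgroup

variable {U : Type*} [Group U] [Finite U] {p : ℕ} [Fact p.Prime]

/-- An automorphism of `p`-power order acts trivially on an invariant section of order `p`. -/
theorem trivial_on_step (A B : Subgroup U) [A.Normal] (hAB : A ≤ B) (hidx : A.relIndex B = p)
    (α : MulAut U) (hA : ∀ x ∈ A, α x ∈ A) (hB : ∀ x ∈ B, α x ∈ B) {j : ℕ} (hα : α ^ p ^ j = 1)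
    (x : U) (hx : x ∈ B) : x⁻¹ * α x ∈ A := by
  have hp : p.Prime := Fact.out
  set q := QuotientGroup.mk' A with hq
  have hone : ∀ w, q w = 1 ↔ w ∈ A := fun w => QuotientGroup.eq_one_iff w
  by_cases hxA : x ∈ A
  · exact mul_mem (inv_mem hxA) (hA x hxA)
  have hcard : Nat.card (B.map q) = p := by
    have hk : (q.domRestrict B).ker = A.subgroupOf B := by
      ext w
      simp [MonoidHom.mem_ker, hone, Subgroup.mem_subgroupOf]
    have h := Subgroup.index_ker (q.domRestrict B)
    rw [hk, MonoidHom.domRestrict_range] at h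
    exact h.symm.trans hidx
  have hxo : orderOf (q x) = p := by
    have h := orderOf_dvd_natCard (⟨q x, Subgroup.mem_map_of_mem q hx⟩ : B.map q)
    rw [Subgroup.orderOf_mk, hcard] at h
    exact ((Nat.dvd_prime hp).1 h).resolve_left fun h1 =>
      hxA ((hone x).1 (orderOf_eq_one_iff.1 h1))
  have hgen : B.map q = Subgroup.zpowers (q x) :=
    (Subgroup.eq_of_le_of_card_ge (Subgroup.zpowers_le.2 (Subgroup.mem_map_of_mem q hx))
      (by rw [Nat.card_zpowers, hxo, hcard])).symm
  obtain ⟨c, hc⟩ : q (α x) ∈ Subgroup.zpowers (q x) := hgen ▸ Subgroup.mem_map_of_mem q (hB x hx)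
  have hc' : q x ^ c = q (α x) := hc
  have hcong : ∀ u v : U, q u = q v → q (α u) = q (α v) := fun u v h => by
    have h1 : u⁻¹ * v ∈ A := by rw [← hone, map_mul, map_inv, h, inv_mul_cancel]
    have h2 := (hone _).2 (hA _ h1)
    rw [map_mul, map_inv, map_mul, map_inv, inv_mul_eq_one] at h2
    exact h2
  have hiter : ∀ n : ℕ, q ((α ^ n) x) = q x ^ (c ^ n) := by
    intro n
    induction n with
    | zero => simp
    | succ n ih =>
      rw [pow_succ', MulAut.mul_apply, hcong _ (x ^ (c ^ n)) (by rw [ih, map_zpow]), map_zpow,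
        map_zpow, ← hc', ← zpow_mul, ← pow_succ']
  have h1 := hiter (p ^ j)
  rw [hα, MulAut.one_apply] at h1
  have h2 : ((c ^ p ^ j : ℤ) : ZMod p) = 1 := by
    have h3 : q x ^ (1 : ℤ) = q x ^ (c ^ p ^ j) := by rw [zpow_one]; exact h1
    rw [zpow_eq_zpow_iff_modEq, hxo] at h3
    exact_mod_cast ((ZMod.intCast_eq_intCast_iff _ _ _).2 h3).symm
  have h4 : (c : ZMod p) = ((1 : ℤ) : ZMod p) := by
    rw [Int.cast_pow, ZMod.pow_card_pow] at h2
    rw [h2, Int.cast_one]
  have h5 : q (α x) = q x := by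
    rw [← hc']
    conv_rhs => rw [← zpow_one (q x)]
    rw [zpow_eq_zpow_iff_modEq, hxo]
    exact (ZMod.intCast_eq_intCast_iff _ _ _).1 h4
  rw [← hone, map_mul, map_inv, h5, inv_mul_cancel]

/-- If every automorphism of `P` preserves a chain with steps of index `p`, then `P` is not
essential. -/
theorem not_isEssential_of_chain {Ω : Type*} [Group Ω] {S : Subgroup Ω} [Finite S] (hS : IsPGroup p S)
    (F : FusionSystem S) (P : Subgroup Ω) (m : ℕ) (W : ℕ → Subgroup P) (h0 : W 0 = ⊥) (hm : W m = ⊤)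
    (hinv : ∀ (α : MulAut P), ∀ i ≤ m, ∀ x ∈ W i, α x ∈ W i)
    (hstep : ∀ i < m, W i ≤ W (i + 1) ∧ (W i).relIndex (W (i + 1)) = p) :
    ¬ F.IsEssential p P := by
  intro hP
  have hrad := H93.IsEssential.isRadical hS hP
  obtain ⟨-, hn, hnor, E, hE⟩ := hP
  have hPS := hn.1
  have : Finite P := Finite.of_injective _ (Subgroup.inclusion_injective hPS)
  have : Finite (MulAut P) := H93.finite_mulAut hPS
  have hnormal : ∀ i ≤ m, (W i).Normal := fun i hi =>
    ⟨fun w hw g => hinv (MulAut.conj g) i hi w hw⟩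
  set N := (H95.chainStab W m).subgroupOf (F.autGroup P) with hN
  have hNp : IsPGroup p N :=
    (H95.isPGroup_chainStab (hS.to_le hPS) h0 hm).comap_of_injective _ (F.autGroup P).subtype_injective
  obtain ⟨R⟩ : Nonempty (Sylow p ↥(F.autGroup P)) := inferInstance
  have hall : ∀ Q : Sylow p ↥(F.autGroup P), (Q : Subgroup ↥(F.autGroup P)) ≤ N := by
    intro Q a ha
    rw [hN, Subgroup.mem_subgroupOf]
    obtain ⟨j, hj⟩ := Q.isPGroup' ⟨a, ha⟩
    have hj' : (a : MulAut P) ^ p ^ j = 1 := by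
      simpa using congrArg (fun w : (Q : Subgroup ↥(F.autGroup P)) => ((w : ↥(F.autGroup P)) : MulAut P)) hj
    intro i hi x hx
    obtain ⟨hle, hidx⟩ := hstep i hi
    have := hnormal i hi.le
    exact ⟨trivial_on_step (W i) (W (i + 1)) hle hidx _ (hinv _ i hi.le) (hinv _ (i + 1) hi) hj' x hx,
      hinv _ (i + 1) hi x hx⟩
  have hRN : N = (R : Subgroup ↥(F.autGroup P)) := R.3 hNp (hall R)
  have hnor' : (R : Subgroup ↥(F.autGroup P)).Normal := by
    refine ⟨fun w hw g => ?_⟩
    rw [← hRN]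
    exact hall (g • R) ⟨w, hw, rfl⟩
  -- hence the Sylow subgroup is `Inn P`
  have hRI : (R : Subgroup ↥(F.autGroup P)) ≤ (Inn P).subgroupOf (F.autGroup P) := by
    intro w hw
    have hmem : (w : MulAut P) ∈ (pCore p ↥(F.autGroup P)).map (F.autGroup P).subtype :=
      ⟨w, (show (R : Subgroup ↥(F.autGroup P)) ≤ pCore p _ from le_sSup ⟨hnor', R.isPGroup'⟩) hw, rfl⟩
    rw [hrad.2] at hmem
    exact hmem
  have h1 := hE.1
  rw [← Subgroup.index_eq_card] at h1
  exact R.not_dvd_index (h1.trans (Subgroup.index_dvd_of_le hRI))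

end Cfsg.Agent.H29
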