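import Mathlib
import Cfsg.Agent.H30.Basics
import Cfsg.Agent.H25.Burnside
import Cfsg.Agent.H30.PermNormalizer
import Cfsg.Agent.S0990
import Cfsg.Agent.S0499

/-!
# A sieve for orders of small non-abelian simple groups
-/

set_option autoImplicit false

namespace Cfsg.Agent.H29.Small

open Subgroup

/-- Split off the `p`-part. -/
def splitPow (p : ℕ) : ℕ → ℕ → ℕ × ℕ
  | 0, m => (0, m)
  | f + 1, m => if m % p = 0 then ((splitPow p f (m / p)).1 + 1, (splitPow p f (m / p)).2)
      else (0, m)

theorem splitPow_spec {p : ℕ} (hp : 2 ≤ p) : ∀ (f m : ℕ), 0 < m → m < 2 ^ f →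
    m = p ^ (splitPow p f m).1 * (splitPow p f m).2 ∧ ¬ p ∣ (splitPow p f m).2
  | 0, m, hm, hlt => by simp at hlt; omega
  | f + 1, m, hm, hlt => by
    unfold splitPow
    by_cases h : m % p = 0
    · rw [if_pos h]
      have hd : p ∣ m := Nat.dvd_of_mod_eq_zero h
      have hpos : 0 < m / p := Nat.div_pos (Nat.le_of_dvd hm hd) (by omega)
      have hlt' : m / p < 2 ^ f := by
        apply Nat.div_lt_of_lt_mul
        calc m < 2 ^ (f + 1) := hlt
          _ = 2 * 2 ^ f := by rw [pow_succ, mul_comm]
          _ ≤ p * 2 ^ f := Nat.mul_le_mul_right _ hp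
      obtain ⟨h1, h2⟩ := splitPow_spec hp f (m / p) hpos hlt'
      refine ⟨?_, h2⟩
      rw [pow_succ, mul_right_comm, ← h1, Nat.div_mul_cancel hd]
    · rw [if_neg h]
      exact ⟨by simp, fun hd => h (Nat.mod_eq_zero_of_dvd hd)⟩

/-- The factorial modulo `k`. -/
def factMod (k : ℕ) : ℕ → ℕ
  | 0 => 1 % k
  | d + 1 => factMod k d * (d + 1) % k

theorem factMod_eq (k : ℕ) : ∀ d, factMod k d = Nat.factorial d % k
  | 0 => by simp [factMod]
  | d + 1 => by
    rw [factMod, factMod_eq k d, Nat.factorial_succ, mul_comm (d + 1), Nat.mod_mul_mod]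

/-- The primes used in the sieve. -/
def primeList : List ℕ :=
  [2, 3, 5, 7, 11, 13, 17, 19, 23, 29, 31, 37, 41, 43, 47, 53, 59, 61, 67, 71, 73, 79, 83, 89]

theorem prime_of_mem_primeList {p : ℕ} (hp : p ∈ primeList) : p.Prime := by
  fin_cases hp <;> norm_num

/-- Trial division below `2209`. -/
def smallPrime (r : ℕ) : Bool := 2 ≤ r && primeList.all (fun d => r < d * d || r % d != 0) &&
  decide (r < 2209)

/-- The order has at most two prime divisors. -/
def twoPrimes (n : ℕ) : Bool :=
  primeList.any fun p =>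
    let r := (splitPow p 11 n).2
    r == 1 || smallPrime r || primeList.any fun q => (splitPow q 11 r).2 == 1

/-- `d` cannot be the number of Sylow `p`-subgroups, for `n = p ^ a * m`. -/
def badCount (n p a m d : ℕ) : Bool :=
  m % d != 0 || factMod (2 * n) d != 0 ||
    (a == 1 && Nat.gcd (m / d) (p - 1) == 1) ||
    (a == 2 && d == m) ||
    (a == 1 && decide (5 ≤ p) && d == p + 1 && (p - 1) / 2 % (m / d) != 0)

/-- No possible number of Sylow `p`-subgroups. -/
def noSylowCount (n p : ℕ) : Bool :=
  n % p == 0 &&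
    (let am := splitPow p 11 n
    (List.range (am.2 / p)).all fun j => badCount n p am.1 am.2 ((j + 1) * p + 1))

/-- The orders dismissed by the sieve. -/
def killed (n : ℕ) : Bool :=
  twoPrimes n || primeList.any (noSylowCount n) ||
    (n % 2 == 0 && n % 12 != 0 && n % 16 != 0 && n % 56 != 0)

variable {G : Type*} [Group G] [Finite G] [IsSimpleGroup G]

theorem not_isSolvable (hG : ¬ IsMulCommutative G) : ¬ Group.IsSolvable G := fun h =>
  hG ⟨⟨fun a b => (IsSimpleGroup.comm_iff_isSolvable.mpr h) a b⟩⟩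

theorem not_twoPrimes (hG : ¬ IsMulCommutative G) (hlt : Nat.card G < 2 ^ 11) :
    twoPrimes (Nat.card G) = false := by
  by_contra h
  rw [Bool.not_eq_false] at h
  have hpos : 0 < Nat.card G := Nat.card_pos
  simp only [twoPrimes, List.any_eq_true, Bool.or_eq_true, beq_iff_eq] at h
  obtain ⟨p, hp, h⟩ := h
  have hpp := prime_of_mem_primeList hp
  obtain ⟨h1, -⟩ := splitPow_spec hpp.two_le 11 _ hpos hlt
  set r := (splitPow p 11 (Nat.card G)).2 with hr
  set a := (splitPow p 11 (Nat.card G)).1 with ha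
  apply not_isSolvable hG
  rcases h with (h | h) | ⟨q, hq, h⟩
  · exact H25.isSolvable_of_card_eq_mul_pow (a := a) (b := 0) hpp hpp (by rw [h1, h, pow_zero])
  · refine H25.isSolvable_of_card_eq_mul_pow (a := a) (b := 1) hpp (q := r) ?_ (by rw [pow_one]; exact h1)
    simp only [smallPrime, Bool.and_eq_true, decide_eq_true_eq, List.all_eq_true, Bool.or_eq_true,
      bne_iff_ne] at h
    obtain ⟨⟨h2, hall⟩, hr'⟩ := h
    rw [Nat.prime_def_le_sqrt]
    refine ⟨h2, fun d hd2 hds hdr => ?_⟩
    have hd47 : d < 47 := by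
      have := Nat.le_sqrt.mp hds
      nlinarith
    have hmin : d.minFac ∈ primeList := by
      have hm2 := (Nat.minFac_prime (show d ≠ 1 by omega)).two_le
      have hm : d.minFac ≤ d := Nat.minFac_le (by omega)
      have hpr := Nat.minFac_prime (show d ≠ 1 by omega)
      generalize d.minFac = e at hm2 hm hpr ⊢
      have he47 : e < 47 := lt_of_le_of_lt hm hd47
      clear hm
      interval_cases e <;> first | decide | (revert hpr; norm_num)
    have hsq : d.minFac * d.minFac ≤ r :=
      (Nat.mul_le_mul (Nat.minFac_le (by omega)) (Nat.minFac_le (by omega))).trans (Nat.le_sqrt.mp hds)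
    rcases hall _ hmin with h | h
    · omega
    · exact h (Nat.mod_eq_zero_of_dvd ((Nat.minFac_dvd d).trans hdr))
  · have hqp := prime_of_mem_primeList hq
    have hrpos : 0 < r := Nat.pos_of_ne_zero fun h0 => by rw [h0, mul_zero] at h1; omega
    have hrle : r < 2 ^ 11 := lt_of_le_of_lt (Nat.le_of_dvd hpos ⟨p ^ a, by rw [mul_comm]; exact h1⟩) hlt
    obtain ⟨h2, -⟩ := splitPow_spec hqp.two_le 11 r hrpos hrle
    refine H25.isSolvable_of_card_eq_mul_pow (a := a) (b := (splitPow q 11 r).1) hpp hqp ?_
    rw [h, mul_one] at h2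
    rw [← h2]
    exact h1

/-- With `p + 1` Sylow subgroups of prime order `p`, the normalizer has order dividing `p (p-1) / 2`. -/
theorem card_normalizer_dvd_of_succ (hG : ¬ IsMulCommutative G) {p : ℕ} [hp : Fact p.Prime]
    (hp5 : 5 ≤ p) (P : Sylow p G) (hP : Nat.card (P : Subgroup G) = p)
    (hd : Nat.card (Sylow p G) = p + 1) :
    2 * Nat.card (normalizer ((P : Subgroup G) : Set G)) ∣ p * (p - 1) := by
  classical
  let : Fintype (Sylow p G) := Fintype.ofFinite _
  have hcard : Fintype.card (Sylow p G) = p + 1 := by rw [← Nat.card_eq_fintype_card, hd]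
  let f : G →* Equiv.Perm (Sylow p G) := MulAction.toPermHom G (Sylow p G)
  have hf : Function.Injective f := by
    rw [← MonoidHom.ker_eq_bot_iff]
    refine (IsSimpleGroup.eq_bot_or_eq_top_of_normal f.ker inferInstance).resolve_right fun hk => ?_
    obtain ⟨a, b, hab⟩ := Fintype.exists_pair_of_one_lt_card (show 1 < Fintype.card (Sylow p G) by omega)
    obtain ⟨g, hg⟩ := MulAction.exists_smul_eq G a b
    have h1 : f g = 1 := MonoidHom.mem_ker.mp (hk ▸ mem_top g)
    exact hab ((show g • a = a from Equiv.Perm.congr_fun h1 a).symm.trans hg)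
  have hsign : f.range ≤ alternatingGroup (Sylow p G) := by
    rintro _ ⟨g, rfl⟩
    rw [Equiv.Perm.mem_alternatingGroup]
    let ψ : G →* ℤˣ := Equiv.Perm.sign.comp f
    have hψ : ψ.ker = ⊤ := (IsSimpleGroup.eq_bot_or_eq_top_of_normal ψ.ker
      inferInstance).resolve_left fun hb => hG <| by
        have hinj := (MonoidHom.ker_eq_bot_iff ψ).mp hb
        exact ⟨⟨fun a b => hinj (by rw [map_mul, map_mul, mul_comm])⟩⟩
    exact MonoidHom.mem_ker.mp (hψ ▸ mem_top g : g ∈ ψ.ker)
  let R := (P : Subgroup G).map f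
  have hR : Nat.card R = p := by rw [card_map_of_injective hf, hP]
  have hfac : (Nat.card (Equiv.Perm (Sylow p G))).factorization p = 1 := by
    have h1 := H30.card_sylow_perm_lt_two_mul (p := p) (α := Sylow p G) (by omega) (by omega) default
    rw [Sylow.card_eq_multiplicity] at h1
    exact Nat.pow_right_injective hp.out.two_le (h1.trans (pow_one p).symm)
  let Pσ : Sylow p (Equiv.Perm (Sylow p G)) := Sylow.ofCard R (by rw [hR, hfac, pow_one])
  have h0990 := (Cfsg.Agent.S0990.result (show 2 ≤ Fintype.card (Sylow p G) by omega) p (by omega) Pσ).2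
  have hN := H30.card_normalizer_sylow_perm (p := p) (α := Sylow p G) (by omega) (by omega) Pσ
  rw [hcard, Nat.add_sub_cancel_left, Nat.factorial_one, mul_one] at hN
  set N := normalizer ((P : Subgroup G) : Set G)
  have hle : (N.map f).subgroupOf (alternatingGroup (Sylow p G)) ≤ normalizer
      ((((Pσ : Subgroup (Equiv.Perm (Sylow p G))).subgroupOf (alternatingGroup (Sylow p G))) :
        Subgroup (alternatingGroup (Sylow p G))) : Set (alternatingGroup (Sylow p G))) := by
    rw [← subgroupOf_normalizer_eq (show (Pσ : Subgroup (Equiv.Perm (Sylow p G))) ≤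
      alternatingGroup (Sylow p G) from (map_le_range f _).trans hsign)]
    exact subgroupOf_mono _ (le_normalizer_map f)
  have h1 := card_dvd_of_le hle
  rw [Nat.card_congr (subgroupOfEquivOfLe ((map_le_range f _).trans hsign)).toEquiv,
    card_map_of_injective hf] at h1
  exact (Nat.mul_dvd_mul_left 2 h1).trans (dvd_of_eq (h0990.trans hN))

/-- The number of Sylow subgroups passes the elementary tests. -/
theorem not_badCount (hG : ¬ IsMulCommutative G) {n p a m : ℕ} [hp : Fact p.Prime]
    (hn : Nat.card G = n) (h1 : n = p ^ a * m) (h2 : ¬ p ∣ m) (hpd : p ∣ n) :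
    badCount n p a m (Nat.card (Sylow p G)) = false := by
  have hpp : p.Prime := hp.out
  subst hn
  by_contra hbad
  rw [Bool.not_eq_false] at hbad
  have hd := H30.card_sylow_dvd (G := G) h1 h2
  have hm0 : 0 < m := Nat.pos_of_ne_zero fun h0 => h2 (h0 ▸ dvd_zero p)
  let P : Sylow p G := default
  have hP := H30.card_sylow_subgroup P h1 h2
  have hN := H30.card_sylow_mul_normalizer p P
  set d := Nat.card (Sylow p G) with hdd
  simp only [badCount, Bool.or_eq_true, Bool.and_eq_true, bne_iff_ne, beq_iff_eq,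
    decide_eq_true_eq] at hbad
  rcases hbad with (((h | h) | h) | h) | h
  · exact h (Nat.mod_eq_zero_of_dvd hd)
  · rw [factMod_eq] at h
    exact h (Nat.mod_eq_zero_of_dvd (H30.two_mul_card_dvd_factorial_sylow hG p hpd))
  · rw [h.1, pow_one] at hP
    obtain ⟨e, c, he, h1e, hNc, -⟩ := H30.exists_automizer_of_prime_order hG p P hP
    have he' : e ∣ m / d := by
      obtain ⟨q, hq⟩ := hd
      rw [hNc, h1, h.1, pow_one, hq] at hN
      rw [hq, Nat.mul_div_cancel_left _ Nat.card_pos]
      refine ⟨c, ?_⟩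
      refine Nat.eq_of_mul_eq_mul_left (Nat.mul_pos (Nat.card_pos : 0 < d) hpp.pos) ?_
      calc d * p * q = p * (d * q) := by ring
        _ = d * (p * c * e) := hN.symm
        _ = d * p * (e * c) := by ring
    have := Nat.le_of_dvd Nat.one_pos (h.2 ▸ Nat.dvd_gcd he' he)
    omega
  · rw [h.2, h1, mul_comm (p ^ a)] at hN
    have hNP : Nat.card (normalizer ((P : Subgroup G) : Set G)) = p ^ a :=
      Nat.eq_of_mul_eq_mul_left hm0 hN
    apply H30.not_normalizer_le_centralizer hG p hpd P
    have heq : (P : Subgroup G) = normalizer ((P : Subgroup G) : Set G) :=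
      eq_of_le_of_card_ge le_normalizer (by rw [hNP, hP])
    rw [← heq]
    have := IsPGroup.isMulCommutative_of_card_eq_prime_sq (p := p) (G := (P : Subgroup G))
      (by rw [hP, h.1])
    exact le_centralizer _
  · obtain ⟨⟨⟨ha, hp5⟩, hdp⟩, hbad⟩ := h
    rw [ha, pow_one] at hP
    have h3 := card_normalizer_dvd_of_succ hG hp5 P hP hdp
    apply hbad
    obtain ⟨q, hq⟩ := hd
    rw [hdp, h1, ha, pow_one, hq] at hN
    have hNq : Nat.card (normalizer ((P : Subgroup G) : Set G)) = p * q := by
      refine Nat.eq_of_mul_eq_mul_left (show 0 < p + 1 by omega) (hN.trans ?_)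
      rw [hdp]; ring
    rw [hNq, mul_left_comm] at h3
    have h4 : 2 * q ∣ p - 1 := Nat.dvd_of_mul_dvd_mul_left hpp.pos h3
    rw [hq, Nat.mul_div_cancel_left _ Nat.card_pos]
    exact Nat.mod_eq_zero_of_dvd (Nat.dvd_div_of_mul_dvd h4)

theorem not_noSylowCount (hG : ¬ IsMulCommutative G) (hlt : Nat.card G < 2 ^ 11) {p : ℕ}
    (hp : p ∈ primeList) : noSylowCount (Nat.card G) p = false := by
  by_contra h
  rw [Bool.not_eq_false] at h
  simp only [noSylowCount, Bool.and_eq_true, beq_iff_eq, List.all_eq_true, List.mem_range] at h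
  obtain ⟨hdvd, hall⟩ := h
  have hpp := prime_of_mem_primeList hp
  have := Fact.mk hpp
  obtain ⟨h1, h2⟩ := splitPow_spec hpp.two_le 11 _ (Nat.card_pos (α := G)) hlt
  set a := (splitPow p 11 (Nat.card G)).1
  set m := (splitPow p 11 (Nat.card G)).2
  have hpd : p ∣ Nat.card G := Nat.dvd_of_mod_eq_zero hdvd
  have hd := H30.card_sylow_dvd (G := G) h1 h2
  have hm0 : 0 < m := Nat.pos_of_ne_zero fun h0 => h2 (h0 ▸ dvd_zero p)
  have hne1 := H30.card_sylow_ne_one hG p hpd
  have hmod : Nat.card (Sylow p G) % p = 1 := by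
    have := card_sylow_modEq_one p G
    rwa [Nat.ModEq, Nat.one_mod_eq_one.mpr hpp.ne_one] at this
  set d := Nat.card (Sylow p G) with hdd
  have hpos : 0 < d / p := by
    rcases Nat.eq_zero_or_pos (d / p) with h | h
    · have := Nat.div_add_mod d p
      rw [h, mul_zero, zero_add, hmod] at this
      exact absurd this.symm hne1
    · exact h
  have hj : d / p - 1 < m / p := by
    have : d / p ≤ m / p := Nat.div_le_div_right (Nat.le_of_dvd hm0 hd)
    omega
  have hbad := hall _ hj
  rw [Nat.sub_add_cancel hpos, show d / p * p + 1 = d by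
    conv_rhs => rw [← Nat.div_add_mod d p, hmod, mul_comm]] at hbad
  rw [not_badCount hG rfl h1 h2 hpd] at hbad
  exact absurd hbad (by simp)

theorem not_killed (hG : ¬ IsMulCommutative G) (hlt : Nat.card G < 2 ^ 11) :
    killed (Nat.card G) = false := by
  have h1 := not_twoPrimes hG hlt
  have h2 : primeList.any (noSylowCount (Nat.card G)) = false := by
    rw [List.any_eq_false]
    intro p hp
    rw [not_noSylowCount hG hlt hp]
    simp
  simp only [killed, h1, h2, Bool.false_or]
  by_contra h
  rw [Bool.not_eq_false] at h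
  simp only [Bool.and_eq_true, beq_iff_eq, bne_iff_ne] at h
  rcases Cfsg.Agent.S0499.result hG (even_iff_two_dvd.mpr (Nat.dvd_of_mod_eq_zero h.1.1.1)) with h' | h' | h' <;>
    omega

/-- The orders left by the sieve. -/
theorem sieve_check : (List.range 1093).all (fun n => n < 2 || killed n ||
    [60, 168, 360, 420, 480, 504, 612, 660, 720, 756, 840, 960, 1008, 1040, 1080, 1092].contains n)
      = true := by
  decide +kernel

theorem mem_sieve (hG : ¬ IsMulCommutative G) (h : Nat.card G ≤ 1092) :
    Nat.card G ∈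
      [60, 168, 360, 420, 480, 504, 612, 660, 720, 756, 840, 960, 1008, 1040, 1080, 1092] := by
  have h2 := List.all_eq_true.mp sieve_check _ (List.mem_range.mpr (show Nat.card G < 1093 by omega))
  rw [not_killed hG (by norm_num; omega)] at h2
  have h1 : ¬ Nat.card G < 2 := fun hlt => hG <| by
    have : Subsingleton G := (Nat.card_eq_one_iff_unique.mp
      (by have := Nat.card_pos (α := G); omega)).1
    exact ⟨⟨fun a b => Subsingleton.elim _ _⟩⟩
  simp only [h1, decide_false, Bool.false_or, List.contains_iff_mem] at h2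
  exact h2

end Cfsg.Agent.H29.Small
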