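import Cfsg.Agent.H29.EssentialChain
import Cfsg.Agent.H24.PGroupBasic
import Mathlib.Algebra.CharP.Lemmas

/-!
# Abelian essential subgroups of rank two

Agemo layers `D i` (the images of `x ↦ x ^ p ^ i`) of an abelian `p`-group, chains with steps of index
dividing `p`, and the homocyclic structure when all the layers have order `p²`.
-/

set_option autoImplicit false

namespace Cfsg.Agent.H29

open Cfsg Subgroup

/-- Invariant chains whose steps have index dividing `p` prevent being essential. -/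
theorem not_isEssential_of_chain_dvd {Ω : Type*} [Group Ω] {S : Subgroup Ω} [Finite S] {p : ℕ} [Fact p.Prime]
    (hS : IsPGroup p S) (F : FusionSystem S) (P : Subgroup Ω) (m : ℕ) (W : ℕ → Subgroup P)
    (h0 : W 0 = ⊥) (hm : W m = ⊤)
    (hinv : ∀ (α : MulAut P), ∀ i ≤ m, ∀ x ∈ W i, α x ∈ W i)
    (hstep : ∀ i < m, W i ≤ W (i + 1) ∧ (W i).relIndex (W (i + 1)) ∣ p) :
    ¬ F.IsEssential p P := by
  intro hP
  have hrad := H93.IsEssential.isRadical hS hP
  obtain ⟨-, hn, hnor, E, hE⟩ := hP
  have hPS := hn.1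
  have : Finite P := Finite.of_injective _ (Subgroup.inclusion_injective hPS)
  have : Finite (MulAut P) := H93.finite_mulAut hPS
  have hnormal : ∀ i ≤ m, (W i).Normal := fun i hi =>
    ⟨fun w hw g => hinv (MulAut.conj g) i hi w hw⟩
  set N := (H95.chainStab W m).subgroupOf (F.autGroup P) with hN
  have hNp : IsPGroup p N :=
    (H95.isPGroup_chainStab (hS.to_le hPS) h0 hm).comap_of_injective _ (F.autGroup P).subtype_injective
  obtain ⟨R⟩ : Nonempty (Sylow p ↥(F.autGroup P)) := inferInstance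
  have hall : ∀ Q : Sylow p ↥(F.autGroup P), (Q : Subgroup ↥(F.autGroup P)) ≤ N := by
    intro Q a ha
    rw [hN, Subgroup.mem_subgroupOf]
    obtain ⟨j, hj⟩ := Q.isPGroup' ⟨a, ha⟩
    have hj' : (a : MulAut P) ^ p ^ j = 1 := by
      simpa using congrArg (fun w : (Q : Subgroup ↥(F.autGroup P)) => ((w : ↥(F.autGroup P)) : MulAut P)) hj
    intro i hi x hx
    obtain ⟨hle, hidx⟩ := hstep i hi
    refine ⟨?_, hinv _ (i + 1) hi x hx⟩
    rcases (Nat.dvd_prime Fact.out).1 hidx with h1 | h1
    · have hsub := Subgroup.relIndex_eq_one.1 h1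
      exact mul_mem (inv_mem (hsub hx)) (hinv _ i hi.le x (hsub hx))
    · have := hnormal i hi.le
      exact trivial_on_step (W i) (W (i + 1)) hle h1 _ (hinv _ i hi.le) (hinv _ (i + 1) hi) hj' x hx
  have hRN : N = (R : Subgroup ↥(F.autGroup P)) := R.3 hNp (hall R)
  have hnor' : (R : Subgroup ↥(F.autGroup P)).Normal := by
    refine ⟨fun w hw g => ?_⟩
    rw [← hRN]
    exact hall (g • R) ⟨w, hw, rfl⟩
  have hRI : (R : Subgroup ↥(F.autGroup P)) ≤ (Inn P).subgroupOf (F.autGroup P) := by
    intro w hw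
    have hmem : (w : MulAut P) ∈ (pCore p ↥(F.autGroup P)).map (F.autGroup P).subtype :=
      ⟨w, (show (R : Subgroup ↥(F.autGroup P)) ≤ pCore p _ from le_sSup ⟨hnor', R.isPGroup'⟩) hw, rfl⟩
    rw [hrad.2] at hmem
    exact hmem
  have h1 := hE.1
  rw [← Subgroup.index_eq_card] at h1
  exact R.not_dvd_index (h1.trans (Subgroup.index_dvd_of_le hRI))

/-- An automorphism group of an essential abelian subgroup has no `p`-elements stabilizing an invariant chain. -/
theorem not_mem_chainStab_of_essential {Ω : Type*} [Group Ω] {S : Subgroup Ω} [Finite S] {p : ℕ} [Fact p.Prime]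
    (hS : IsPGroup p S) {F : FusionSystem S} {P : Subgroup Ω} [Finite P] (hP : F.IsEssential p P)
    (hab : IsMulCommutative P) (m : ℕ) (W : ℕ → Subgroup P) (h0 : W 0 = ⊥) (hm : W m = ⊤)
    (hinv : ∀ (α : MulAut P), ∀ i ≤ m, ∀ x ∈ W i, α x ∈ W i)
    {α : MulAut P} (hαA : α ∈ F.autGroup P) (hα : α ∈ H95.chainStab W m) : α = 1 := by
  have hrad := H93.IsEssential.isRadical hS hP
  set N := (H95.chainStab W m).subgroupOf (F.autGroup P) with hN
  have hNp : IsPGroup p N :=
    (H95.isPGroup_chainStab (hS.to_le hrad.1) h0 hm).comap_of_injective _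
      (F.autGroup P).subtype_injective
  have hNn : N.Normal := by
    refine ⟨fun w hw g => ?_⟩
    rw [hN, Subgroup.mem_subgroupOf] at hw ⊢
    refine H95.chainStab_conj (fun i hi x => ⟨hinv _ i hi x, fun h => ?_⟩) hw
    simpa using hinv ((g : MulAut P)⁻¹) i hi _ h
  have hmem : α ∈ (pCore p ↥(F.autGroup P)).map (F.autGroup P).subtype :=
    ⟨⟨α, hαA⟩, (show N ≤ pCore p _ from le_sSup ⟨hNn, hNp⟩) (Subgroup.mem_subgroupOf.2 hα), rfl⟩
  rw [hrad.2] at hmem
  obtain ⟨g, rfl⟩ := hmem
  refine MulEquiv.ext fun w => ?_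
  show g * w * g⁻¹ = w
  rw [hab.is_comm.comm g w, mul_inv_cancel_right]

section Layers

variable {V : Type*} [CommGroup V] {p : ℕ}

/-- The `i`-th agemo layer. -/
def agemo (V : Type*) [CommGroup V] (p i : ℕ) : Subgroup V := (powMonoidHom (p ^ i) : V →* V).range

theorem mem_layer {i : ℕ} {x : V} : x ∈ agemo V p i ↔ ∃ y : V, y ^ p ^ i = x := Iff.rfl

theorem layer_zero : agemo V p 0 = ⊤ := by
  ext x
  simp [mem_layer]

theorem layer_antitone {i j : ℕ} (h : i ≤ j) : agemo V p j ≤ agemo V p i := by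
  rintro _ ⟨y, rfl⟩
  refine ⟨y ^ p ^ (j - i), ?_⟩
  simp only [powMonoidHom_apply]
  rw [← pow_mul, ← pow_add, Nat.sub_add_cancel h]

theorem map_layer (i j : ℕ) :
    (agemo V p i).map (powMonoidHom (p ^ j) : V →* V) = agemo V p (i + j) := by
  ext x
  simp only [Subgroup.mem_map, mem_layer, powMonoidHom_apply]
  constructor
  · rintro ⟨w, ⟨y, rfl⟩, rfl⟩
    exact ⟨y, by rw [← pow_mul, ← pow_add]⟩
  · rintro ⟨y, rfl⟩
    exact ⟨_, ⟨y, rfl⟩, by rw [← pow_mul, ← pow_add]⟩

theorem map_layer_inv (α : MulAut V) (i : ℕ) {x : V} (hx : x ∈ agemo V p i) : α x ∈ agemo V p i := by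
  obtain ⟨y, rfl⟩ := hx
  exact ⟨α y, by simp [map_pow]⟩

theorem relIndex_map_dvd (f : V →* V) {H K : Subgroup V} (h : H ≤ K) :
    (H.map f).relIndex (K.map f) ∣ H.relIndex K := by
  rw [Subgroup.relIndex_map_map]
  have h1 : K ⊔ f.ker = K ⊔ (H ⊔ f.ker) := by rw [← sup_assoc, sup_eq_left.2 h]
  rw [h1, Subgroup.relIndex_sup_right]
  exact Subgroup.relIndex_dvd_of_le_left _ le_sup_left

variable [Finite V]

theorem exists_layer_eq_bot [Fact p.Prime] (hV : IsPGroup p V) : ∃ a, agemo V p a = ⊥ := by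
  obtain ⟨n, hn⟩ := IsPGroup.iff_card.1 hV
  refine ⟨n, eq_bot_iff.2 ?_⟩
  rintro _ ⟨y, rfl⟩
  rw [Subgroup.mem_bot, powMonoidHom_apply, ← hn, pow_card_eq_one']

variable [Fact p.Prime] {a : ℕ}

/-- A homocyclic group of rank two, from the orders of its layers. -/
theorem exists_equiv_homocyclic (ha : 1 ≤ a) (hbot : agemo V p a = ⊥) (hcard : Nat.card V = p ^ (2 * a))
    (htop : Nat.card (agemo V p (a - 1)) = p ^ 2) :
    Nonempty (V ≃* Multiplicative (ZMod (p ^ a) × ZMod (p ^ a))) := by
  have hp : p.Prime := Fact.out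
  have hone : ∀ w : V, w ^ p ^ a = 1 := fun w =>
    Subgroup.mem_bot.1 (hbot ▸ (mem_layer.2 ⟨w, rfl⟩ : w ^ p ^ a ∈ agemo V p a))
  have hpow : ∀ w ∈ agemo V p (a - 1), w ^ p = 1 := by
    rintro _ ⟨y, rfl⟩
    rw [powMonoidHom_apply, ← pow_mul, ← pow_succ, Nat.sub_add_cancel ha, hone]
  obtain ⟨u, hu, hu1⟩ : ∃ u ∈ agemo V p (a - 1), u ≠ 1 := by
    by_contra hcon
    push Not at hcon
    have h : agemo V p (a - 1) = ⊥ := eq_bot_iff.2 fun w hw => Subgroup.mem_bot.2 (hcon w hw)
    rw [h, Subgroup.card_bot] at htop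
    exact (one_lt_pow₀ hp.one_lt two_ne_zero).ne htop
  have huo : orderOf u = p := orderOf_eq_prime (hpow u hu) hu1
  obtain ⟨v, hv, hvu⟩ : ∃ v ∈ agemo V p (a - 1), v ∉ Subgroup.zpowers u := by
    by_contra hcon
    push Not at hcon
    have h := Subgroup.card_le_of_le (K := Subgroup.zpowers u) hcon
    rw [htop, Nat.card_zpowers, huo] at h
    nlinarith [hp.two_le]
  obtain ⟨x, hx⟩ := mem_layer.1 hu
  obtain ⟨y, hy⟩ := mem_layer.1 hv
  have key : ∀ k ≤ a, ∀ i j : ℤ, x ^ i * y ^ j = 1 → (p ^ k : ℤ) ∣ i ∧ (p ^ k : ℤ) ∣ j := by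
    intro k
    induction k with
    | zero => intro _ i j _; simp
    | succ k ih =>
      intro hk i j hij
      obtain ⟨⟨i', hi'⟩, ⟨j', hj'⟩⟩ := ih (by omega) i j hij
      have h1 : u ^ i' * v ^ j' = 1 := by
        have h2 := congrArg (fun w : V => w ^ p ^ (a - 1 - k)) hij
        have hee : p ^ k * p ^ (a - 1 - k) = p ^ (a - 1) := by
          rw [← pow_add]; congr 1; omega
        simp only [one_pow, mul_pow] at h2
        rw [← h2, ← hx, ← hy, ← hee, hi', hj']
        simp only [← zpow_natCast, ← zpow_mul]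
        push_cast
        congr 1 <;> congr 1 <;> ring
      have hj : (p : ℤ) ∣ j' := by
        by_contra hnd
        have hco : IsCoprime (p : ℤ) j' := (Nat.prime_iff_prime_int.1 hp).coprime_iff_not_dvd.2 hnd
        obtain ⟨s, t, hst⟩ := hco
        apply hvu
        have h3 : v ^ j' ∈ Subgroup.zpowers u := by
          rw [eq_inv_of_mul_eq_one_right h1]
          exact inv_mem (zpow_mem (Subgroup.mem_zpowers u) _)
        have h4 : v = (v ^ j') ^ t := by
          conv_lhs => rw [← zpow_one v, ← hst]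
          rw [zpow_add, mul_comm s, zpow_mul, zpow_natCast, hpow v hv, one_zpow, one_mul,
            mul_comm, zpow_mul]
        rw [h4]
        exact zpow_mem h3 _
      have hi : (p : ℤ) ∣ i' := by
        obtain ⟨j'', rfl⟩ := hj
        rw [zpow_mul, zpow_natCast, hpow v hv, one_zpow, mul_one] at h1
        rw [← huo]
        exact orderOf_dvd_iff_zpow_eq_one.2 h1
      rw [hi', hj', pow_succ]
      exact ⟨mul_dvd_mul_left _ hi, mul_dvd_mul_left _ hj⟩
  have : NeZero (p ^ a) := ⟨pow_ne_zero _ hp.ne_zero⟩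
  have hval : ∀ (w : V) (i i' : ZMod (p ^ a)), w ^ (i + i').val = w ^ i.val * w ^ i'.val := fun w i i' => by
    rw [ZMod.val_add, ← pow_add]
    exact (pow_eq_pow_mod _ (hone w)).symm
  let φ : Multiplicative (ZMod (p ^ a) × ZMod (p ^ a)) →* V :=
    MonoidHom.mk' (fun q => x ^ q.toAdd.1.val * y ^ q.toAdd.2.val) fun q r => by
      simp only [toAdd_mul, Prod.fst_add, Prod.snd_add, hval]
      rw [mul_mul_mul_comm]
  have hinj : Function.Injective φ := by
    rw [← MonoidHom.ker_eq_bot_iff, eq_bot_iff]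
    intro q hq
    have h := key a le_rfl (q.toAdd.1.val : ℤ) (q.toAdd.2.val : ℤ)
      (by rw [zpow_natCast, zpow_natCast]; exact hq)
    rw [Subgroup.mem_bot]
    refine Multiplicative.toAdd.injective (Prod.ext ?_ ?_)
    · have := (ZMod.natCast_eq_zero_iff q.toAdd.1.val (p ^ a)).2 (by exact_mod_cast h.1)
      simpa using this
    · have := (ZMod.natCast_eq_zero_iff q.toAdd.2.val (p ^ a)).2 (by exact_mod_cast h.2)
      simpa using this
  have hbij : Function.Bijective φ := (Nat.bijective_iff_injective_and_card φ).2 ⟨hinj, by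
    rw [hcard, Nat.card_congr Multiplicative.toAdd, Nat.card_prod, Nat.card_zmod, ← pow_add]
    ring_nf⟩
  exact ⟨(MulEquiv.ofBijective φ hbij).symm⟩

/-- In a `p`-group, a power map killed only inside the first layer: all layers have index `p²`. -/
theorem card_layer (hbot : agemo V p a = ⊥) (h1 : (agemo V p 1).index = p ^ 2)
    (hker : ∀ i < a, (powMonoidHom (p ^ i) : V →* V).ker ≤ agemo V p 1) :
    Nat.card V = p ^ (2 * a) := by
  have key : ∀ j ≤ a, Nat.card (agemo V p (a - j)) = p ^ (2 * j) := by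
    intro j
    induction j with
    | zero => intro _; simp [hbot]
    | succ j ih =>
      intro hj
      have hlt : a - (j + 1) < a := by omega
      have hsucc : a - j = a - (j + 1) + 1 := by omega
      have hr : (agemo V p (a - (j + 1) + 1)).relIndex (agemo V p (a - (j + 1))) = p ^ 2 := by
        have h := Subgroup.relIndex_map_map (powMonoidHom (p ^ (a - (j + 1))) : V →* V) (agemo V p 1) ⊤
        rw [map_layer, ← MonoidHom.range_eq_map, add_comm 1] at h
        refine (h.trans ?_)
        rw [top_sup_eq, Subgroup.relIndex_top_right, sup_eq_left.2 (hker _ hlt), h1]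
      have hm := Subgroup.relIndex_mul_relIndex ⊥ _ _ bot_le
        (layer_antitone (V := V) (p := p) (Nat.le_add_right (a - (j + 1)) 1))
      rw [Subgroup.relIndex_bot_left, Subgroup.relIndex_bot_left] at hm
      rw [← hsucc, ih (by omega)] at hm
      rw [← hsucc] at hr
      rw [← hm, hr]
      ring
  have h := key a le_rfl
  rw [Nat.sub_self, layer_zero] at h
  simpa using h

/-- Endomorphism moves `x` by `x⁻¹ * α x`. -/
def moveHom (α : MulAut V) : V →* V :=
  MonoidHom.mk' (fun x => x⁻¹ * α x) fun x y => by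
    rw [map_mul, mul_inv, mul_mul_mul_comm]

omit [Finite V] in
/-- For `p ≥ 5`, automorphisms of order `p` move a homocyclic rank two group into its first layer. -/
theorem move_mem_layer_one (hp5 : 4 ≤ p) (h1 : (agemo V p 1).index = p ^ 2)
    (hker : (powMonoidHom (p ^ 1) : V →* V).ker ≤ agemo V p 1) (α : MulAut V) (hα : α ^ p = 1) (x : V) :
    moveHom α x ∈ agemo V p 1 := by
  have hp : p.Prime := Fact.out
  set ν := moveHom α with hν
  set D := agemo V p 1 with hD
  have hα' : ∀ w, α w = w * ν w := fun w => by simp [hν, moveHom]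
  obtain ⟨E, E0, Es⟩ : ∃ E : ℕ → V →* V, (∀ w, E 0 w = w) ∧ ∀ k w, E (k + 1) w = E k (ν w) :=
    ⟨fun k => Nat.rec (MonoidHom.id V) (fun _ f => f.comp ν) k, fun _ => rfl, fun _ _ => rfl⟩
  have Eadd : ∀ k l w, E (k + l) w = E k (E l w) := by
    intro k l
    induction l with
    | zero => intro w; rw [E0]; rfl
    | succ l ih => intro w; rw [← add_assoc, Es, ih, Es]
  have Elayer : ∀ k i, ∀ w ∈ agemo V p i, E k w ∈ agemo V p i := by
    rintro k i _ ⟨y, rfl⟩
    exact ⟨E k y, by simp [map_pow]⟩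
  -- `ν ^ p` maps into the first layer
  have hnil : ∀ w, E p w ∈ D := by
    let A : AddMonoid.End (Additive V) := MonoidHom.toAdditive ν
    have hAk : ∀ k w, Additive.toMul ((A ^ k) (Additive.ofMul w)) = E k w := by
      intro k
      induction k with
      | zero => intro w; rw [E0]; rfl
      | succ k ih => intro w; rw [pow_succ, Es, ← ih]; rfl
    have hαk : ∀ k w, Additive.toMul (((1 + A) ^ k) (Additive.ofMul w)) = (α ^ k) w := by
      intro k
      induction k with
      | zero => intro w; rfl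
      | succ k ih =>
        intro w
        rw [pow_succ, pow_succ, MulAut.mul_apply, ← ih, hα']
        rfl
    intro w
    obtain ⟨r, hr⟩ := (Commute.one_left A).exists_add_pow_prime_eq hp
    have h := hαk p w
    rw [hr, hα] at h
    refine ⟨(Additive.toMul ((1 * A * r) (Additive.ofMul w)))⁻¹, ?_⟩
    rw [powMonoidHom_apply, pow_one, inv_pow, inv_eq_iff_mul_eq_one]
    have h2 : Additive.toMul (((1 : AddMonoid.End (Additive V)) ^ p + A ^ p + (p : AddMonoid.End (Additive V)) * 1 * A * r) (Additive.ofMul w))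
        = w * E p w * Additive.toMul ((1 * A * r) (Additive.ofMul w)) ^ p := by
      rw [← hAk, one_pow, mul_assoc (p : AddMonoid.End (Additive V)) 1 A,
        mul_assoc (p : AddMonoid.End (Additive V)) (1 * A) r]
      show _ * _ * Additive.toMul ((p : AddMonoid.End (Additive V)) ((1 * A * r) (Additive.ofMul w))) = _
      rw [AddMonoid.End.natCast_apply, toMul_nsmul]
      rfl
    rw [h2, MulAut.one_apply] at h
    rwa [mul_assoc, mul_eq_left, mul_comm] at h
  -- hence `ν ^ 2` does
  have hK : ∀ k, D ≤ D.comap (E k) := fun k w hw => Elayer k 1 w hw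
  have hmono : ∀ k, D.comap (E k) ≤ D.comap (E (k + 1)) := fun k w hw => by
    show E (k + 1) w ∈ D
    rw [add_comm, Eadd]
    exact Elayer 1 1 _ hw
  have hstab : ∀ k, D.comap (E k) = D.comap (E (k + 1)) → ∀ l, ∀ w, E (k + l) w ∈ D → E k w ∈ D := by
    intro k hk l
    induction l with
    | zero => exact fun w h => h
    | succ l ih =>
      intro w h
      rw [← add_assoc, Es] at h
      have h' := ih (ν w) h
      rw [← Es] at h'
      exact (SetLike.ext_iff.1 hk w).2 h'
  have htop : ∀ k ≤ p, D.comap (E k) = D.comap (E (k + 1)) → D.comap (E k) = ⊤ := fun k hkp hk =>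
    eq_top_iff.2 fun w _ => hstab k hk (p - k) w (by rw [Nat.add_sub_cancel' hkp]; exact hnil w)
  have h0 : D.comap (E 0) = D := by ext w; simp [E0]
  have hne : D.comap (E 0) ≠ ⊤ := by
    rw [h0]
    intro h
    rw [h, Subgroup.index_top] at h1
    exact (one_lt_pow₀ hp.one_lt two_ne_zero).ne h1
  have hlt : D.comap (E 0) ≠ D.comap (E 1) := fun h => hne (htop 0 (Nat.zero_le _) h)
  have hsq : ∀ w, E 2 w ∈ D := by
    have hd : (D.comap (E 1)).index ∣ p := by
      have hdvd := Subgroup.relIndex_mul_index (hK 1)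
      rw [h1] at hdvd
      have h2 : D.relIndex (D.comap (E 1)) ≠ 1 := fun h => by
        apply hlt
        rw [h0]
        exact le_antisymm (hK 1) (Subgroup.relIndex_eq_one.1 h)
      obtain ⟨i, hi, hie⟩ := (Nat.dvd_prime_pow hp).1 (Dvd.intro _ hdvd)
      rcases i with - | i
      · exact absurd hie h2
      · rw [hie] at hdvd
        refine ⟨p ^ i, Nat.eq_of_mul_eq_mul_left hp.pos ?_⟩
        calc p * p = p ^ 2 := (pow_two p).symm
          _ = p ^ (i + 1) * (D.comap (E 1)).index := hdvd.symm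
          _ = p * ((D.comap (E 1)).index * p ^ i) := by ring
    intro w
    rcases (Nat.dvd_prime hp).1 hd with h | h
    · rw [Subgroup.index_eq_one] at h
      have : w ∈ D.comap (E 1) := h ▸ Subgroup.mem_top w
      exact hmono 1 this
    · by_contra hw
      have hne1 : D.comap (E 1) ≠ D.comap (E 2) := fun e => by
        have h2 := htop 1 hp.one_le e
        rw [h2, Subgroup.index_top] at h
        exact hp.ne_one h.symm
      have hd2 := Subgroup.relIndex_mul_index (hmono 1)
      rw [h] at hd2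
      rcases (Nat.dvd_prime hp).1 (Dvd.intro_left _ hd2) with h3 | h3
      · rw [Subgroup.index_eq_one] at h3
        exact hw (show w ∈ D.comap (E 2) from h3 ▸ Subgroup.mem_top w)
      · rw [h3] at hd2
        exact hne1 (le_antisymm (hmono 1) (Subgroup.relIndex_eq_one.1
          (Nat.eq_of_mul_eq_mul_right hp.pos (hd2.trans (one_mul p).symm))))
  -- expansion modulo the second layer
  have h4 : ∀ w, E 4 w ∈ agemo V p 2 := by
    intro w
    obtain ⟨y, hy⟩ := hsq w
    obtain ⟨z, hz⟩ := hsq y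
    rw [powMonoidHom_apply] at hy hz
    refine ⟨z, ?_⟩
    rw [powMonoidHom_apply, show (4 : ℕ) = 2 + 2 from rfl, Eadd 2 2 w, ← hy, map_pow, ← hz, ← pow_mul, ← pow_add]
  set q := QuotientGroup.mk' (agemo V p 2) with hq
  have hexp : ∀ n : ℕ, ∀ w, q ((α ^ n) w) =
      q w * q (E 1 w) ^ n * q (E 2 w) ^ n.choose 2 * q (E 3 w) ^ n.choose 3 := by
    intro n
    induction n with
    | zero => intro w; simp
    | succ n ih =>
      intro w
      rw [pow_succ, MulAut.mul_apply, hα', map_mul, map_mul, ih, ih, ← Es, ← Es, ← Es,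
        show E 1 w = ν w from by rw [Es 0 w, E0]]
      simp only [Nat.reduceAdd]
      have hz : q (E 4 w) = 1 := (QuotientGroup.eq_one_iff _).2 (h4 w)
      rw [hz, one_pow, mul_one, Nat.choose_succ_succ' n 1, Nat.choose_succ_succ' n 2, Nat.choose_one_right,
        pow_succ]
      simp only [Nat.reduceAdd, pow_add]
      ac_rfl
  have hkill : ∀ k, 2 ≤ k → k < p → ∀ w, q (E k w) ^ p.choose k = 1 := by
    intro k hk hkp w
    obtain ⟨c, hc⟩ := hp.dvd_choose_self (by omega) hkp
    have hmem : E k w ^ p ∈ agemo V p 2 := by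
      obtain ⟨l, rfl⟩ := Nat.exists_eq_add_of_le hk
      rw [add_comm, Eadd l 2 w, ← map_pow]
      refine Elayer _ 2 _ ?_
      obtain ⟨y, hy⟩ := hsq w
      rw [powMonoidHom_apply] at hy
      exact ⟨y, by rw [powMonoidHom_apply, pow_succ, pow_mul, hy]⟩
    have hq1 : q (E k w ^ p) = 1 := (QuotientGroup.eq_one_iff _).2 hmem
    rw [hc, pow_mul, ← map_pow, hq1, one_pow]
  have h := hexp p x
  rw [hα, MulAut.one_apply, hkill 2 le_rfl (by omega), hkill 3 (by omega) (by omega), mul_one, mul_one,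
    left_eq_mul, ← map_pow, hq, QuotientGroup.mk'_apply, QuotientGroup.eq_one_iff] at h
  obtain ⟨z, hz⟩ := h
  rw [powMonoidHom_apply, pow_succ, pow_mul, pow_one, show E 1 x = ν x from by rw [Es 0 x, E0]] at hz
  have hmem : (ν x) * (z ^ p)⁻¹ ∈ (powMonoidHom (p ^ 1) : V →* V).ker := by
    rw [MonoidHom.mem_ker, powMonoidHom_apply, pow_one, mul_pow, inv_pow, hz]
    exact mul_inv_cancel _
  have := mul_mem (hker hmem) (show z ^ p ∈ D from ⟨z, by rw [powMonoidHom_apply, pow_one]⟩)
  rwa [inv_mul_cancel_right] at this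

end Layers

end Cfsg.Agent.H29
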