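import Mathlib

/-!
# Subgroups isomorphic to `A₄` in `GL₂(ℤ/2ᵏ)`
-/

set_option autoImplicit false

namespace Cfsg.Agent.H29.AltFour

variable {k : ℕ}

local notation "R" => ZMod (2 ^ k)

/-- The general element `(x + yω) + (u + vω)s` of the matrix ring. -/
def mat (x y u v : R) : Matrix (Fin 2) (Fin 2) R := !![x + u, -y - u + v; y + v, x - y - u]

theorem mat_mul (x y u v x' y' u' v' : R) :
    mat x y u v * mat x' y' u' v' =
      mat (x * x' - y * y' + (u * u' - u * v' + v * v'))
        (x * y' + y * x' - y * y' + (v * u' - u * v'))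
        (x * u' - y * v' + (u * x' - u * y' + v * y'))
        (x * v' + y * u' - y * v' + (v * x' - u * y')) := by
  ext i j
  fin_cases i <;> fin_cases j <;> simp [mat, Matrix.mul_apply, Fin.sum_univ_two] <;> ring

/-- An element of `ℤ/2ᵏ` is a unit or a multiple of two. -/
theorem isUnit_or_two_mul (x : R) : IsUnit x ∨ ∃ y, x = 2 * y := by
  rcases Nat.even_or_odd x.val with ⟨m, hm⟩ | h
  · refine Or.inr ⟨m, ?_⟩
    rw [← ZMod.natCast_zmod_val x, hm]
    push_cast
    ring
  · refine Or.inl ?_
    rw [← ZMod.natCast_zmod_val x, ZMod.isUnit_iff_coprime]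
    exact Nat.Coprime.pow_right _ (Nat.coprime_two_right.2 h)

theorem two_isNilpotent : IsNilpotent (2 : R) :=
  ⟨k, by
    have h := ZMod.natCast_self (2 ^ k)
    push_cast at h
    exact h⟩

theorem isUnit_two_mul_add_one (y : R) : IsUnit (2 * y + 1) := by
  have h : IsNilpotent (2 * y : R) := (Commute.all _ _).isNilpotent_mul_right two_isNilpotent
  simpa [add_comm] using h.isUnit_one_add

theorem isUnit_three : IsUnit (3 : R) := by
  have h := isUnit_two_mul_add_one (k := k) 1
  norm_num at h ⊢
  exact h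

/-- Every matrix has coordinates. -/
theorem exists_mat (A : Matrix (Fin 2) (Fin 2) R) : ∃ x y u v, A = mat x y u v := by
  obtain ⟨t, ht⟩ := isUnit_three.exists_right_inv (M := R)
  let s : R := t * (A 1 1 + A 0 0)
  let r : R := t * (A 0 1 + A 0 0 - A 1 0)
  let x : R := 2 * s - r
  let y : R := s - 2 * r
  refine ⟨x, y, A 0 0 - x, A 1 0 - y, ?_⟩
  ext i j
  fin_cases i <;> fin_cases j <;> simp [mat, x, y, s, r]
  · linear_combination (-(A 0 1 + A 0 0 - A 1 0)) * ht
  · linear_combination (-(A 1 1 + A 0 0)) * ht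

theorem mat_inj {x y u v x' y' u' v' : R} (h : mat x y u v = mat x' y' u' v') :
    x = x' ∧ y = y' ∧ u = u' ∧ v = v' := by
  have h00 := congrArg (fun M => M 0 0) h
  have h01 := congrArg (fun M => M 0 1) h
  have h10 := congrArg (fun M => M 1 0) h
  have h11 := congrArg (fun M => M 1 1) h
  simp [mat] at h00 h01 h10 h11
  obtain ⟨t, ht⟩ := isUnit_three.exists_right_inv (M := R)
  have hy : y = y' := by
    linear_combination t * (h00 + h11) - t * 2 * (h01 + h00 - h10) - (y - y') * ht
  have hx : x = x' := by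
    linear_combination t * 2 * (h00 + h11) - t * (h01 + h00 - h10) - (x - x') * ht
  exact ⟨hx, hy, by linear_combination h00 - hx, by linear_combination h10 - hy⟩

/-- The companion matrix of `X² + X + 1`. -/
def cyc : Matrix (Fin 2) (Fin 2) R := mat 0 1 0 0

theorem cyc_sq : (cyc : Matrix (Fin 2) (Fin 2) R) * cyc = mat (-1) (-1) 0 0 := by
  rw [cyc, mat_mul]; congr 1 <;> ring

theorem cyc_conj (x y u v : R) : cyc * mat x y u v * (cyc * cyc) = mat x y (-u + v) (-u) := by
  rw [cyc_sq, cyc, mat_mul, mat_mul]; congr 1 <;> ring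

theorem sq_conj (x y u v : R) : cyc * cyc * mat x y u v * cyc = mat x y (-v) (u - v) := by
  rw [cyc_sq, cyc, mat_mul, mat_mul]; congr 1 <;> ring

theorem half_or_zero (hk : 1 ≤ k) {u : R} (hu : u + u = 0) :
    u = 0 ∨ u = ((2 ^ (k - 1) : ℕ) : R) := by
  obtain ⟨m, rfl⟩ : ∃ m, k = m + 1 := ⟨k - 1, by omega⟩
  have hdvd : 2 ^ (m + 1) ∣ u.val + u.val := by
    rw [← ZMod.natCast_eq_zero_iff, Nat.cast_add, ZMod.natCast_zmod_val, hu]
  obtain ⟨c, hc⟩ := hdvd
  have hlt := ZMod.val_lt u
  have h2 : 2 ^ (m + 1) = 2 * 2 ^ m := pow_succ' 2 m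
  have hc2 : c = 0 ∨ c = 1 := by
    rcases Nat.lt_or_ge c 2 with h | h
    · omega
    · have := Nat.mul_le_mul_left (2 ^ (m + 1)) h
      omega
  rcases hc2 with rfl | rfl
  · exact Or.inl ((ZMod.val_eq_zero u).1 (by omega))
  · right
    rw [← ZMod.natCast_zmod_val u]
    congr 1
    simp only [Nat.add_sub_cancel]
    omega

/-- An involution which commutes with its conjugate under `cyc` and multiplies with it to the other
one is one of the three standard ones. -/
theorem eq_standard (hk : 1 ≤ k) (A : Matrix (Fin 2) (Fin 2) R) (h2 : A * A = 1) (h1 : A ≠ 1)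
    (hc : A * (cyc * A * (cyc * cyc)) = cyc * A * (cyc * cyc) * A)
    (hp : A * (cyc * A * (cyc * cyc)) = cyc * cyc * A * cyc) :
    A = mat 1 0 ((2 ^ (k - 1) : ℕ) : R) 0 ∨
      cyc * A * (cyc * cyc) = mat 1 0 ((2 ^ (k - 1) : ℕ) : R) 0 ∨
      cyc * cyc * A * cyc = mat 1 0 ((2 ^ (k - 1) : ℕ) : R) 0 := by
  obtain ⟨x, y, u, v, rfl⟩ := exists_mat A
  have hone : (1 : Matrix (Fin 2) (Fin 2) R) = mat 1 0 0 0 := by
    ext i j; fin_cases i <;> fin_cases j <;> simp [mat]
  rw [mat_mul, hone] at h2
  rw [cyc_conj, mat_mul, mat_mul] at hc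
  rw [cyc_conj, sq_conj, mat_mul] at hp
  obtain ⟨a1, a2, a3, a4⟩ := mat_inj h2
  obtain ⟨c1, -, -, -⟩ := mat_inj hc
  obtain ⟨p1, p2, -, -⟩ := mat_inj hp
  have hN : u * u - u * v + v * v = 0 := by linear_combination c1
  have hx : x = 1 := by linear_combination a1 - p1 - hN
  have hy : y = 0 := by linear_combination a2 - p2 + hN
  subst hx hy
  have hu : u + u = 0 := by linear_combination a3
  have hv : v + v = 0 := by linear_combination a4
  set h : R := ((2 ^ (k - 1) : ℕ) : R) with hh
  have hhh : h + h = 0 := by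
    rw [hh, ← Nat.cast_add, ← two_mul, ← pow_succ', Nat.sub_add_cancel hk, ZMod.natCast_self]
  rw [cyc_conj, sq_conj]
  rcases half_or_zero hk hu with rfl | rfl <;> rcases half_or_zero hk hv with rfl | rfl
  · exact absurd hone.symm h1
  · right; left; congr 1 <;> ring
  · left; rfl
  · right; right
    congr 1
    · linear_combination -hhh
    · ring

/-- A matrix of order three satisfies `W² + W + 1 = 0`. -/
theorem sq_add_self_add_one (W : Matrix (Fin 2) (Fin 2) R) (h3 : W * W * W = 1) (h1 : W ≠ 1) :
    W * W + W + 1 = 0 := by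
  set a := W 0 0 with ha
  set b := W 0 1 with hb
  set c := W 1 0 with hc
  set d := W 1 1 with hd
  have hdet3 : (a * d - b * c) * (a * d - b * c) * (a * d - b * c) = 1 := by
    have := congrArg Matrix.det h3
    rwa [Matrix.det_mul, Matrix.det_mul, Matrix.det_one, Matrix.det_fin_two, ← ha, ← hb, ← hc,
      ← hd] at this
  set D := a * d - b * c with hD
  have hD1 : D = 1 := by
    have hDu : IsUnit D := IsUnit.of_mul_eq_one (D * D) (by rw [← mul_assoc]; exact hdet3)
    have hu : IsUnit (D * D + D + 1) := by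
      obtain ⟨z, hz⟩ : ∃ z, D * (D + 1) = 2 * z := by
        have key : ∀ x : R, ∃ z, x * (x + 1) = 2 * z := fun x => by
          rw [← ZMod.natCast_zmod_val x]
          obtain ⟨z, hz⟩ := Nat.even_mul_succ_self x.val
          refine ⟨z, ?_⟩
          have := congrArg (fun n : ℕ => (n : R)) hz
          push_cast at this
          linear_combination this
        exact key D
      rw [show D * D + D + 1 = 2 * z + 1 by linear_combination hz]
      exact isUnit_two_mul_add_one _
    have hz : (D - 1) * (D * D + D + 1) = 0 := by linear_combination hdet3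
    exact sub_eq_zero.1 (hu.mul_left_eq_zero.1 hz)
  set T := a + d with hT
  have e00 : a * a * a + 2 * a * b * c + b * c * d = 1 := by
    have := congrFun (congrFun h3 0) 0
    simp [Matrix.mul_apply, Fin.sum_univ_two, ← ha, ← hb, ← hc, ← hd] at this
    linear_combination this
  have e01 : b * (a * a + a * d + d * d + b * c) = 0 := by
    have := congrFun (congrFun h3 0) 1
    simp [Matrix.mul_apply, Fin.sum_univ_two, ← ha, ← hb, ← hc, ← hd] at this
    linear_combination this
  have e10 : c * (a * a + a * d + d * d + b * c) = 0 := by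
    have := congrFun (congrFun h3 1) 0
    simp [Matrix.mul_apply, Fin.sum_univ_two, ← ha, ← hb, ← hc, ← hd] at this
    linear_combination this
  have e11 : d * d * d + 2 * b * c * d + a * b * c = 1 := by
    have := congrFun (congrFun h3 1) 1
    simp [Matrix.mul_apply, Fin.sum_univ_two, ← ha, ← hb, ← hc, ← hd] at this
    linear_combination this
  have hT1 : T + 1 = 0 := by
    have f00 : (T + 1) * ((T - 1) * a - 1) = 0 := by linear_combination e00 + (2 * a + d) * hD1
    have f01 : (T + 1) * (T - 1) * b = 0 := by linear_combination e01 + b * hD1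
    have f10 : (T + 1) * (T - 1) * c = 0 := by linear_combination e10 + c * hD1
    have f11 : (T + 1) * ((T - 1) * d - 1) = 0 := by linear_combination e11 + (2 * d + a) * hD1
    rcases isUnit_or_two_mul (T + 1) with h | ⟨y, hy⟩
    · exfalso
      have g00 := h.mul_right_eq_zero.1 f00
      have g11 := h.mul_right_eq_zero.1 f11
      have g01 := h.mul_right_eq_zero.1 ((mul_assoc _ _ _).symm.trans f01)
      have g10 := h.mul_right_eq_zero.1 ((mul_assoc _ _ _).symm.trans f10)
      have ht : IsUnit (T - 1) := IsUnit.of_mul_eq_one a (by linear_combination g00)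
      have hb0 : b = 0 := ht.mul_right_eq_zero.1 g01
      have hc0 : c = 0 := ht.mul_right_eq_zero.1 g10
      have had : a = d := ht.mul_left_cancel (by linear_combination g00 - g11)
      have hau : IsUnit a := IsUnit.of_mul_eq_one d (by rw [← hD1, hD, hb0]; ring)
      have haa : a * a = 1 := by rw [← hD1, hD, hb0, ← had]; ring
      have ha3 : a * a * a = 1 := by linear_combination e00 - (2 * a * b + b * d) * hc0
      have ha1 : a = 1 := by linear_combination ha3 - a * haa
      apply h1
      ext i j
      fin_cases i <;> fin_cases j <;> simp [← ha, ← hb, ← hc, ← hd, hb0, hc0, ← had, ha1]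
    · have hu : IsUnit ((T - 1) * a - 1) := by
        rw [show (T - 1) * a - 1 = 2 * (y * a - a - 1) + 1 by linear_combination a * hy]
        exact isUnit_two_mul_add_one _
      exact hu.mul_left_eq_zero.1 f00
  ext i j
  fin_cases i <;> fin_cases j <;>
    simp [Matrix.mul_apply, Fin.sum_univ_two, ← ha, ← hb, ← hc, ← hd]
  · linear_combination a * hT1 - hD1
  · linear_combination b * hT1
  · linear_combination c * hT1
  · linear_combination d * hT1 - hD1

end Cfsg.Agent.H29.AltFour
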