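import Mathlib

/-!
Certificates for linear combinations of cubic moment identities.
-/

namespace Cfsg.Agent.H29.Cube

/-- Nine coefficients of a cubic form without pure third power of the last variable. -/
@[ext] structure Lam where
  l0 : ℤ
  l1 : ℤ
  l2 : ℤ
  l3 : ℤ
  l4 : ℤ
  l5 : ℤ
  l6 : ℤ
  l7 : ℤ
  l8 : ℤ

/-- Multipliers for the four identities without the last variable. -/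
def configLams : List Lam := [
  ⟨0, 1, -1, 0, 0, 0, 0, 0, 0⟩,
  ⟨-1, 3, -2, 0, 0, 0, 0, 0, 0⟩,
  ⟨1, 0, -1, 0, 0, 0, 0, 0, 0⟩,
  ⟨0, 2, -1, 0, 0, 0, 0, 0, 0⟩,
  ⟨-1, 0, 1, 0, 0, 0, 0, 0, 0⟩,
  ⟨0, 2, -3, 1, 0, 0, 0, 0, 0⟩,
  ⟨0, 1, 0, -1, 0, 0, 0, 0, 0⟩,
  ⟨0, 2, 1, -1, 0, 0, 0, 0, 0⟩
]

/-- Directions for the degree argument. -/
def degDirs : List (ℤ × ℤ) := [
  (-2, -2),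
  (-2, 0),
  (-2, 1),
  (-2, 2),
  (-1, 2),
  (0, -2),
  (0, 1),
  (1, -2),
  (1, -1),
  (1, 0)
]

/-- Sign certificates. -/
def sevenSign : List Lam := [
  ⟨0, 12, -18, 6, 0, -22, 9, 0, 3⟩,
  ⟨0, -4, 10, -4, 0, 6, -5, 0, -1⟩,
  ⟨0, -6, 15, -6, 0, 7, -5, 0, -1⟩,
  ⟨0, 0, 0, 0, 0, -6, 3, 0, 1⟩,
  ⟨0, 0, 0, 0, 0, 5, -4, 0, -1⟩,
  ⟨0, 40, -60, 20, 0, 60, 9, 0, 1⟩,
  ⟨0, 6, -3, 0, 0, -1, 0, 0, 0⟩,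
  ⟨0, 0, 0, 0, 0, 4, -5, 0, -1⟩,
  ⟨0, -50, 125, -50, 0, 47, -25, 0, -3⟩,
  ⟨0, 0, 0, 0, 0, -5, 4, 0, 1⟩,
  ⟨0, 6, -15, 6, 0, -7, 5, 0, 1⟩,
  ⟨0, 0, 0, 0, 0, 16, -11, 0, -3⟩,
  ⟨0, 0, 0, 0, 0, 1, 0, 0, 1⟩,
  ⟨0, 0, 0, 0, 0, -3, -3, 0, 2⟩,
  ⟨0, 50, -65, 20, 0, -15, 9, 0, 1⟩,
  ⟨0, 98, 98, -90, 0, 28, -63, 0, -9⟩,
  ⟨0, -96, 288, -192, 0, -288, 125, 0, 53⟩,
  ⟨0, 12, -6, 0, 0, 4, -3, 0, -1⟩,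
  ⟨0, 54, -81, 27, 0, 81, 81, 0, -2⟩,
  ⟨0, 12, -12, 3, 0, -8, 4, 0, 1⟩,
  ⟨0, 24, -24, 6, 0, -10, 5, 0, 1⟩,
  ⟨0, 132, 126, -132, 0, 36, -77, 0, -11⟩,
  ⟨0, -152, 419, -230, 0, 111, -131, 0, -17⟩,
  ⟨0, -15, 39, -18, 0, 8, -9, 0, -1⟩,
  ⟨0, 79, -81, 20, 0, -20, 9, 0, 1⟩,
  ⟨0, -26, 71, -38, 0, 49, -47, 0, -9⟩,
  ⟨0, 24, -12, 0, 0, 9, -5, 0, -1⟩,
  ⟨0, 10, -25, 10, 0, -15, 17, 0, 3⟩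
]

/-- Congruence certificates. -/
def sevenCong : List (ℤ × Lam) := [
  (72, ⟨0, 0, -1, 0, 0, -1, 0, 0, 0⟩),
  (162, ⟨0, 26, -9, -8, 0, -2, -6, 0, -1⟩),
  (36, ⟨0, 8, -4, -4, 0, 0, -5, 0, -1⟩),
  (1944, ⟨0, 10, -13, 4, 0, -2, 1, 0, 0⟩),
  (81, ⟨0, -14, 18, -4, 0, -1, 3, 0, 1⟩),
  (486, ⟨0, 0, 0, 0, 0, -1, 2, 0, 1⟩),
  (729, ⟨0, 0, 0, 0, 0, -1, -1, 0, -1⟩),
  (72, ⟨0, 4, 2, -6, 0, 0, -5, 0, -1⟩),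
  (72, ⟨0, 0, 0, -2, 0, 0, -3, 0, -1⟩),
  (288, ⟨0, 15, 8, -12, 0, -2, -8, 0, -1⟩),
  (72, ⟨0, 5, 1, -6, 0, -4, -7, 0, -1⟩),
  (81, ⟨0, 8, -18, 10, 0, -1, 7, 0, 1⟩)
]

/-- Sign certificates. -/
def fiveSign : List Lam := [
  ⟨200, -700, 700, -200, 700, -700, -133, -148, 15⟩,
  ⟨264, 264, 264, -231, -264, -264, 62, -54, -41⟩,
  ⟨30, -45, -45, 30, -16, -45, 43, 2, 10⟩,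
  ⟨126, -153, 153, -54, 153, -153, 0, -29, 11⟩,
  ⟨0, 0, 0, 0, 0, -1, -1, -1, -1⟩,
  ⟨18, -63, 63, -18, -63, -63, 63, 19, 28⟩,
  ⟨230, -805, 805, -230, 805, 805, -374, 317, 301⟩,
  ⟨4, -20, 29, -10, -2, 9, -5, 0, -1⟩,
  ⟨10512, 10512, 10512, -9198, -10512, -10512, 8889, -374, 857⟩,
  ⟨0, 0, 0, 0, -28, -27, 28, 3, 6⟩,
  ⟨-10, -33, 135, -58, -135, 51, 135, 10, 7⟩,
  ⟨-6, 9, 9, -6, -9, -9, 9, 1, 2⟩,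
  ⟨72, -252, 252, -72, -110, -252, 252, 23, 87⟩,
  ⟨270, -945, 945, -270, 506, -945, 457, -112, 130⟩,
  ⟨-1506, 2283, 2283, -1524, 1902, -2283, 637, -396, 140⟩,
  ⟨144, 144, 144, -126, 33, -144, -144, 22, 29⟩,
  ⟨20, -70, 70, -20, -56, -70, -70, -37, -41⟩,
  ⟨2, -3, -3, 2, 0, -3, -3, -2, -2⟩,
  ⟨560, -1698, 1305, -298, 1698, -1698, 387, -362, 106⟩,
  ⟨-14, 21, 21, -14, 19, -10, -2, -5, -2⟩,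
  ⟨-30, 45, 45, -30, 41, -45, 13, -7, 4⟩,
  ⟨80, -280, 280, -80, -224, -280, -280, 51, 35⟩,
  ⟨120, 120, 120, -105, 120, -120, -94, -90, -71⟩,
  ⟨18, -24, -12, -24, 17, -24, 7, 18, 24⟩,
  ⟨80, -120, -120, 80, 120, -120, 111, -35, 4⟩,
  ⟨18, -63, 63, -18, 63, -63, 63, 40, 63⟩,
  ⟨34, -125, 134, -40, 134, 134, -1, 130, 134⟩,
  ⟨-80, 120, 120, -80, 62, -44, 2, -11, 1⟩
]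

/-- Congruence certificates. -/
def fiveCong : List (ℤ × Lam) := [
  (324, ⟨0, 1, 0, -1, -1, -1, 0, 1, 1⟩)
]

end Cfsg.Agent.H29.Cube
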