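import Cfsg.Agent.H29.DihNineSearch

/-!
No system of rows on the special classes fits a simple group.
-/

set_option linter.unusedSectionVars false

namespace Cfsg.Agent.H29.DihNine

/-- The value of a row on the first class of elements of order three. -/
def valX (c : R4) : ℤ := 2 * (c.1 + c.2.1) - (c.2.2.1 + c.2.2.2)

/-- The value of a row on the second class of elements of order three. -/
def valY (c : R4) : ℤ := 2 * (c.2.2.1 + c.2.2.2) - (c.1 + c.2.1)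

/-- The rows of the non-principal characters with their signed degrees. -/
structure Rows {ι : Type*} (S : Finset ι) (c : ι → R4) (D : ι → ℤ) (g : ℤ) : Prop where
  cand : ∀ χ ∈ S, c χ ∈ cands ∧ c χ ≠ 0
  moments : mom (S.val.map c) = gram0
  dega : ∑ χ ∈ S, (c χ).1 * D χ = -1
  degb : ∑ χ ∈ S, (c χ).2.1 * D χ = 0
  degc : ∑ χ ∈ S, (c χ).2.2.1 * D χ = -1
  degd : ∑ χ ∈ S, (c χ).2.2.2 * D χ = 0
  res : ∀ χ ∈ S, D χ % 9 = (2 * valY (c χ) - valX (c χ)) % 9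
  two : ∀ χ ∈ S, D χ ≠ 0 ∧ D χ ≠ 1 ∧ D χ ≠ valX (c χ)
  sone : (g : ℚ) * (1 + ∑ χ ∈ S, ((valX (c χ) * valX (c χ) * valY (c χ) : ℤ) : ℚ) / D χ) = 648
  stwo : (g : ℚ) * (1 + ∑ χ ∈ S, ((valX (c χ) * valY (c χ) * valY (c χ) : ℤ) : ℚ) / D χ) = 648
  sq : 1 + ∑ χ ∈ S, D χ * D χ ≤ g
  gmod : g % 648 = 72
  ne : g ≠ 720
  seven : ∀ χ ∈ S, |D χ| ≤ 5 → (7 : ℤ) ∣ g → ∃ χ' ∈ S, χ' ≠ χ ∧ c χ' = c χ

theorem exists_perm_map {α β : Type*} (c : α → β) {L L' : List β} (h : L.Perm L') :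
    ∀ l : List α, l.map c = L → ∃ l', l.Perm l' ∧ l'.map c = L' := by
  induction h with
  | nil => exact fun l hl => ⟨l, List.Perm.refl _, hl⟩
  | cons x _ ih =>
    intro l hl
    obtain ⟨a, t, rfl, ha, ht⟩ := List.map_eq_cons_iff.1 hl
    obtain ⟨t', h1, h2⟩ := ih t ht
    exact ⟨a :: t', h1.cons a, by rw [List.map_cons, h2, ha]⟩
  | swap x y l =>
    intro l' hl
    obtain ⟨a, t, rfl, ha, ht⟩ := List.map_eq_cons_iff.1 hl
    obtain ⟨b, u, rfl, hb, hu⟩ := List.map_eq_cons_iff.1 ht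
    exact ⟨b :: a :: u, List.Perm.swap b a u, by rw [List.map_cons, List.map_cons, ha, hb, hu]⟩
  | trans _ _ ih1 ih2 =>
    intro l hl
    obtain ⟨l1, p1, e1⟩ := ih1 l hl
    obtain ⟨l2, p2, e2⟩ := ih2 l1 e1
    exact ⟨l2, p1.trans p2, e2⟩

theorem no_inv_sum {p q r : ℤ} (hp : p % 9 = 5) (hq : q % 9 = 5) (hr : r % 9 = 5)
    (h : (1 : ℚ) / p + 1 / q + 1 / r = 0) : False := by
  have hp0 : (p : ℚ) ≠ 0 := by exact_mod_cast (show p ≠ 0 by omega)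
  have hq0 : (q : ℚ) ≠ 0 := by exact_mod_cast (show q ≠ 0 by omega)
  have hr0 : (r : ℚ) ≠ 0 := by exact_mod_cast (show r ≠ 0 by omega)
  field_simp at h
  have h' : q * r + p * r + p * q = 0 := by
    have : ((q * r + p * r + p * q : ℤ) : ℚ) = 0 := by push_cast; linarith
    exact_mod_cast this
  have := congrArg (· % 9) h'
  simp [Int.add_emod, Int.mul_emod, hp, hq, hr] at this

theorem two_res (k : ℤ) (h : k % 9 = 1) (h1 : k ≠ 1) : 8 ≤ |k| := by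
  rcases abs_cases k with ⟨e, f⟩ | ⟨e, f⟩ <;> omega

theorem small_box {k : ℤ} (h : k % 9 = 1) (h1 : k ≠ 1) (hb : k * k ≤ 5184) : k ∈ boxVals := by
  have hl : -72 ≤ k := by nlinarith
  have hu : k ≤ 73 := by nlinarith
  simp only [boxVals, List.mem_filter, List.mem_map, List.mem_range, decide_eq_true_eq]
  exact ⟨⟨((k - 1) / 9 + 8).toNat, by omega, by omega⟩, h1⟩

variable {ι : Type*} {S : Finset ι} {c : ι → R4} {D : ι → ℤ} {g : ℤ}

theorem Rows.exists_list (h : Rows S c D g) : ∃ L ∈ configs, ∃ l : List ι, l.map c = L ∧ (∀ x ∈ l, x ∈ S) ∧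
    (∀ f : ι → ℤ, ∑ χ ∈ S, f χ = (l.map f).sum) ∧ ∀ f : ι → ℚ, ∑ χ ∈ S, f χ = (l.map f).sum := by
  obtain ⟨L, hL, e⟩ := explore_sound 14 cands gram0 [] explore_all (S.val.map c)
    (fun x hx => by obtain ⟨χ, hχ, rfl⟩ := Multiset.mem_map.1 hx; exact (h.cand χ hχ).1)
    (fun x hx => by obtain ⟨χ, hχ, rfl⟩ := Multiset.mem_map.1 hx; exact (h.cand χ hχ).2) h.moments
  rw [Multiset.coe_nil, add_zero] at e
  have hp : (S.toList.map c).Perm L := by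
    rw [← Multiset.coe_eq_coe, ← Multiset.map_coe, Finset.coe_toList, e]
  obtain ⟨l, hl, hlc⟩ := exists_perm_map c hp _ rfl
  refine ⟨L, hL, l, hlc, fun x hx => Finset.mem_toList.1 (hl.mem_iff.2 hx), fun f => ?_, fun f => ?_⟩ <;>
    rw [← Finset.sum_map_toList] <;> exact (hl.map f).sum_eq

theorem Rows.false_zero (h : Rows S c D g) {a₁ a₂ a₃ a₄ a₅ a₆ a₇ : ι}
    (hc : [a₁, a₂, a₃, a₄, a₅, a₆, a₇].map c = [(1, 1, 1, 1), (1, 1, 0, 1), (1, -1, 0, 0), (0, 1, 1, 0),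
      (0, 0, 1, 0), (0, 0, 0, 1), (0, 0, 0, 1)])
    (hm : ∀ x ∈ [a₁, a₂, a₃, a₄, a₅, a₆, a₇], x ∈ S)
    (hq : ∀ f : ι → ℚ, ∑ χ ∈ S, f χ = ([a₁, a₂, a₃, a₄, a₅, a₆, a₇].map f).sum) : False := by
  simp only [List.map_cons, List.map_nil, List.cons.injEq, and_true] at hc
  obtain ⟨c1, c2, c3, c4, c5, c6, c7⟩ := hc
  have r5 := h.res a₅ (hm _ (by simp))
  have r6 := h.res a₆ (hm _ (by simp))
  have r7 := h.res a₇ (hm _ (by simp))
  have e1 := h.sone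
  have e2 := h.stwo
  simp only [hq, List.map_cons, List.map_nil, List.sum_cons, List.sum_nil, c1, c2, c3, c4, c5, c6, c7, valX,
    valY] at e1 e2 r5 r6 r7
  norm_num at e1 e2 r5 r6 r7
  have hg : (g : ℚ) ≠ 0 := by intro hh; rw [hh] at e1; norm_num at e1
  have e := mul_left_cancel₀ hg (e1.trans e2.symm)
  exact no_inv_sum r5 r6 r7 (by linear_combination e / 6)

theorem Rows.false_four (h : Rows S c D g) {a₁ a₂ a₃ a₄ a₅ a₆ a₇ : ι}
    (hc : [a₁, a₂, a₃, a₄, a₅, a₆, a₇].map c = [(1, 1, 1, 1), (1, 0, 0, 1), (1, 0, 0, 0), (0, 1, 1, 1),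
      (0, 1, 0, 0), (0, 1, 0, 0), (0, 0, 1, -1)])
    (hm : ∀ x ∈ [a₁, a₂, a₃, a₄, a₅, a₆, a₇], x ∈ S)
    (hq : ∀ f : ι → ℚ, ∑ χ ∈ S, f χ = ([a₁, a₂, a₃, a₄, a₅, a₆, a₇].map f).sum) : False := by
  simp only [List.map_cons, List.map_nil, List.cons.injEq, and_true] at hc
  obtain ⟨c1, c2, c3, c4, c5, c6, c7⟩ := hc
  have r3 := h.res a₃ (hm _ (by simp))
  have r5 := h.res a₅ (hm _ (by simp))
  have r6 := h.res a₆ (hm _ (by simp))
  have e1 := h.sone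
  have e2 := h.stwo
  simp only [hq, List.map_cons, List.map_nil, List.sum_cons, List.sum_nil, c1, c2, c3, c4, c5, c6, c7, valX,
    valY] at e1 e2 r3 r5 r6
  norm_num at e1 e2 r3 r5 r6
  have hg : (g : ℚ) ≠ 0 := by intro hh; rw [hh] at e1; norm_num at e1
  have e := mul_left_cancel₀ hg (e1.trans e2.symm)
  exact no_inv_sum r3 r5 r6 (by linear_combination e / (-6))

theorem Rows.false_five (h : Rows S c D g) {a₁ a₂ a₃ a₄ a₅ a₆ a₇ : ι}
    (hc : [a₁, a₂, a₃, a₄, a₅, a₆, a₇].map c = [(1, 1, 1, 0), (1, 0, 0, 1), (1, 0, 0, 1), (0, 1, 1, 1),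
      (0, 1, 0, 1), (0, 1, 0, 0), (0, 0, 1, 0)])
    (hm : ∀ x ∈ [a₁, a₂, a₃, a₄, a₅, a₆, a₇], x ∈ S)
    (hz : ∀ f : ι → ℤ, ∑ χ ∈ S, f χ = ([a₁, a₂, a₃, a₄, a₅, a₆, a₇].map f).sum)
    (hq : ∀ f : ι → ℚ, ∑ χ ∈ S, f χ = ([a₁, a₂, a₃, a₄, a₅, a₆, a₇].map f).sum) : False := by
  simp only [List.map_cons, List.map_nil, List.cons.injEq, and_true] at hc
  obtain ⟨c1, c2, c3, c4, c5, c6, c7⟩ := hc
  have e1 := h.sone
  have e2 := h.stwo
  have d1 := h.dega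
  have d2 := h.degb
  have d3 := h.degc
  have d4 := h.degd
  simp only [hz, hq, List.map_cons, List.map_nil, List.sum_cons, List.sum_nil, c1, c2, c3, c4, c5, c6, c7, valX,
    valY] at e1 e2 d1 d2 d3 d4
  norm_num at e1 e2 d1 d2 d3 d4
  have hg : (g : ℚ) ≠ 0 := by intro hh; rw [hh] at e1; norm_num at e1
  have e := mul_left_cancel₀ hg (e1.trans e2.symm)
  have h6 : (D a₆ : ℚ)⁻¹ = (D a₇ : ℚ)⁻¹ := by ring_nf at e ⊢; linarith
  have h67 : D a₆ = D a₇ := by exact_mod_cast inv_inj.1 h6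
  exact (h.two a₅ (hm _ (by simp))).2.1 (by omega)

theorem Rows.false_three (h : Rows S c D g) {a₁ a₂ a₃ a₄ a₅ a₆ a₇ : ι}
    (hc : [a₁, a₂, a₃, a₄, a₅, a₆, a₇].map c = [(1, 1, 0, 1), (1, 0, 1, 1), (1, 0, 0, 0), (0, 1, 1, 0),
      (0, 1, 1, 0), (0, 1, 0, 1), (0, 0, 0, 1)])
    (hm : ∀ x ∈ [a₁, a₂, a₃, a₄, a₅, a₆, a₇], x ∈ S)
    (hz : ∀ f : ι → ℤ, ∑ χ ∈ S, f χ = ([a₁, a₂, a₃, a₄, a₅, a₆, a₇].map f).sum)
    (hq : ∀ f : ι → ℚ, ∑ χ ∈ S, f χ = ([a₁, a₂, a₃, a₄, a₅, a₆, a₇].map f).sum) : False := by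
  simp only [List.map_cons, List.map_nil, List.cons.injEq, and_true] at hc
  obtain ⟨c1, c2, c3, c4, c5, c6, c7⟩ := hc
  have e1 := h.sone
  have e2 := h.stwo
  have d1 := h.dega
  have d2 := h.degb
  have d3 := h.degc
  have d4 := h.degd
  simp only [hz, hq, List.map_cons, List.map_nil, List.sum_cons, List.sum_nil, c1, c2, c3, c4, c5, c6, c7, valX,
    valY] at e1 e2 d1 d2 d3 d4
  norm_num at e1 e2 d1 d2 d3 d4
  have hg : (g : ℚ) ≠ 0 := by intro hh; rw [hh] at e1; norm_num at e1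
  have e := mul_left_cancel₀ hg (e1.trans e2.symm)
  have h6 : (D a₃ : ℚ)⁻¹ = (D a₇ : ℚ)⁻¹ := by ring_nf at e ⊢; linarith
  have h67 : D a₃ = D a₇ := by exact_mod_cast inv_inj.1 h6
  exact (h.two a₆ (hm _ (by simp))).2.1 (by omega)

set_option maxHeartbeats 1000000 in
theorem Rows.false_two (h : Rows S c D g) {a₁ a₂ a₃ a₄ a₅ a₆ a₇ : ι}
    (hc : [a₁, a₂, a₃, a₄, a₅, a₆, a₇].map c = [(1, 1, 0, 1), (1, 0, 1, 0), (1, 0, 0, 1), (0, 1, 1, 1),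
      (0, 1, 1, 0), (0, 1, 0, 0), (0, 0, 0, 1)])
    (hm : ∀ x ∈ [a₁, a₂, a₃, a₄, a₅, a₆, a₇], x ∈ S)
    (hz : ∀ f : ι → ℤ, ∑ χ ∈ S, f χ = ([a₁, a₂, a₃, a₄, a₅, a₆, a₇].map f).sum)
    (hq : ∀ f : ι → ℚ, ∑ χ ∈ S, f χ = ([a₁, a₂, a₃, a₄, a₅, a₆, a₇].map f).sum) : False := by
  simp only [List.map_cons, List.map_nil, List.cons.injEq, and_true] at hc
  obtain ⟨c1, c2, c3, c4, c5, c6, c7⟩ := hc
  have e1 := h.sone
  have e2 := h.stwo
  have d1 := h.dega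
  have d2 := h.degb
  have d3 := h.degc
  have d4 := h.degd
  have hsq := h.sq
  have k3 := h.res a₃ (hm _ (by simp))
  have l2 := h.res a₂ (hm _ (by simp))
  have r7 := h.res a₇ (hm _ (by simp))
  have r6 := h.res a₆ (hm _ (by simp))
  obtain ⟨n3, o3, -⟩ := h.two a₃ (hm _ (by simp))
  obtain ⟨n2, o2, -⟩ := h.two a₂ (hm _ (by simp))
  obtain ⟨n7, o7, -⟩ := h.two a₇ (hm _ (by simp))
  simp only [hz, hq, List.map_cons, List.map_nil, List.sum_cons, List.sum_nil, c1, c2, c3, c4, c5, c6, c7, valX,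
    valY] at e1 e2 d1 d2 d3 d4 hsq k3 l2 r7 r6
  norm_num at e1 e2 d1 d2 d3 d4 hsq k3 l2 r7 r6
  have hg : (g : ℚ) ≠ 0 := by intro hh; rw [hh] at e1; norm_num at e1
  have e := mul_left_cancel₀ hg (e1.trans e2.symm)
  have h6 : (D a₆ : ℚ)⁻¹ = (D a₇ : ℚ)⁻¹ := by ring_nf at e ⊢; linarith
  have h67 : D a₆ = D a₇ := by exact_mod_cast inv_inj.1 h6
  have h53 : D a₅ = D a₃ := by omega
  obtain ⟨k, hk⟩ : ∃ k, k = D a₃ := ⟨_, rfl⟩
  obtain ⟨l, hl⟩ : ∃ l, l = D a₂ := ⟨_, rfl⟩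
  obtain ⟨r, hr⟩ : ∃ r, r = D a₇ := ⟨_, rfl⟩
  obtain ⟨t, ht⟩ : ∃ t, t = D a₁ := ⟨_, rfl⟩
  rw [h67, h53, ← hk, ← hl, ← hr] at e1
  have hre : r = 2 + 2 * l + k := by omega
  have hte : t = -1 - l - k := by omega
  have h4 : D a₄ = t := by omega
  have hsq' : 1 + 2 * k * k + l * l + 2 * r * r + 2 * t * t ≤ g := by
    rw [h67, h53, h4, ← hk, ← hl, ← hr, ← ht] at hsq
    linarith
  have hgpos : 0 < g := by nlinarith [mul_self_nonneg k, mul_self_nonneg l, mul_self_nonneg r, mul_self_nonneg t]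
  have hgq : (0 : ℚ) < g := by exact_mod_cast hgpos
  have hkl := two_res k (by omega) (by omega)
  have hll := two_res l (by omega) (by omega)
  have hrr : 4 ≤ |r| := by rcases abs_cases r with ⟨ee, ff⟩ | ⟨ee, ff⟩ <;> omega
  have key : ∀ (x : ℤ) (b : ℕ), 0 < b → (b : ℤ) ≤ |x| → |(1 : ℚ) / x| ≤ 1 / b := by
    intro x b hb hx
    rw [abs_div, abs_one]
    exact div_le_div_of_nonneg_left zero_le_one (by exact_mod_cast hb) (by rw [← Int.cast_abs]; exact_mod_cast hx)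
  have hsig : (1 : ℚ) / 8 ≤ 1 - 2 / (r : ℚ) + 2 / (k : ℚ) + 1 / (l : ℚ) := by
    have f1 := (abs_le.1 (key r 4 (by norm_num) hrr)).2
    have f2 := (abs_le.1 (key k 8 (by norm_num) hkl)).1
    have f3 := (abs_le.1 (key l 8 (by norm_num) hll)).1
    push_cast at f1 f2 f3
    rw [show (2 : ℚ) / r = 2 * (1 / r) by ring, show (2 : ℚ) / k = 2 * (1 / k) by ring]
    linarith
  have e3 : (g : ℚ) * (1 - 2 / (r : ℚ) + 2 / (k : ℚ) + 1 / (l : ℚ)) = 648 := by ring_nf at e1 ⊢; linarith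
  have hg2 : g ≤ 5184 := by
    have h8 : (g : ℚ) * (1 / 8) ≤ 648 := by rw [← e3]; exact mul_le_mul_of_nonneg_left hsig hgq.le
    have : (g : ℚ) ≤ 5184 := by linarith
    exact_mod_cast this
  have hb := box_all
  simp only [List.all_eq_true] at hb
  have h2 := mul_self_nonneg r
  have h3 := mul_self_nonneg t
  have h5 := mul_self_nonneg k
  have h9 := mul_self_nonneg l
  have hb := hb k (small_box (by omega) (by omega) (by nlinarith)) l (small_box (by omega) (by omega) (by nlinarith))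
  simp only [boxTest, ← hre, ← hte, Bool.or_eq_true, decide_eq_true_eq] at hb
  have hq0 : (r : ℚ) ≠ 0 ∧ (k : ℚ) ≠ 0 ∧ (l : ℚ) ≠ 0 := by
    refine ⟨?_, ?_, ?_⟩ <;> norm_cast <;> omega
  have heq : g * (r * k * l - 2 * k * l + 2 * r * l + r * k) = 648 * (r * k * l) := by
    obtain ⟨q1, q2, q3⟩ := hq0
    field_simp at e3
    have : ((g * (r * k * l - 2 * k * l + 2 * r * l + r * k) : ℤ) : ℚ) = ((648 * (r * k * l) : ℤ) : ℚ) := by
      push_cast; linear_combination e3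
    exact_mod_cast this
  set num := r * k * l - 2 * k * l + 2 * r * l + r * k with hnum
  set den := r * k * l with hden
  have hden0 : den ≠ 0 := mul_ne_zero (mul_ne_zero (by omega) (by omega)) (by omega)
  obtain ⟨n, hn⟩ : ∃ n, n = if den < 0 then -num else num := ⟨_, rfl⟩
  rw [← hn] at hb
  have hgn : g * n = 648 * |den| := by
    rw [hn]
    split_ifs with hs
    · rw [abs_of_neg hs]; linear_combination (-1 : ℤ) * heq
    · rw [abs_of_pos (by omega)]; exact heq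
  have hnpos : 0 < n := pos_of_mul_pos_right (by rw [hgn]; have := abs_pos.2 hden0; omega) hgpos.le
  rcases hb with (((hb | hb) | hb) | hb) | hb
  · omega
  · omega
  · have := mul_le_mul_of_nonneg_right hsq' hnpos.le
    rw [hgn] at this
    exact absurd hb (not_lt.2 this)
  · exact hb (by rw [← hgn, Int.mul_emod_left])
  · exact hb (by rw [← hgn, Int.mul_ediv_cancel _ hnpos.ne']; exact h.gmod)

set_option maxHeartbeats 2000000 in
theorem Rows.false_main (h : Rows S c D g) {a₁ a₂ a₃ a₄ a₅ a₆ a₇ a₈ : ι}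
    (hc : [a₁, a₂, a₃, a₄, a₅, a₆, a₇, a₈].map c = [(1, 1, 1, 1), (1, 0, 0, 1), (1, 0, 0, 0), (0, 1, 1, 0),
      (0, 1, 0, 1), (0, 1, 0, 0), (0, 0, 1, 0), (0, 0, 0, 1)])
    (hm : ∀ x ∈ [a₁, a₂, a₃, a₄, a₅, a₆, a₇, a₈], x ∈ S)
    (hz : ∀ f : ι → ℤ, ∑ χ ∈ S, f χ = ([a₁, a₂, a₃, a₄, a₅, a₆, a₇, a₈].map f).sum)
    (hq : ∀ f : ι → ℚ, ∑ χ ∈ S, f χ = ([a₁, a₂, a₃, a₄, a₅, a₆, a₇, a₈].map f).sum) : False := by
  have hseven : ∀ x ∈ [a₁, a₂, a₃, a₄, a₅, a₆, a₇, a₈], |D x| ≤ 5 → ¬ (7 : ℤ) ∣ g := by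
    intro x hx h5 h7
    obtain ⟨y, hy, hne, hcy⟩ := h.seven x (hm x hx) h5 h7
    have hyl : y ∈ [a₁, a₂, a₃, a₄, a₅, a₆, a₇, a₈] := by
      classical
      by_contra hh
      have hs := hz (fun χ => if χ = y then 1 else 0)
      rw [Finset.sum_ite_eq', if_pos hy, List.map_congr_left (g := fun _ => (0 : ℤ)) fun χ hχ => if_neg fun (e : χ = y) => hh (by rw [← e]; exact hχ)] at hs
      simp at hs
    refine hne (List.inj_on_of_nodup_map (f := c) ?_ hyl hx hcy)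
    rw [hc]
    decide
  simp only [List.map_cons, List.map_nil, List.cons.injEq, and_true] at hc
  obtain ⟨c1, c2, c3, c4, c5, c6, c7, c8⟩ := hc
  have e1 := h.sone
  have e2 := h.stwo
  have d1 := h.dega
  have d2 := h.degb
  have d3 := h.degc
  have d4 := h.degd
  have hsq := h.sq
  have r1 := h.res a₁ (hm _ (by simp))
  have r2 := h.res a₂ (hm _ (by simp))
  have r3 := h.res a₃ (hm _ (by simp))
  have r5 := h.res a₅ (hm _ (by simp))
  have r6 := h.res a₆ (hm _ (by simp))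
  have r7 := h.res a₇ (hm _ (by simp))
  have r8 := h.res a₈ (hm _ (by simp))
  have t1 := (h.two a₁ (hm _ (by simp))).2.2
  obtain ⟨n2, o2, -⟩ := h.two a₂ (hm _ (by simp))
  obtain ⟨n5, o5, -⟩ := h.two a₅ (hm _ (by simp))
  simp only [hz, hq, List.map_cons, List.map_nil, List.sum_cons, List.sum_nil, c1, c2, c3, c4, c5, c6, c7, c8,
    valX, valY] at e1 e2 d1 d2 d3 d4 hsq r1 r2 r3 r5 r6 r7 r8 t1
  norm_num at e1 e2 d1 d2 d3 d4 hsq r1 r2 r3 r5 r6 r7 r8 t1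
  have hg : (g : ℚ) ≠ 0 := by intro hh; rw [hh] at e1; norm_num at e1
  have e := mul_left_cancel₀ hg (e1.trans e2.symm)
  have hinv : (D a₈ : ℚ)⁻¹ + (D a₇ : ℚ)⁻¹ = (D a₆ : ℚ)⁻¹ + (D a₃ : ℚ)⁻¹ := by ring_nf at e ⊢; linarith
  have hsum : D a₈ + D a₇ = D a₆ + D a₃ := by omega
  have hne : D a₈ + D a₇ ≠ 0 := by omega
  have hprod : D a₈ * D a₇ = D a₆ * D a₃ := by
    have q8 : (D a₈ : ℚ) ≠ 0 := by exact_mod_cast (show D a₈ ≠ 0 by omega)
    have q7 : (D a₇ : ℚ) ≠ 0 := by exact_mod_cast (show D a₇ ≠ 0 by omega)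
    have q6 : (D a₆ : ℚ) ≠ 0 := by exact_mod_cast (show D a₆ ≠ 0 by omega)
    have q3 : (D a₃ : ℚ) ≠ 0 := by exact_mod_cast (show D a₃ ≠ 0 by omega)
    have hs : (D a₈ : ℚ) + D a₇ = D a₆ + D a₃ := by exact_mod_cast hsum
    have h1 : (D a₈ : ℚ)⁻¹ + (D a₇ : ℚ)⁻¹ = ((D a₈ : ℚ) + D a₇) / (D a₈ * D a₇) := by field_simp; ring
    have h2 : (D a₆ : ℚ)⁻¹ + (D a₃ : ℚ)⁻¹ = ((D a₈ : ℚ) + D a₇) / (D a₆ * D a₃) := by rw [hs]; field_simp; ring
    rw [h1, h2, div_eq_div_iff (mul_ne_zero q8 q7) (mul_ne_zero q6 q3)] at hinv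
    have h3 : ((D a₈ + D a₇) * (D a₈ * D a₇ - D a₆ * D a₃) : ℤ) = 0 := by
      have : (((D a₈ + D a₇) * (D a₈ * D a₇ - D a₆ * D a₃) : ℤ) : ℚ) = 0 := by
        push_cast; linear_combination (-1 : ℚ) * hinv
      exact_mod_cast this
    have := (mul_eq_zero.1 h3).resolve_left hne
    omega
  have hfac : (D a₆ - D a₈) * (D a₆ - D a₇) = 0 := by linear_combination hprod - (D a₆) * hsum
  rcases mul_eq_zero.1 hfac with h6 | h6
  swap
  · exact o5 (by omega)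
  have h68 : D a₆ = D a₈ := by omega
  have h37 : D a₃ = D a₇ := by omega
  have h42 : D a₄ = D a₂ := by omega
  have hu : D a₁ = -1 - D a₇ - D a₂ := by omega
  have hp : D a₈ = D a₇ + 1 - D a₅ := by omega
  refine search_sound 3 state0 search_all (D a₇, D a₅, D a₂) g ⟨rfl, ?_, ?_, ?_, h.gmod, h.ne, ?_⟩
  · simp only [state0, Form.eval, List.mem_cons, List.not_mem_nil, or_false, forall_eq_or_imp, forall_eq]
    refine ⟨⟨?_, ?_, ?_⟩, ⟨?_, ?_, ?_⟩, ⟨?_, ?_, ?_⟩, ⟨?_, ?_, ?_⟩, ?_, ?_, ?_⟩ <;> omega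
  · simp only [state0, Form.eval, List.map_cons, List.map_nil, List.sum_cons, List.sum_nil]
    rw [h68, h37, h42] at e1
    rw [show 1 + 1 * D a₇ + -1 * D a₅ + 0 * D a₂ = D a₈ by omega,
      show -1 + -1 * D a₇ + 0 * D a₅ + -1 * D a₂ = D a₁ by omega]
    push_cast at e1 ⊢
    ring_nf at e1 ⊢
    linarith
  · simp only [state0, Form.eval, List.map_cons, List.map_nil, List.sum_cons, List.sum_nil, sqWeight]
    rw [h68, h37, h42] at hsq
    rw [show 1 + 1 * D a₇ + -1 * D a₅ + 0 * D a₂ = D a₈ by omega,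
      show -1 + -1 * D a₇ + 0 * D a₅ + -1 * D a₂ = D a₁ by omega,
      show 0 + 1 * D a₇ + 0 * D a₅ + 0 * D a₂ = D a₇ by omega,
      show 0 + 0 * D a₇ + 1 * D a₅ + 0 * D a₂ = D a₅ by omega,
      show 0 + 0 * D a₇ + 0 * D a₅ + 1 * D a₂ = D a₂ by omega]
    norm_num
    linarith
  · simp only [state0, Form.eval, List.mem_cons, List.not_mem_nil, or_false, forall_eq_or_imp, forall_eq]
    rw [show 1 + 1 * D a₇ + -1 * D a₅ + 0 * D a₂ = D a₈ by omega,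
      show -1 + -1 * D a₇ + 0 * D a₅ + -1 * D a₂ = D a₁ by omega,
      show 0 + 1 * D a₇ + 0 * D a₅ + 0 * D a₂ = D a₇ by omega,
      show 0 + 0 * D a₇ + 1 * D a₅ + 0 * D a₂ = D a₅ by omega,
      show 0 + 0 * D a₇ + 0 * D a₅ + 1 * D a₂ = D a₂ by omega]
    exact ⟨hseven _ (by simp), hseven _ (by simp), hseven _ (by simp), hseven _ (by simp), hseven _ (by simp)⟩

theorem Rows.false (h : Rows S c D g) : False := by
  obtain ⟨L, hL, l, hl, hm, hz, hq⟩ := h.exists_list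
  simp only [configs, List.mem_cons, List.not_mem_nil, or_false] at hL
  rcases hL with rfl | rfl | rfl | rfl | rfl | rfl
  all_goals
    simp only [List.map_eq_cons_iff, List.map_eq_nil_iff] at hl
  · obtain ⟨a₁, _, rfl, c1, a₂, _, rfl, c2, a₃, _, rfl, c3, a₄, _, rfl, c4, a₅, _, rfl, c5, a₆, _, rfl, c6, a₇,
      _, rfl, c7, rfl⟩ := hl
    exact h.false_zero (by simp [c1, c2, c3, c4, c5, c6, c7]) hm hq
  · obtain ⟨a₁, _, rfl, c1, a₂, _, rfl, c2, a₃, _, rfl, c3, a₄, _, rfl, c4, a₅, _, rfl, c5, a₆, _, rfl, c6, a₇,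
      _, rfl, c7, rfl⟩ := hl
    exact h.false_four (by simp [c1, c2, c3, c4, c5, c6, c7]) hm hq
  · obtain ⟨a₁, _, rfl, c1, a₂, _, rfl, c2, a₃, _, rfl, c3, a₄, _, rfl, c4, a₅, _, rfl, c5, a₆, _, rfl, c6, a₇,
      _, rfl, c7, a₈, _, rfl, c8, rfl⟩ := hl
    exact h.false_main (by simp [c1, c2, c3, c4, c5, c6, c7, c8]) hm hz hq
  · obtain ⟨a₁, _, rfl, c1, a₂, _, rfl, c2, a₃, _, rfl, c3, a₄, _, rfl, c4, a₅, _, rfl, c5, a₆, _, rfl, c6, a₇,
      _, rfl, c7, rfl⟩ := hl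
    exact h.false_five (by simp [c1, c2, c3, c4, c5, c6, c7]) hm hz hq
  · obtain ⟨a₁, _, rfl, c1, a₂, _, rfl, c2, a₃, _, rfl, c3, a₄, _, rfl, c4, a₅, _, rfl, c5, a₆, _, rfl, c6, a₇,
      _, rfl, c7, rfl⟩ := hl
    exact h.false_three (by simp [c1, c2, c3, c4, c5, c6, c7]) hm hz hq
  · obtain ⟨a₁, _, rfl, c1, a₂, _, rfl, c2, a₃, _, rfl, c3, a₄, _, rfl, c4, a₅, _, rfl, c5, a₆, _, rfl, c6, a₇,
      _, rfl, c7, rfl⟩ := hl
    exact h.false_two (by simp [c1, c2, c3, c4, c5, c6, c7]) hm hz hq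

end Cfsg.Agent.H29.DihNine
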