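import Cfsg.Agent.H42.DegreeBound
import Cfsg.Agent.H43.IntCong
import Cfsg.Agent.H45.Galois
import Cfsg.Agent.H57.VChar
import Cfsg.Agent.H26.CharLinear

/-!
Character values on elements of order three and six, and small degree characters of simple groups.
-/

open scoped ComplexConjugate

namespace Cfsg.Agent.H29.DihNine

variable {G : Type*} [Group G] [Fintype G]

theorem sum_zpowers (χ : Cfsg.IrrCharacter G) (g : G) :
    ∃ m : ℕ, ∑ i ∈ Finset.range (orderOf g), χ.1 (g ^ i) = (orderOf g : ℂ) * m := by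
  obtain ⟨m, hm⟩ := H42.exists_nat_sum_subgroup χ (Subgroup.zpowers g)
  refine ⟨m, ?_⟩
  rw [Nat.card_zpowers] at hm
  rw [← hm, ← Equiv.sum_comp (finEquivZPowers (isOfFinOrder_of_finite g))]
  simp only [finEquivZPowers_apply]
  exact (Fin.sum_univ_eq_sum_range (fun i => χ.1 (g ^ i)) _).symm

theorem exists_int_of_eq (χ : Cfsg.IrrCharacter G) (g : G) {q : ℚ} (e : χ.1 g = (q : ℂ)) :
    ∃ n : ℤ, χ.1 g = n := by
  have hI : IsIntegral ℤ (χ.1 g) := by
    obtain ⟨_, ρ, -, e'⟩ := χ.2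
    rw [← e']
    exact H25.isIntegral_char ρ _
  rw [e] at hI
  obtain ⟨n, hn⟩ := H43.exists_int_of_isIntegral hI
  exact ⟨n, by rw [e, ← hn]; simp⟩

/-- The value at an involution. -/
theorem value_two (χ : Cfsg.IrrCharacter G) {t : G} (ht : orderOf t = 2) :
    ∃ n : ℤ, χ.1 t = n := by
  obtain ⟨d, -, hd⟩ := H57.irr_degree χ.2
  obtain ⟨m, hm⟩ := sum_zpowers χ t
  simp only [ht, Finset.sum_range_succ, Finset.sum_range_zero, zero_add, pow_zero, pow_one, hd] at hm
  refine exists_int_of_eq χ t (q := 2 * (m : ℚ) - d) ?_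
  push_cast at hm ⊢
  linear_combination hm

/-- The value at an element of order three conjugate to its square. -/
theorem value_three (χ : Cfsg.IrrCharacter G) {x : G} (hx : orderOf x = 3) (hc : IsConj (x ^ 2) x)
    {d : ℤ} (hd : χ.1 1 = d) : ∃ n : ℤ, χ.1 x = n ∧ (3 : ℤ) ∣ d + 2 * n := by
  obtain ⟨m, hm⟩ := sum_zpowers χ x
  simp only [hx, Finset.sum_range_succ, Finset.sum_range_zero, zero_add, pow_zero, pow_one, hd,
    H26.irr_eq_of_isConj χ hc] at hm
  obtain ⟨n, hn⟩ := exists_int_of_eq χ x (q := (3 * (m : ℚ) - d) / 2) (by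
    push_cast at hm ⊢; linear_combination hm / 2)
  refine ⟨n, hn, ⟨(m : ℤ), ?_⟩⟩
  rw [hn] at hm
  have : ((d + 2 * n : ℤ) : ℂ) = ((3 * (m : ℤ) : ℤ) : ℂ) := by push_cast at hm ⊢; linear_combination hm
  exact_mod_cast this

/-- The value at an element of order six conjugate to its inverse. -/
theorem value_six (χ : Cfsg.IrrCharacter G) {g x : G} (hg : orderOf g = 6) (h4 : g ^ 4 = x)
    (h5 : IsConj (g ^ 5) g) (h2 : IsConj (g ^ 2) x) {a : ℤ} (ha : χ.1 x = a) :
    ∃ n : ℤ, χ.1 g = n ∧ (2 : ℤ) ∣ a + n := by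
  obtain ⟨d, -, hd⟩ := H57.irr_degree χ.2
  have ht : orderOf (g ^ 3) = 2 := by rw [orderOf_pow, hg]; norm_num
  obtain ⟨t, ht'⟩ := value_two χ ht
  obtain ⟨m, hm⟩ := sum_zpowers χ g
  simp only [hg, Finset.sum_range_succ, Finset.sum_range_zero, zero_add, pow_zero, pow_one, hd,
    H26.irr_eq_of_isConj χ h2, h4, H26.irr_eq_of_isConj χ h5, ha, ht'] at hm
  obtain ⟨n, hn⟩ := exists_int_of_eq χ g (q := (6 * (m : ℚ) - d - 2 * a - t) / 2) (by
    push_cast at hm ⊢; linear_combination hm / 2)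
  refine ⟨n, hn, ?_⟩
  -- the eigenvalues differ from their fourth powers by even amounts
  obtain ⟨_, ρ, -, e⟩ := χ.2
  obtain ⟨b, μ, h1, h6, h3⟩ := H25.exists_eigenbasis ρ g
  have hpow : ∀ (j : ℕ) i, ρ (g ^ j) (b i) = μ i ^ j • b i := by
    intro j i
    induction j with
    | zero => simp
    | succ j ih => rw [pow_succ', map_mul, Module.End.mul_apply, ih, map_smul, h1, smul_smul, pow_succ]
  have h4' : ρ.character (g ^ 4) = ∑ i, μ i ^ 4 := H25.trace_eq_sum_of_eigenbasis _ b _ fun i => hpow 4 i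
  have hcong : H43.IntCong 2 (χ.1 g) (χ.1 (g ^ 4)) := by
    rw [← e, h3, h4']
    refine H43.IntCong.sum _ _ _ fun i _ => ?_
    have hμ : μ i ^ 6 = 1 := by rw [← hg]; exact h6 i
    have hI : IsIntegral ℤ (μ i) := IsIntegral.of_pow (by norm_num : 0 < 6) (by rw [hμ]; exact isIntegral_one)
    have hsq : (μ i ^ 3 - 1) * (μ i ^ 3 + 1) = 0 := by linear_combination hμ
    rcases mul_eq_zero.1 hsq with h | h
    · rw [show μ i ^ 4 = μ i by linear_combination μ i * h]
      exact H43.IntCong.refl _ _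
    · exact ⟨μ i, hI, by push_cast; linear_combination (-μ i) * h⟩
  rw [h4, hn, ha] at hcong
  have := H43.IntCong.int_modEq two_ne_zero hcong
  have := Int.modEq_iff_dvd.1 this
  omega

/-- An element on which a non-principal character of a simple group takes its degree is trivial. -/
theorem eq_one_of_value_eq [IsSimpleGroup G] (χ : Cfsg.IrrCharacter G) (hχ : χ ≠ H26.oneIrr G) {g : G}
    (hg : χ.1 g = χ.1 1) : g = 1 := by
  classical
  obtain ⟨n, ρ, -, e⟩ := χ.2
  have hker : g ∈ (ρ : G →* _).ker := by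
    rw [MonoidHom.mem_ker]
    rw [← e, ρ.char_one] at hg
    exact (H25.char_eq_degree_iff ρ g).1 hg
  rcases (ρ : G →* _).normal_ker.eq_bot_or_eq_top with h | h
  · rw [h, Subgroup.mem_bot] at hker; exact hker
  · exfalso
    have hall : ∀ x, χ.1 x = χ.1 1 := fun x => by
      rw [← e, ρ.char_one]
      refine (H25.char_eq_degree_iff ρ x).2 ?_
      have : x ∈ (ρ : G →* _).ker := h ▸ Subgroup.mem_top x
      exact MonoidHom.mem_ker.1 this
    have h0 := H26.classInner_irr χ (H26.oneIrr G)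
    rw [if_neg hχ, Cfsg.classInner, Finset.sum_congr rfl (fun x _ => by
      rw [H26.oneIrr_val, map_one, mul_one, hall x]), Finset.sum_const, nsmul_eq_mul, Finset.card_univ,
      ← Nat.card_eq_fintype_card, ← mul_assoc, inv_mul_cancel₀ (Nat.cast_ne_zero.2 Nat.card_pos.ne'),
      one_mul] at h0
    exact H26.irr_one_ne_zero χ h0

/-- A non-abelian simple group has no non-principal character of degree one. -/
theorem degree_ne_one [IsSimpleGroup G] (hG : ¬ IsMulCommutative G) (χ : Cfsg.IrrCharacter G)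
    (hχ : χ ≠ H26.oneIrr G) : χ.1 1 ≠ 1 := by
  intro h1
  obtain ⟨f, hf⟩ := H26.exists_hom_of_isCharacter_one (H26.irr_isCharacter χ) h1
  refine hG ⟨⟨fun a b => ?_⟩⟩
  have : χ.1 (a * b * (b * a)⁻¹) = χ.1 1 := by
    rw [← hf, ← hf, mul_inv_rev, map_mul, map_mul, map_mul, map_inv, map_inv, map_one]
    rw [mul_comm (f a) (f b), mul_comm ((f a)⁻¹) ((f b)⁻¹)]
    simp [mul_assoc]
  exact mul_inv_eq_one.1 (eq_one_of_value_eq χ hχ this)

theorem exists_exponent {N : ℕ} (hN : N ≠ 0) (h7 : 7 ∣ N) : ∃ k : ℕ, k.Coprime N ∧ k % 7 = 3 := by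
  have hm : ¬ 7 ∣ N / 7 ^ N.factorization 7 := Nat.not_dvd_ordCompl (by norm_num) hN
  have he : 1 ≤ N.factorization 7 := (Nat.Prime.dvd_iff_one_le_factorization (by norm_num) hN).1 h7
  have hco : (7 ^ N.factorization 7).Coprime (N / 7 ^ N.factorization 7) :=
    Nat.Coprime.pow_left _ ((Nat.Prime.coprime_iff_not_dvd (by norm_num)).2 hm)
  obtain ⟨k, h1, h2⟩ := Nat.chineseRemainder hco 3 1
  have h37 : k % 7 = 3 := (Nat.ModEq.of_dvd (dvd_pow_self 7 (by omega)) h1 : k ≡ 3 [MOD 7])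
  refine ⟨k, ?_, h37⟩
  rw [← Nat.ordProj_mul_ordCompl_eq_self N 7]
  refine Nat.Coprime.mul_right (Nat.Coprime.pow_right _ ?_) ?_
  · rw [Nat.coprime_comm, Nat.Prime.coprime_iff_not_dvd (by norm_num)]; omega
  · rw [Nat.coprime_iff_gcd_eq_one, Nat.ModEq.gcd_eq h2, Nat.gcd_one_left]

/-- A character of degree at most five of a simple group of order divisible by seven is moved by a
Galois automorphism. -/
theorem exists_galois_move [IsSimpleGroup G] (χ : Cfsg.IrrCharacter G) (hχ : χ ≠ H26.oneIrr G)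
    {d : ℕ} (hd : χ.1 1 = d) (h5 : d ≤ 5) (h7 : 7 ∣ Nat.card G) :
    ∃ (k : ℕ) (hk : k.Coprime (Nat.card G)), H45.galIrr hk χ ≠ χ := by
  obtain ⟨k, hk, hk7⟩ := exists_exponent (Nat.card_pos (α := G)).ne' h7
  refine ⟨k, hk, fun e => ?_⟩
  obtain ⟨g, hg⟩ := exists_prime_orderOf_dvd_card' (G := G) 7 (hp := ⟨by norm_num⟩) h7
  have hstep : ∀ i : ℕ, χ.1 (g ^ (3 * i)) = χ.1 (g ^ i) := by
    intro i
    have h1 : χ.1 ((g ^ i) ^ k) = χ.1 (g ^ i) := congrFun (congrArg Subtype.val e) (g ^ i)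
    rw [← pow_mul] at h1
    rw [← h1, ← pow_mod_orderOf g (3 * i), ← pow_mod_orderOf g (i * k), hg]
    congr 2
    rw [Nat.mul_mod i k, hk7, Nat.mul_comm 3 i, Nat.mul_mod i 3]
  have e3 : χ.1 (g ^ 3) = χ.1 g := by simpa using hstep 1
  have e2 : χ.1 (g ^ 2) = χ.1 g := by
    have := hstep 3
    rw [← pow_mod_orderOf g (3 * 3), hg, e3] at this
    exact this
  have e6 : χ.1 (g ^ 6) = χ.1 g := by
    have := hstep 2
    rw [e2] at this
    exact this
  have e4 : χ.1 (g ^ 4) = χ.1 g := by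
    have := hstep 6
    rw [← pow_mod_orderOf g (3 * 6), hg, e6] at this
    exact this
  have e5 : χ.1 (g ^ 5) = χ.1 g := by
    have := hstep 4
    rw [← pow_mod_orderOf g (3 * 4), hg, e4] at this
    exact this
  obtain ⟨m, hm⟩ := sum_zpowers χ g
  simp only [hg, Finset.sum_range_succ, Finset.sum_range_zero, zero_add, pow_zero, pow_one, hd, e2, e3, e4, e5,
    e6] at hm
  obtain ⟨t, ht⟩ := exists_int_of_eq χ g (q := (7 * (m : ℚ) - d) / 6) (by
    push_cast at hm ⊢; linear_combination hm / 6)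
  rw [ht] at hm
  have h1 : (d : ℤ) + 6 * t = 7 * m := by
    have : (((d : ℤ) + 6 * t : ℤ) : ℂ) = ((7 * (m : ℤ) : ℤ) : ℂ) := by push_cast at hm ⊢; linear_combination hm
    exact_mod_cast this
  have hle : t ≤ (d : ℤ) := by
    obtain ⟨n, ρ, -, e'⟩ := χ.2
    have hb := H25.norm_char_le ρ g
    have hn : (d : ℂ) = (Module.finrank ℂ (Fin n → ℂ) : ℂ) := by rw [← hd, ← e', ρ.char_one]
    rw [e', ht, Complex.norm_intCast, show Module.finrank ℂ (Fin n → ℂ) = d by exact_mod_cast hn.symm] at hb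
    have := (le_abs_self (t : ℝ)).trans hb
    exact_mod_cast this
  have : g = 1 := eq_one_of_value_eq χ hχ (by rw [ht, hd]; exact_mod_cast (show t = (d : ℤ) by omega))
  rw [this, orderOf_one] at hg
  norm_num at hg

end Cfsg.Agent.H29.DihNine
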