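import Cfsg.Agent.H56.TIThree
import Mathlib

/-!
Coordinates in the normaliser of a self-centralising elementary Sylow 3-subgroup of order 9 with dihedral
normaliser quotient of order 8.
-/

namespace Cfsg.Agent.H29.DihNine

/-- The module. -/
abbrev W := ZMod 3 × ZMod 3

/-- A linear map given by the images of the basis. -/
abbrev Mat := W × W

/-- Apply a map. -/
def app (A : Mat) (u : W) : W := (u.1 * A.1.1 + u.2 * A.2.1, u.1 * A.1.2 + u.2 * A.2.2)

/-- Compose maps. -/
def mmul (A B : Mat) : Mat := (app A B.1, app A B.2)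

/-- The identity map. -/
def mone : Mat := ((1, 0), (0, 1))

/-- The standard rotation. -/
def rot : Mat := ((0, 1), (-1, 0))

/-- The standard reflection. -/
def refl' : Mat := ((1, 0), (0, -1))

/-- The matrix of an element of the dihedral group. -/
def dmat : DihedralGroup 4 → Mat
  | .r i => [mone, rot, mmul rot rot, mmul rot (mmul rot rot)].getD i.val mone
  | .sr i => mmul refl' ([mone, rot, mmul rot rot, mmul rot (mmul rot rot)].getD i.val mone)

/-- The standard action. -/
def act (d : DihedralGroup 4) (u : W) : W := app (dmat d) u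

theorem act_mul : ∀ (d e : DihedralGroup 4) (u : W), act (d * e) u = act d (act e u) := by decide +kernel

theorem act_one : ∀ u : W, act 1 u = u := by decide +kernel

theorem act_add : ∀ (d : DihedralGroup 4) (u u' : W), act d (u + u') = act d u + act d u' := by decide +kernel

theorem act_faithful : ∀ d : DihedralGroup 4, (∀ u, act d u = u) → d = 1 := by decide +kernel

theorem dihedral_cases : ∀ d : DihedralGroup 4, d ∈ [DihedralGroup.r 1, DihedralGroup.sr 0] ∨
    ∃ i : Fin 4, d = DihedralGroup.r 1 ^ (i : ℕ) ∨ d = DihedralGroup.sr 0 * DihedralGroup.r 1 ^ (i : ℕ) := by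
  decide +kernel

set_option synthInstance.maxSize 1000 in
set_option synthInstance.maxHeartbeats 100000 in
theorem exists_basis : ∀ R : Mat, mmul (mmul R R) (mmul R R) = mone → mmul R R ≠ mone →
    ∀ S : Mat, mmul S S = mone → S ≠ mone → mmul S (mmul R S) = mmul R (mmul R R) →
      ∃ P : Mat, (∀ u : W, app P u = 0 → u = 0) ∧ mmul R P = mmul P rot ∧ mmul S P = mmul P refl' := by
  decide +kernel

theorem app_mmul : ∀ (A B : Mat) (u : W), app (mmul A B) u = app A (app B u) := by
  intro A B u
  simp only [app, mmul, Prod.mk.injEq]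
  constructor <;> ring

theorem app_mone : ∀ u : W, app mone u = u := by decide +kernel

theorem app_ext : ∀ A B : Mat, app A (1, 0) = app B (1, 0) → app A (0, 1) = app B (0, 1) → A = B := by
  intro A B
  simp [app, Prod.ext_iff]
  tauto

theorem app_add (A : Mat) (u u' : W) : app A (u + u') = app A u + app A u' := by
  simp only [app, Prod.mk_add_mk, Prod.fst_add, Prod.snd_add, Prod.mk.injEq]
  constructor <;> ring

theorem val_cases : ∀ t : ZMod 3, t ≠ 0 → t.val = 1 ∨ t.val = 2 := by decide +kernel

theorem w_cases : ∀ u : W, u = 0 ∨ u = (1, 0) ∨ u = (1, 0) + (1, 0) ∨ u = (0, 1) ∨ u = (0, 1) + (0, 1) ∨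
    u = (1, 0) + (0, 1) ∨ u = ((1, 0) + (1, 0)) + (0, 1) ∨ u = (1, 0) + ((0, 1) + (0, 1)) ∨
    u = ((1, 0) + (1, 0)) + ((0, 1) + (0, 1)) := by decide +kernel

theorem w_decomp : ∀ u : W, u = u.1.val • ((1, 0) : W) + u.2.val • ((0, 1) : W) := by decide +kernel

theorem dmat_mul : ∀ d d', dmat (d * d') = mmul (dmat d) (dmat d') := by decide +kernel

theorem dmat_sr : dmat (.sr 0) = refl' := by decide +kernel

theorem card_gl : Fintype.card {B : Mat // ∀ u : W, app B u = 0 → u = 0} = 48 := by decide +kernel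

/-- The number of nonzero coordinates. -/
def wt (u : W) : ℕ := (if u.1 = 0 then 0 else 1) + (if u.2 = 0 then 0 else 1)

/-- An element of the model. -/
abbrev El := W × DihedralGroup 4

/-- The product in the model. -/
def emul (x y : El) : El := (x.1 + act x.2 y.1, x.2 * y.2)

/-- The coordinates of the normaliser. -/
structure Coords {G : Type*} [Group G] (M : Subgroup G) (φ : El → G) : Prop where
  inj : Function.Injective φ
  mul : ∀ x y, φ (emul x y) = φ x * φ y
  range : ∀ n : G, n ∈ Subgroup.normalizer (M : Set G) ↔ ∃ x, φ x = n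
  mem : ∀ n : G, n ∈ M ↔ ∃ u : W, φ (u, 1) = n

theorem exists_coords {G : Type*} [Group G] [Finite G] (M : Sylow 3 G)
    (hM9 : Nat.card ↥(M : Subgroup G) = 9) (hMel : ∀ m ∈ (M : Subgroup G), m ^ 3 = 1)
    (hCM : Subgroup.centralizer ((M : Subgroup G) : Set G) = (M : Subgroup G))
    (hS : ∀ S : Sylow 2 ↥(Subgroup.normalizer ((M : Subgroup G) : Set G)),
      Nonempty (↥(S : Subgroup ↥(Subgroup.normalizer ((M : Subgroup G) : Set G))) ≃* DihedralGroup 4)) :
    ∃ φ : El → G, Coords (M : Subgroup G) φ := by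
  classical
  haveI : Fact (Nat.Prime 3) := ⟨Nat.prime_three⟩
  haveI : Fact (Nat.Prime 2) := ⟨Nat.prime_two⟩
  set T : Subgroup G := (M : Subgroup G) with hT
  set N := Subgroup.normalizer (T : Set G) with hN
  have hcomm : ∀ a ∈ T, ∀ b ∈ T, a * b = b * a := fun a ha b hb => by
    have : a ∈ Subgroup.centralizer (T : Set G) := hCM.symm ▸ ha
    exact (Subgroup.mem_centralizer_iff.1 this b hb).symm
  -- a basis
  obtain ⟨a, haT, ha1⟩ : ∃ a ∈ T, a ≠ 1 := by
    by_contra hh
    push Not at hh
    have : T = ⊥ := (Subgroup.eq_bot_iff_forall _).2 hh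
    rw [this] at hM9
    simp at hM9
  have hoa : orderOf a = 3 := orderOf_eq_prime (hMel a haT) ha1
  obtain ⟨b, hbT, hb⟩ : ∃ b ∈ T, b ∉ Subgroup.zpowers a := by
    by_contra hh
    push Not at hh
    have hle : Nat.card T ≤ Nat.card (Subgroup.zpowers a) := Subgroup.card_le_of_le hh
    rw [Nat.card_zpowers, hoa, hM9] at hle
    omega
  have hb3 := hMel b hbT
  let v₀ : W → G := fun u => a ^ u.1.val * b ^ u.2.val
  have hpow : ∀ (x : G), x ^ 3 = 1 → ∀ i j : ZMod 3, x ^ (i + j).val = x ^ i.val * x ^ j.val := by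
    intro x hx i j
    rw [← pow_add, ZMod.val_add]
    exact (pow_eq_pow_mod _ hx).symm
  have hv₀add : ∀ u u', v₀ (u + u') = v₀ u * v₀ u' := by
    intro u u'
    show a ^ (u.1 + u'.1).val * b ^ (u.2 + u'.2).val = a ^ u.1.val * b ^ u.2.val * (a ^ u'.1.val * b ^ u'.2.val)
    rw [hpow a (hMel a haT), hpow b hb3]
    have hc : Commute (b ^ u.2.val) (a ^ u'.1.val) := (show Commute b a from hcomm b hbT a haT).pow_pow _ _
    calc a ^ u.1.val * a ^ u'.1.val * (b ^ u.2.val * b ^ u'.2.val)
        = a ^ u.1.val * (a ^ u'.1.val * b ^ u.2.val) * b ^ u'.2.val := by group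
      _ = a ^ u.1.val * (b ^ u.2.val * a ^ u'.1.val) * b ^ u'.2.val := by rw [hc.eq]
      _ = _ := by group
  have hv₀mem : ∀ u, v₀ u ∈ T := fun u => T.mul_mem (T.pow_mem haT _) (T.pow_mem hbT _)
  have hv₀zero : v₀ 0 = 1 := by simp [v₀]
  have hv₀ker : ∀ u, v₀ u = 1 → u = 0 := by
    rintro ⟨i, j⟩ h
    change a ^ i.val * b ^ j.val = 1 at h
    have hbj : b ^ j.val ∈ Subgroup.zpowers a := by
      rw [mul_eq_one_iff_inv_eq.1 h |>.symm]
      exact Subgroup.inv_mem _ (Subgroup.pow_mem _ (Subgroup.mem_zpowers a) _)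
    have hj : j = 0 := by
      by_contra hj0
      refine hb ?_
      have h3 := val_cases
      rcases h3 j hj0 with e | e
      · rwa [e, pow_one] at hbj
      · rw [e] at hbj
        have := Subgroup.pow_mem _ hbj 2
        rw [← pow_mul, show (2 * 2 : ℕ) = 3 + 1 from rfl, pow_add, hb3, one_mul, pow_one] at this
        exact this
    subst hj
    rw [ZMod.val_zero, pow_zero, mul_one] at h
    have hdvd : 3 ∣ i.val := by have := orderOf_dvd_of_pow_eq_one h; rwa [hoa] at this
    have hlt := ZMod.val_lt i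
    have : i.val = 0 := by omega
    rw [ZMod.val_eq_zero] at this
    rw [this]; rfl
  have hv₀inj : Function.Injective v₀ := by
    intro u u' h
    have : v₀ (u - u') = 1 := by
      have h2 := hv₀add (u - u') u'
      rw [sub_add_cancel, h] at h2
      exact mul_right_cancel (b := v₀ u') (by rw [one_mul]; exact h2.symm)
    exact sub_eq_zero.1 (hv₀ker _ this)
  have hv₀surj : ∀ x ∈ T, ∃ u, v₀ u = x := by
    intro x hx
    have hbij : Function.Bijective fun u => (⟨v₀ u, hv₀mem u⟩ : T) :=
      (Nat.bijective_iff_injective_and_card _).2 ⟨fun p q h => hv₀inj (congrArg Subtype.val h), by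
        rw [hM9]; simp⟩
    obtain ⟨u, hu⟩ := hbij.2 ⟨x, hx⟩
    exact ⟨u, congrArg Subtype.val hu⟩
  -- the complement
  obtain ⟨e⟩ := hS (default : Sylow 2 N)
  set S : Sylow 2 N := default with hSdef
  let ψ : DihedralGroup 4 →* G := (N.subtype.comp (S : Subgroup N).subtype).comp e.symm.toMonoidHom
  have hψinj : Function.Injective ψ := fun x y h => e.symm.injective (Subtype.ext (Subtype.ext h))
  have hψN : ∀ d, ψ d ∈ N := fun d => (e.symm d).1.2
  have hnorm : ∀ n ∈ N, ∀ x ∈ T, n * x * n⁻¹ ∈ T := fun n hn x hx =>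
    (Subgroup.mem_normalizer_iff.1 hn x).1 hx
  have hcentψ : ∀ d, ψ d ∈ Subgroup.centralizer (T : Set G) → d = 1 := by
    intro d hd
    rw [hCM] at hd
    apply hψinj
    rw [map_one]
    have h8 : d ^ 8 = 1 := by
      have := pow_card_eq_one' (G := DihedralGroup 4) (x := d)
      rwa [DihedralGroup.nat_card] at this
    have e8 : ψ d ^ 8 = 1 := by rw [← map_pow, h8, map_one]
    have e3 := hMel _ hd
    calc ψ d = ψ d ^ 9 * (ψ d ^ 8)⁻¹ := by group
      _ = 1 := by rw [show (9 : ℕ) = 3 * 3 from rfl, pow_mul, e3, e8]; simp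
  have hmat : ∀ d, ∃ A : Mat, ∀ u, ψ d * v₀ u * (ψ d)⁻¹ = v₀ (app A u) := by
    intro d
    obtain ⟨p, hp⟩ := hv₀surj _ (hnorm _ (hψN d) _ (hv₀mem (1, 0)))
    obtain ⟨q, hq⟩ := hv₀surj _ (hnorm _ (hψN d) _ (hv₀mem (0, 1)))
    refine ⟨(p, q), ?_⟩
    let f : G → G := fun x => ψ d * x * (ψ d)⁻¹
    have hf : ∀ x y, f (x * y) = f x * f y := fun x y => by simp [f, mul_assoc]
    have key := w_cases
    have h0 : f (v₀ 0) = v₀ (app (p, q) 0) := by
      rw [show app (p, q) 0 = 0 by simp [app], hv₀zero]; simp [f]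
    have h1 : f (v₀ (1, 0)) = v₀ (app (p, q) (1, 0)) := by
      rw [show app (p, q) (1, 0) = p by simp [app], hp]
    have h2 : f (v₀ (0, 1)) = v₀ (app (p, q) (0, 1)) := by
      rw [show app (p, q) (0, 1) = q by simp [app], hq]
    intro u
    show f (v₀ u) = _
    rcases key u with rfl | rfl | rfl | rfl | rfl | rfl | rfl | rfl | rfl <;>
      simp only [app_add, hv₀add, hf, h0, h1, h2]
  choose A hA using hmat
  have hAuniq : ∀ d B, (∀ u, ψ d * v₀ u * (ψ d)⁻¹ = v₀ (app B u)) → A d = B := fun d B h =>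
    app_ext _ _ (hv₀inj ((hA d _).symm.trans (h _))) (hv₀inj ((hA d _).symm.trans (h _)))
  have hAmul : ∀ d d', A (d * d') = mmul (A d) (A d') := fun d d' => hAuniq _ _ fun u => by
    rw [app_mmul, ← hA, ← hA, map_mul]; group
  have hA1 : A 1 = mone := hAuniq _ _ fun u => by rw [app_mone, map_one]; simp
  have hAinj : ∀ d, A d = mone → d = 1 := by
    intro d hd
    refine hcentψ d (Subgroup.mem_centralizer_iff.2 fun x hx => ?_)
    obtain ⟨u, rfl⟩ := hv₀surj x hx
    have h := hA d u
    rw [hd, app_mone] at h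
    exact (mul_inv_eq_iff_eq_mul.1 h).symm
  obtain ⟨P, hPinj, hPr, hPs⟩ := exists_basis (A (.r 1))
    (by rw [← hAmul, ← hAmul, ← hA1]; exact congrArg A (by decide +kernel))
    (by rw [← hAmul]; exact fun h => absurd (hAinj _ h) (by decide +kernel))
    (A (.sr 0))
    (by rw [← hAmul, ← hA1]; exact congrArg A (by decide +kernel))
    (fun h => absurd (hAinj _ h) (by decide +kernel))
    (by simp only [← hAmul]; exact congrArg A (by decide +kernel))
  have hPcomm : ∀ d, mmul (A d) P = mmul P (dmat d) := by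
    have hassoc : ∀ X Y Z : Mat, mmul (mmul X Y) Z = mmul X (mmul Y Z) := fun X Y Z =>
      app_ext _ _ (by simp only [app_mmul]) (by simp only [app_mmul])
    have hstep : ∀ d d', mmul (A d) P = mmul P (dmat d) → mmul (A d') P = mmul P (dmat d') →
        mmul (A (d * d')) P = mmul P (dmat (d * d')) := by
      intro d d' h h'
      have hd := dmat_mul
      rw [hAmul, hassoc, h', ← hassoc, h, hassoc, hd]
    have hone : mmul (A 1) P = mmul P (dmat 1) := by
      rw [hA1]
      exact app_ext _ _ (by rw [app_mmul, app_mmul, app_mone]; rfl) (by rw [app_mmul, app_mmul, app_mone]; rfl)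
    have hr : mmul (A (.r 1)) P = mmul P (dmat (.r 1)) := hPr
    have hs : mmul (A (.sr 0)) P = mmul P (dmat (.sr 0)) := by
      rw [dmat_sr]; exact hPs
    have hrpow : ∀ i : ℕ, mmul (A (DihedralGroup.r 1 ^ i)) P = mmul P (dmat (DihedralGroup.r 1 ^ i)) := by
      intro i
      induction i with
      | zero => simpa using hone
      | succ i ih => rw [pow_succ]; exact hstep _ _ ih hr
    intro d
    rcases dihedral_cases d with h | ⟨i, rfl | rfl⟩
    · simp only [List.mem_cons, List.not_mem_nil, or_false] at h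
      rcases h with rfl | rfl
      · exact hr
      · exact hs
    · exact hrpow i
    · exact hstep _ _ hs (hrpow i)
  let v : W → G := fun u => v₀ (app P u)
  have hvadd : ∀ u u', v (u + u') = v u * v u' := fun u u' => by simp only [v, app_add, hv₀add]
  have hPinj' : Function.Injective (app P) := by
    intro u u' h
    refine sub_eq_zero.1 (hPinj _ ?_)
    have : app P (u - u') + app P u' = app P u' := by rw [← app_add, sub_add_cancel, h]
    simpa using this
  have hvinj : Function.Injective v := hv₀inj.comp hPinj'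
  have hvsurj : ∀ x ∈ T, ∃ u, v u = x := by
    intro x hx
    obtain ⟨p, rfl⟩ := hv₀surj x hx
    obtain ⟨u, rfl⟩ := (Finite.injective_iff_surjective.1 hPinj') p
    exact ⟨u, rfl⟩
  have hvact : ∀ d u, ψ d * v u * (ψ d)⁻¹ = v (act d u) := fun d u => by
    show ψ d * v₀ (app P u) * (ψ d)⁻¹ = v₀ (app P (app (dmat d) u))
    rw [hA, ← app_mmul, ← app_mmul, hPcomm]
  let φ : El → G := fun x => v x.1 * ψ x.2
  have hφmul : ∀ x y, φ (emul x y) = φ x * φ y := by
    intro x y
    show v (x.1 + act x.2 y.1) * ψ (x.2 * y.2) = v x.1 * ψ x.2 * (v y.1 * ψ y.2)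
    rw [hvadd, ← hvact, map_mul]
    group
  have hφinj : Function.Injective φ := by
    intro x y h
    have h1 : ψ (x.2 * y.2⁻¹) = (v x.1)⁻¹ * v y.1 := by
      rw [map_mul, map_inv]
      calc ψ x.2 * (ψ y.2)⁻¹ = (v x.1)⁻¹ * (v x.1 * ψ x.2) * (ψ y.2)⁻¹ := by group
        _ = (v x.1)⁻¹ * (v y.1 * ψ y.2) * (ψ y.2)⁻¹ := by rw [show v x.1 * ψ x.2 = v y.1 * ψ y.2 from h]
        _ = _ := by group
    have h2 : x.2 * y.2⁻¹ = 1 := hcentψ _ (by
      rw [h1, hCM]
      exact T.mul_mem (T.inv_mem (hv₀mem _)) (hv₀mem _))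
    have h3 : x.2 = y.2 := mul_inv_eq_one.1 h2
    have h4 : v x.1 = v y.1 := mul_right_cancel (b := ψ x.2) (h.trans (by rw [h3]))
    exact Prod.ext (hvinj h4) h3
  have hsub : ∀ x, φ x ∈ N := fun x => N.mul_mem (Subgroup.le_normalizer (hv₀mem _)) (hψN _)
  have hcard : Nat.card N = 72 := by
    have hTN : T ≤ N := Subgroup.le_normalizer
    let T' : Subgroup N := T.subgroupOf N
    have hT' : Nat.card T' = 9 := by
      rw [Nat.card_congr (Subgroup.subgroupOfEquivOfLe hTN).toEquiv, hM9]
    haveI : T'.Normal := Subgroup.normal_in_normalizer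
    let ρ : N →* Equiv.Perm T :=
      { toFun := fun n =>
          { toFun := fun x => ⟨n.1 * x.1 * n.1⁻¹, hnorm _ n.2 _ x.2⟩
            invFun := fun x => ⟨n.1⁻¹ * x.1 * n.1⁻¹⁻¹, hnorm _ (N.inv_mem n.2) _ x.2⟩
            left_inv := fun x => Subtype.ext (by group)
            right_inv := fun x => Subtype.ext (by group) }
        map_one' := Equiv.ext fun x => Subtype.ext (by simp)
        map_mul' := fun n n' => Equiv.ext fun x => Subtype.ext (by simp [mul_assoc]) }
    have hρker : ρ.ker = T' := by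
      ext n
      rw [MonoidHom.mem_ker, Subgroup.mem_subgroupOf]
      rw [show n.1 ∈ T ↔ n.1 ∈ Subgroup.centralizer (T : Set G) by rw [hCM], Subgroup.mem_centralizer_iff]
      constructor
      · intro h x hx
        have := congrArg Subtype.val (Equiv.ext_iff.1 h ⟨x, hx⟩)
        exact (mul_inv_eq_iff_eq_mul.1 this).symm
      · intro h
        refine Equiv.ext fun x => Subtype.ext ?_
        show n.1 * x.1 * n.1⁻¹ = x.1
        rw [← h x.1 x.2, mul_inv_cancel_right]
    -- the image lies in the general linear group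
    have hlin : ∀ n : N, ∃ B : Mat, ∀ u, n.1 * v u * n.1⁻¹ = v (app B u) := by
      intro n
      obtain ⟨p, hp⟩ := hvsurj _ (hnorm _ n.2 _ (hv₀mem (app P (1, 0))))
      obtain ⟨q, hq⟩ := hvsurj _ (hnorm _ n.2 _ (hv₀mem (app P (0, 1))))
      refine ⟨(p, q), ?_⟩
      let f : G → G := fun x => n.1 * x * n.1⁻¹
      have hf : ∀ x y, f (x * y) = f x * f y := fun x y => by simp [f, mul_assoc]
      have key := w_cases
      have hv0 : v 0 = 1 := by
        show v₀ (app P 0) = 1
        rw [show app P 0 = 0 by simp [app, Prod.ext_iff], hv₀zero]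
      have h0 : f (v 0) = v (app (p, q) 0) := by
        rw [show app (p, q) 0 = 0 by simp [app], hv0]; simp [f]
      have h1 : f (v (1, 0)) = v (app (p, q) (1, 0)) := by
        rw [show app (p, q) (1, 0) = p by simp [app], hp]
      have h2 : f (v (0, 1)) = v (app (p, q) (0, 1)) := by
        rw [show app (p, q) (0, 1) = q by simp [app], hq]
      intro u
      show f (v u) = _
      rcases key u with rfl | rfl | rfl | rfl | rfl | rfl | rfl | rfl | rfl <;>
        simp only [app_add, hvadd, hf, h0, h1, h2]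
    choose B hB using hlin
    have hBinv : ∀ n, (∀ u : W, app (B n) u = 0 → u = 0) := fun n u hu => hvinj (by
      have hv0 : v 0 = 1 := by
        show v₀ (app P 0) = 1
        rw [show app P 0 = 0 by simp [app, Prod.ext_iff], hv₀zero]
      have := hB n u
      rw [hu, hv0, conj_eq_one_iff] at this
      rw [this, hv0])
    have hgl := card_gl
    have happinj : ∀ A : {B : Mat // ∀ u : W, app B u = 0 → u = 0}, Function.Bijective (app A.1) := by
      intro A
      refine Finite.injective_iff_bijective.1 fun u u' h => sub_eq_zero.1 (A.2 _ ?_)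
      have : app A.1 (u - u') + app A.1 u' = app A.1 u' := by rw [← app_add, sub_add_cancel, h]
      simpa using this
    let em : {B : Mat // ∀ u : W, app B u = 0 → u = 0} ≃ AddAut W :=
      { toFun := fun A => AddEquiv.ofBijective (AddMonoidHom.mk' (app A.1) (app_add A.1)) (happinj A)
        invFun := fun σ => ⟨(σ (1, 0), σ (0, 1)), fun u hu => by
          refine σ.injective ?_
          have key : ∀ (σ : AddAut W) (u : W), σ u = app (σ (1, 0), σ (0, 1)) u := by
            intro σ u
            have hu := w_decomp u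
            conv_lhs => rw [hu]
            rw [map_add, map_nsmul, map_nsmul]
            simp [app, Prod.ext_iff, ZMod.natCast_val, ZMod.cast_id]
          rw [key σ u, hu, map_zero]⟩
        left_inv := fun A => Subtype.ext (app_ext _ _
          (show app (app A.1 (1, 0), app A.1 (0, 1)) (1, 0) = app A.1 (1, 0) by simp [app])
          (show app (app A.1 (1, 0), app A.1 (0, 1)) (0, 1) = app A.1 (0, 1) by simp [app]))
        right_inv := fun σ => AddEquiv.ext fun u => by
          have hu := w_decomp u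
          show app (σ (1, 0), σ (0, 1)) u = σ u
          conv_rhs => rw [hu]
          rw [map_add, map_nsmul, map_nsmul]
          simp [app, Prod.ext_iff, ZMod.natCast_val, ZMod.cast_id] }
    have hmulB : ∀ (m n : N) (u : W), app (B (m * n)) u = app (B m) (app (B n) u) := fun m n u => hvinj (by
      rw [← hB, ← hB, ← hB]; simp [mul_assoc])
    let g : N →* Multiplicative (AddAut W) :=
      { toFun := fun n => Multiplicative.ofAdd (em ⟨B n, hBinv n⟩)
        map_one' := congrArg Multiplicative.ofAdd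
          (AddEquiv.ext fun u => show app (B 1) u = u from hvinj (by rw [← hB]; simp))
        map_mul' := fun m n => congrArg Multiplicative.ofAdd (AddEquiv.ext fun u => hmulB m n u) }
    have hgker : g.ker = T' := by
      rw [← hρker]
      ext n
      rw [MonoidHom.mem_ker, MonoidHom.mem_ker]
      constructor
      · intro h
        refine Equiv.ext fun x => Subtype.ext ?_
        obtain ⟨u, hu⟩ := hvsurj _ x.2
        show n.1 * x.1 * n.1⁻¹ = x.1
        rw [← hu, hB, show app (B n) u = u from congrArg (fun σ : Multiplicative (AddAut W) => (Multiplicative.toAdd σ) u) h]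
      · intro h
        refine congrArg Multiplicative.ofAdd (AddEquiv.ext fun u => show app (B n) u = u from hvinj ?_)
        rw [← hB]
        exact congrArg Subtype.val (Equiv.ext_iff.1 h ⟨_, hv₀mem _⟩)
    have hdiv : T'.index ∣ 48 := by
      rw [← hgker, Subgroup.index_ker, ← hgl, ← Nat.card_eq_fintype_card, Nat.card_congr (em.trans Multiplicative.ofAdd)]
      exact Subgroup.card_subgroup_dvd_card _
    have h3 : ¬ 3 ∣ T'.index := fun hd => M.not_dvd_index (by
      have h := Subgroup.relIndex_mul_index hTN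
      exact hd.trans (h ▸ dvd_mul_right _ _))
    have hS8 : Nat.card (S : Subgroup N) = 8 := by rw [Nat.card_congr e.toEquiv, DihedralGroup.nat_card]
    have hmul := T'.card_mul_index
    rw [hT'] at hmul
    have h2 := S.card_eq_multiplicity
    rw [hS8] at h2
    have h8 : 8 ∣ Nat.card N := hS8 ▸ Subgroup.card_subgroup_dvd_card _
    have h16 : ¬ 16 ∣ Nat.card N := by
      intro hd
      have := (Nat.prime_two.pow_dvd_iff_le_factorization (Nat.card_pos.ne')).1 (show 2 ^ 4 ∣ Nat.card N from hd)
      have hv : (Nat.card N).factorization 2 = 3 := Nat.pow_right_injective le_rfl (h2.symm.trans (by norm_num))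
      omega
    have hle := Nat.le_of_dvd (by norm_num) hdiv
    interval_cases hi : T'.index <;> omega
  have hφ : ∀ n : G, n ∈ N ↔ ∃ x, φ x = n := by
    refine fun n => ⟨fun hn => ?_, fun ⟨x, hx⟩ => hx ▸ hsub x⟩
    have hbij : Function.Bijective fun x => (⟨φ x, hsub x⟩ : N) :=
      (Nat.bijective_iff_injective_and_card _).2 ⟨fun p q h => hφinj (congrArg Subtype.val h), by
        rw [hcard, Nat.card_prod, DihedralGroup.nat_card]; simp⟩
    obtain ⟨x, hx⟩ := hbij.2 ⟨n, hn⟩
    exact ⟨x, congrArg Subtype.val hx⟩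
  refine ⟨φ, hφinj, hφmul, hφ, fun n => ⟨fun hn => ?_, ?_⟩⟩
  · obtain ⟨u, rfl⟩ := hvsurj n hn
    exact ⟨u, by simp [φ]⟩
  · rintro ⟨u, rfl⟩
    simpa [φ] using hv₀mem (app P u)

end Cfsg.Agent.H29.DihNine
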