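import Mathlib

/-!
Enumeration of the possible rows on the special classes for a self-centralising Sylow 3-subgroup of order 9
whose normaliser quotient is dihedral of order 8, and of the degrees in the main configuration.
-/

namespace Cfsg.Agent.H29.DihNine

/-- A row of multiplicities. -/
abbrev R4 := ℤ × ℤ × ℤ × ℤ

/-- The second moments of a family of rows. -/
structure Gram where
  /-- moment -/
  aa : ℤ
  /-- moment -/
  bb : ℤ
  /-- moment -/
  cc : ℤ
  /-- moment -/
  dd : ℤ
  /-- moment -/
  ab : ℤ
  /-- moment -/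
  ac : ℤ
  /-- moment -/
  ad : ℤ
  /-- moment -/
  bc : ℤ
  /-- moment -/
  bd : ℤ
  /-- moment -/
  cd : ℤ
  deriving DecidableEq

/-- Remove the contribution of a row. -/
def Gram.minus (h : Gram) : R4 → Gram
  | (a, b, c, d) => ⟨h.aa - a * a, h.bb - b * b, h.cc - c * c, h.dd - d * d, h.ab - a * b, h.ac - a * c,
      h.ad - a * d, h.bc - b * c, h.bd - b * d, h.cd - c * d⟩

/-- Necessary conditions on the moments of a family of rows. -/
def Gram.ok (h : Gram) : Bool :=
  decide (0 ≤ h.aa) && decide (0 ≤ h.bb) && decide (0 ≤ h.cc) && decide (0 ≤ h.dd) &&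
    decide (h.ab * h.ab ≤ h.aa * h.bb) && decide (h.ac * h.ac ≤ h.aa * h.cc) &&
    decide (h.ad * h.ad ≤ h.aa * h.dd) && decide (h.bc * h.bc ≤ h.bb * h.cc) &&
    decide (h.bd * h.bd ≤ h.bb * h.dd) && decide (h.cd * h.cd ≤ h.cc * h.dd)

/-- The zero moments. -/
def Gram.nil : Gram := ⟨0, 0, 0, 0, 0, 0, 0, 0, 0, 0⟩

/-- The candidate rows, with first nonzero entry positive. -/
def cands : List R4 :=
  ([1, 0, -1].flatMap fun a => [2, 1, 0, -1, -2].flatMap fun b => [1, 0, -1].flatMap fun c =>
      [2, 1, 0, -1, -2].map fun d => ((a, b, c, d) : R4)).filter fun v =>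
    decide (0 < v.1 ∨ (v.1 = 0 ∧ (0 < v.2.1 ∨ (v.2.1 = 0 ∧ (0 < v.2.2.1 ∨ (v.2.2.1 = 0 ∧ 0 < v.2.2.2))))))

/-- The six configurations. -/
def configs : List (List R4) :=
  [[(1, 1, 1, 1), (1, 1, 0, 1), (1, -1, 0, 0), (0, 1, 1, 0), (0, 0, 1, 0), (0, 0, 0, 1), (0, 0, 0, 1)],
   [(1, 1, 1, 1), (1, 0, 0, 1), (1, 0, 0, 0), (0, 1, 1, 1), (0, 1, 0, 0), (0, 1, 0, 0), (0, 0, 1, -1)],
   [(1, 1, 1, 1), (1, 0, 0, 1), (1, 0, 0, 0), (0, 1, 1, 0), (0, 1, 0, 1), (0, 1, 0, 0), (0, 0, 1, 0), (0, 0, 0, 1)],
   [(1, 1, 1, 0), (1, 0, 0, 1), (1, 0, 0, 1), (0, 1, 1, 1), (0, 1, 0, 1), (0, 1, 0, 0), (0, 0, 1, 0)],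
   [(1, 1, 0, 1), (1, 0, 1, 1), (1, 0, 0, 0), (0, 1, 1, 0), (0, 1, 1, 0), (0, 1, 0, 1), (0, 0, 0, 1)],
   [(1, 1, 0, 1), (1, 0, 1, 0), (1, 0, 0, 1), (0, 1, 1, 1), (0, 1, 1, 0), (0, 1, 0, 0), (0, 0, 0, 1)]]

/-- Search for families with given moments, rows in the order of the candidates. -/
def explore : ℕ → List R4 → Gram → List R4 → Bool
  | 0, _, h, cur => if h = Gram.nil then configs.contains cur.reverse else false
  | f + 1, cs, h, cur => if h = Gram.nil then configs.contains cur.reverse else
      cs.tails.all fun l => match l with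
        | [] => true
        | v :: rest => if (h.minus v).ok then explore f (v :: rest) (h.minus v) (v :: cur) else true

/-- The moments left by the principal row. -/
def gram0 : Gram := ⟨3, 4, 3, 4, 1, 1, 2, 2, 2, 1⟩

theorem explore_all : explore 14 cands gram0 [] = true := by decide +kernel

/-- An affine form in three parameters. -/
structure Form where
  /-- constant -/
  k : ℤ
  /-- first coefficient -/
  x : ℤ
  /-- second coefficient -/
  y : ℤ
  /-- third coefficient -/
  z : ℤ
  deriving DecidableEq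

/-- Impose `f = v`, using the first parameter that occurs in `f`. -/
def Form.fix (f : Form) (v : ℤ) (g : Form) : Form :=
  let m := if f.x ≠ 0 then g.x * f.x else if f.y ≠ 0 then g.y * f.y else g.z * f.z
  ⟨g.k - m * (f.k - v), g.x - m * f.x, g.y - m * f.y, g.z - m * f.z⟩

/-- A form is constant. -/
def Form.const (f : Form) : Bool := decide (f.x = 0) && decide (f.y = 0) && decide (f.z = 0)

/-- A state: the five degrees as forms, with coefficient, residue and excluded value. -/
abbrev State := List (Form × ℤ × ℤ × ℤ)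

/-- Some constant entry is impossible. -/
def State.invalid (st : State) : Bool :=
  st.any fun e => e.1.const && (decide (e.1.k = 0) || decide (e.1.k % 9 ≠ e.2.2.1) || decide (e.1.k = e.2.2.2))

/-- Numerator and denominator of the constant part of the sum. -/
def State.frac : State → ℤ × ℤ
  | [] => (1, 1)
  | e :: st => let p := State.frac st
      if e.1.const then (p.1 * |e.1.k| + e.2.1 * e.1.k.sign * p.2, p.2 * |e.1.k|) else p

/-- The total absolute coefficient of the free part. -/
def State.wsum : State → ℤ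
  | [] => 0
  | e :: st => if e.1.const then State.wsum st else |e.2.1| + State.wsum st

/-- The weight of a term in the sum of squares. -/
def sqWeight (a : ℤ) : ℤ := if |a| = 8 then 1 else |a|

/-- The total weight of the free part in the sum of squares. -/
def State.qsum : State → ℤ
  | [] => 0
  | e :: st => if e.1.const then State.qsum st else sqWeight e.2.1 + State.qsum st

/-- A bound for which large free values are impossible. -/
def cuts : List ℕ :=
  [8, 14, 17, 19, 23, 26, 28, 32, 35, 41, 44, 50, 53, 62, 71, 80, 89, 107, 125, 152, 179, 215, 260, 314, 377, 449,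
    539, 647, 791, 950, 1200]

/-- The bound works. -/
def cutOK (num den w q : ℤ) (T : ℕ) : Bool :=
  decide (num * (T + 1) + w * den ≤ 0) ||
    (decide (0 < num * (T + 1) - w * den) && decide (648 * den < (num * (T + 1) - w * den) * (T + 1) * q))

/-- The values to try. -/
def values (T : ℕ) (r b : ℤ) : List ℤ :=
  ((List.range (2 * (T / 9) + 2)).map fun m : ℕ => 9 * ((m : ℤ) - (T / 9 : ℕ) - 1) + r).filter fun v =>
    decide (v ≠ b ∧ v ≠ 0 ∧ -(T : ℤ) ≤ v ∧ v ≤ T)

/-- The final test on five values. -/
def leaf : List ℤ → ℤ → ℤ → Bool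
  | [p, q, v, k, u], num, den =>
    decide (num ≤ 0) || decide (648 * den < (1 + 2 * p * p + 2 * q * q + 2 * k * k + v * v + u * u) * num) ||
      decide (648 * den % num ≠ 0) || decide (648 * den / num % 648 ≠ 72) ||
      decide (648 * den / num = 720) ||
      (decide (648 * den / num % 7 = 0) && [p, q, v, k, u].any fun x => decide (|x| ≤ 5))
  | _, _, _ => false

/-- The recursive test. -/
def search : ℕ → State → Bool
  | 0, st => st.invalid || (st.all (fun e => e.1.const) && leaf (st.map fun e => e.1.k) st.frac.1 st.frac.2)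
  | f + 1, st =>
    st.invalid ||
      if st.all (fun e => e.1.const) then leaf (st.map fun e => e.1.k) st.frac.1 st.frac.2
      else match cuts.find? (cutOK st.frac.1 st.frac.2 st.wsum st.qsum) with
        | none => false
        | some T => st.all fun e => e.1.const || (values T e.2.2.1 e.2.2.2).all fun v =>
            search f (st.map fun g => (e.1.fix v g.1, g.2))

/-- The initial state. -/
def state0 : State :=
  [(⟨1, 1, -1, 0⟩, -2, 5, 0), (⟨0, 1, 0, 0⟩, -2, 5, 0), (⟨0, 0, 1, 0⟩, 1, 1, 1),
   (⟨0, 0, 0, 1⟩, 2, 1, 1), (⟨-1, -1, 0, -1⟩, 8, 2, 2)]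

theorem search_all : search 3 state0 = true := by decide +kernel

/-- The box for the small configuration. -/
def boxVals : List ℤ := ((List.range 17).map fun m : ℕ => 9 * ((m : ℤ) - 8) + 1).filter fun v => decide (v ≠ 1)

/-- The test in the small configuration, for `K` and `L`. -/
def boxTest (k l : ℤ) : Bool :=
  let r := 2 + 2 * l + k
  let t := -1 - l - k
  let num := r * k * l - 2 * k * l + 2 * r * l + r * k
  let den := r * k * l
  let n := if den < 0 then -num else num
  decide (r = 0) || decide (n ≤ 0) || decide (648 * |den| < (1 + 2 * k * k + l * l + 2 * r * r + 2 * t * t) * n) ||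
    decide (648 * |den| % n ≠ 0) || decide (648 * |den| / n % 648 ≠ 72)

theorem box_all : (boxVals.all fun k => boxVals.all fun l => boxTest k l) = true := by decide +kernel

end Cfsg.Agent.H29.DihNine
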