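import Cfsg.Agent.H29.DihNineCoords
import Cfsg.Agent.H42.ClassMult

/-!
Classes and centralisers of the special elements.
-/

namespace Cfsg.Agent.H29.DihNine

/-- The first element of order three. -/
def elA : El := ((1, 0), 1)

/-- The second element of order three. -/
def elB : El := ((1, 1), 1)

/-- An element of order six over the first. -/
def elG : El := ((1, 0), .sr 0)

/-- An element of order six over the second. -/
def elH : El := ((1, 1), .sr 3)

/-- Powers in the model. -/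
def epow (x : El) : ℕ → El
  | 0 => (0, 1)
  | k + 1 => emul (epow x k) x

/-- Conjugacy in the model. -/
def econj (x x' : El) : Prop := ∃ y, emul y x = emul x' y

instance (x x' : El) : Decidable (econj x x') := by unfold econj; infer_instance

/-- The order of a centraliser in the model. -/
def ecent (x : El) : ℕ := (Finset.univ.filter fun y : El => emul y x = emul x y).card

theorem ecent_values : ecent elA = 18 ∧ ecent elB = 18 ∧ ecent elG = 6 ∧ ecent elH = 6 := by decide +kernel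

theorem pow_elG : epow elG 4 = elA ∧ epow elG 6 = (0, 1) ∧ epow elG 2 ≠ (0, 1) ∧ epow elG 3 ≠ (0, 1) ∧
    econj (epow elG 5) elG ∧ econj (epow elG 2) elA ∧ epow elG 3 = (0, .sr 0) ∧ econj (epow elA 2) elA := by
  decide +kernel

theorem pow_elH : epow elH 4 = elB ∧ epow elH 6 = (0, 1) ∧ epow elH 2 ≠ (0, 1) ∧ epow elH 3 ≠ (0, 1) ∧
    econj (epow elH 5) elH ∧ econj (epow elH 2) elB ∧ epow elH 3 = (0, .sr 3) ∧ econj (epow elB 2) elB := by
  decide +kernel

theorem class_split : ¬ econj elA elB ∧ ¬ econj elB elA ∧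
    ∀ u : W, u ≠ 0 → (wt u = 1 ∧ econj elA (u, 1)) ∨ (wt u = 2 ∧ econj elB (u, 1)) := by
  decide +kernel

theorem wt_sum : (Finset.univ.filter fun u : W => wt u = 1).card = 4 ∧
    (Finset.univ.filter fun u : W => wt u = 2).card = 4 ∧ wt ((1, 0) : W) = 1 ∧ wt ((1, 1) : W) = 2 := by
  decide +kernel

theorem inner_count :
    (Finset.univ.filter fun w : W => wt w = 1 ∧ wt ((1, 1) - w) = 1).card = 2 ∧
    (Finset.univ.filter fun w : W => wt w = 1 ∧ wt ((1, 1) - w) = 2).card = 2 ∧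
    wt ((1, 1) + (1, 1) : W) = 2 ∧ wt ((1, 0) + (1, 0) : W) = 1 := by
  decide +kernel

theorem emul_tr : ∀ u w : W, emul (w, 1) (u, 1) = (w + u, 1) := by decide +kernel

theorem wt_zero' : wt (0 : W) = 0 := by decide +kernel

theorem rep_ne : ((1, 0) : W) ≠ 0 ∧ ((1, 1) : W) ≠ 0 := by decide +kernel

variable {G : Type*} [Group G] {M : Subgroup G} {φ : El → G}

theorem Coords.one (h : Coords M φ) : φ (0, 1) = 1 := by
  have e := h.mul (0, 1) (0, 1)
  rw [show emul ((0, 1) : El) (0, 1) = (0, 1) by rw [emul_tr]; simp] at e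
  exact mul_left_cancel (a := φ (0, 1)) (by rw [← e, mul_one])

theorem Coords.pow (h : Coords M φ) (x : El) : ∀ k, φ x ^ k = φ (epow x k)
  | 0 => by rw [pow_zero, epow, h.one]
  | k + 1 => by rw [pow_succ, h.pow x k, epow, h.mul]

theorem Coords.conj_of (h : Coords M φ) {x x' : El} (e : econj x x') : IsConj (φ x) (φ x') := by
  obtain ⟨y, hy⟩ := e
  refine isConj_iff.2 ⟨φ y, ?_⟩
  rw [mul_inv_eq_iff_eq_mul, ← h.mul, ← h.mul, hy]

theorem Coords.mem_M (h : Coords M φ) (u : W) : φ (u, 1) ∈ M := (h.mem _).2 ⟨u, rfl⟩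

theorem Coords.ne_one (h : Coords M φ) {x : El} (hx : x ≠ (0, 1)) : φ x ≠ 1 :=
  fun e => hx (h.inj (e.trans h.one.symm))

theorem Coords.econj_of (h : Coords M φ) [Finite G] (hT : H56.IsTIThree M) {u u' : W} (hu : u ≠ 0)
    (e : IsConj (φ (u, 1)) (φ (u', 1))) : econj (u, 1) (u', 1) := by
  obtain ⟨c, hc⟩ := isConj_iff.1 e
  have hc' : c ∈ Subgroup.normalizer (M : Set G) :=
    hT.ti (h.mem_M u) (h.ne_one fun hh => hu (congrArg Prod.fst hh)) (by rw [hc]; exact h.mem_M u')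
  obtain ⟨y, rfl⟩ := (h.range c).1 hc'
  refine ⟨y, h.inj ?_⟩
  rw [h.mul, h.mul, ← mul_inv_eq_iff_eq_mul]
  exact hc

theorem Coords.conj_iff (h : Coords M φ) [Finite G] (hT : H56.IsTIThree M) {u : W} (hu : u ≠ 0) :
    (IsConj (φ elA) (φ (u, 1)) ↔ wt u = 1) ∧ (IsConj (φ elB) (φ (u, 1)) ↔ wt u = 2) := by
  obtain ⟨hAB, hBA, hsp⟩ := class_split
  constructor
  · constructor
    · intro e
      rcases hsp u hu with ⟨hw, -⟩ | ⟨-, he⟩
      · exact hw
      · exact absurd (h.econj_of hT (u := (1, 0)) (u' := (1, 1)) rep_ne.1 (e.trans (h.conj_of he).symm)) hAB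
    · intro hw
      rcases hsp u hu with ⟨-, he⟩ | ⟨hw', -⟩
      · exact h.conj_of he
      · omega
  · constructor
    · intro e
      rcases hsp u hu with ⟨-, he⟩ | ⟨hw, -⟩
      · exact absurd (h.econj_of hT (u := (1, 1)) (u' := (1, 0)) rep_ne.2 (e.trans (h.conj_of he).symm)) hBA
      · exact hw
    · intro hw
      rcases hsp u hu with ⟨hw', -⟩ | ⟨-, he⟩
      · omega
      · exact h.conj_of he

theorem Coords.card_centralizer (h : Coords M φ) [Finite G] (x : El)
    (hle : Subgroup.centralizer ({φ x} : Set G) ≤ Subgroup.normalizer (M : Set G)) :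
    Nat.card (Subgroup.centralizer ({φ x} : Set G)) = ecent x := by
  rw [ecent, ← Fintype.card_subtype, ← Nat.card_eq_fintype_card]
  refine (Nat.card_congr (Equiv.ofBijective
    (fun y => (⟨φ y.1, Subgroup.mem_centralizer_singleton_iff.2 (by rw [← h.mul, ← h.mul, y.2])⟩ :
      Subgroup.centralizer ({φ x} : Set G))) ⟨fun a b e => Subtype.ext (h.inj (congrArg Subtype.val e)),
    fun c => ?_⟩)).symm
  obtain ⟨y, hy⟩ := (h.range _).1 (hle c.2)
  have hc := Subgroup.mem_centralizer_singleton_iff.1 c.2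
  exact ⟨⟨y, h.inj (by rw [h.mul, h.mul, hy]; exact hc)⟩, Subtype.ext hy⟩

theorem Coords.cent_le (h : Coords M φ) [Finite G] (hT : H56.IsTIThree M) (x : El) (u : W) (hu : u ≠ 0) (k : ℕ)
    (hx : epow x k = (u, 1)) : Subgroup.centralizer ({φ x} : Set G) ≤ Subgroup.normalizer (M : Set G) := by
  intro c hc
  refine hT.cent _ (h.mem_M u) (h.ne_one fun hh => hu (congrArg Prod.fst hh))
    (Subgroup.mem_centralizer_singleton_iff.2 ?_)
  rw [← hx, ← h.pow]
  exact (Commute.pow_right (Subgroup.mem_centralizer_singleton_iff.1 hc) k).eq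

theorem Coords.not_conj (h : Coords M φ) [Finite G] (hT : H56.IsTIThree M) :
    ¬ IsConj (φ elA) (φ elB) ∧ ¬ IsConj (φ elB) (φ elA) ∧ ¬ IsConj (φ elG) (φ elH) ∧ ¬ IsConj (φ elH) (φ elG) := by
  have h1 : ¬ IsConj (φ elA) (φ elB) := fun e => class_split.1 (h.econj_of hT rep_ne.1 e)
  have h2 : ¬ IsConj (φ elB) (φ elA) := fun e => h1 e.symm
  refine ⟨h1, h2, fun e => h1 ?_, fun e => h2 ?_⟩
  all_goals
    obtain ⟨c, hc⟩ := isConj_iff.1 e
    refine isConj_iff.2 ⟨c, ?_⟩
    rw [← pow_elG.1, ← pow_elH.1, ← h.pow, ← h.pow, ← hc, conj_pow]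

theorem Coords.pairs (h : Coords M φ) [Finite G] (hT : H56.IsTIThree M) :
    H42.pairCount (φ elA) (φ elA) (φ elB) = 2 ∧ H42.pairCount (φ elA) (φ elB) (φ elB) = 2 := by
  obtain ⟨i1, i2, w2, w1⟩ := inner_count
  obtain ⟨n1, n2⟩ := rep_ne
  have key : ∀ (q : W) (k : ℕ), q ≠ 0 → (∀ u : W, u ≠ 0 → (IsConj (φ (u, 1)) (φ (q, 1)) ↔ wt u = k)) →
      1 ≤ k → ¬ (IsConj (φ elA) (φ (q, 1)) ∧ IsConj (φ elB) (φ elA * φ elA)) →
      H42.pairCount (φ elA) (φ (q, 1)) (φ elB) =
        (Finset.univ.filter fun w : W => wt w = 1 ∧ wt ((1, 1) - w) = k).card := by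
    intro q k hq hk hk1 hne
    have hzero : ∀ u : W, (wt u = k) → u ≠ 0 := fun u hu e => by rw [e, wt_zero'] at hu; omega
    rw [H42.pairCount, ← Fintype.card_subtype, ← Nat.card_eq_fintype_card]
    have hdiv : ∀ w : W, (φ (w, 1))⁻¹ * φ elB = φ (((1, 1) : W) - w, 1) := fun w => by
      rw [inv_mul_eq_iff_eq_mul, ← h.mul, emul_tr, add_sub_cancel]; rfl
    refine (Nat.card_congr (Equiv.ofBijective (fun w => (⟨φ (w.1, 1), ?_, ?_⟩ :
      {x : G // IsConj x (φ elA) ∧ IsConj (x⁻¹ * φ elB) (φ (q, 1))})) ⟨?_, ?_⟩)).symm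
    · have hw : (w.1 : W) ≠ 0 := fun e => by have := w.2.1; rw [e, wt_zero'] at this; omega
      exact ((h.conj_iff hT hw).1.2 w.2.1).symm
    · rw [hdiv]
      exact (hk _ (hzero _ w.2.2)).2 w.2.2
    · intro a b e
      have := congrArg Prod.fst (h.inj (congrArg Subtype.val e))
      exact Subtype.ext this
    · rintro ⟨x, hx, hy⟩
      obtain ⟨ha, hb⟩ := hT.pair_mem (h.mem_M _) (h.mem_M q) (h.mem_M _)
        (h.ne_one fun hh => n2 (congrArg Prod.fst hh)) hne hx hy (mul_inv_cancel_left x (φ elB))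
      obtain ⟨w, rfl⟩ := (h.mem x).1 ha
      have hw0 : w ≠ 0 := by
        rintro rfl
        rw [h.one] at hx
        exact h.ne_one (x := elA) (fun hh => n1 (congrArg Prod.fst hh)) (isConj_one_right.1 hx)
      have hd0 : ((1, 1) : W) - w ≠ 0 := by
        intro hh
        rw [hdiv, hh, h.one] at hy
        exact h.ne_one (x := (q, 1)) (fun e => hq (congrArg Prod.fst e)) (isConj_one_right.1 hy)
      rw [hdiv] at hy
      exact ⟨⟨w, (h.conj_iff hT hw0).1.1 hx.symm, (hk _ hd0).1 hy⟩, rfl⟩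
  refine ⟨?_, ?_⟩
  · rw [show φ elA = φ (((1, 0) : W), 1) from rfl]
    refine (key (1, 0) 1 n1 (fun u hu => ⟨fun e => (h.conj_iff hT hu).1.1 e.symm,
      fun e => ((h.conj_iff hT hu).1.2 e).symm⟩) le_rfl ?_).trans i1
    rintro ⟨-, e⟩
    rw [← h.mul, show emul elA elA = (((1, 0) + (1, 0) : W), 1) from emul_tr _ _] at e
    have := (h.conj_iff hT (u := (1, 0) + (1, 0)) (fun hh => by rw [hh, wt_zero'] at w1; omega)).2.1 e
    omega
  · refine (key (1, 1) 2 n2 (fun u hu => ⟨fun e => (h.conj_iff hT hu).2.1 e.symm,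
      fun e => ((h.conj_iff hT hu).2.2 e).symm⟩) (by norm_num) ?_).trans i2
    rintro ⟨e, -⟩
    exact (h.not_conj hT).1 e

theorem Coords.card_eq (h : Coords M φ) [Finite G] (hT : H56.IsTIThree M) (hM : Nat.card M = 9) :
    ∃ k : ℕ, Nat.card G = 72 * k ∧ k % 9 = 1 := by
  refine ⟨(Subgroup.normalizer (M : Set G)).index, ?_, ?_⟩
  · rw [← Subgroup.card_mul_index (Subgroup.normalizer (M : Set G))]
    congr 1
    have hb : Function.Bijective fun x => (⟨φ x, (h.range _).2 ⟨x, rfl⟩⟩ : Subgroup.normalizer (M : Set G)) :=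
      ⟨fun a b e => h.inj (congrArg Subtype.val e), fun n => by
        obtain ⟨x, hx⟩ := (h.range _).1 n.2; exact ⟨x, Subtype.ext hx⟩⟩
    rw [← Nat.card_congr (Equiv.ofBijective _ hb), Nat.card_prod, DihedralGroup.nat_card]
    simp
  · have := hT.index_modEq
    rw [hM] at this
    exact this

end Cfsg.Agent.H29.DihNine
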