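import Cfsg.Agent.H29.DihNineArith
import Cfsg.Agent.H29.DihNineLocal
import Cfsg.Agent.H29.DihNineChars
import Cfsg.Agent.H29.SmallOrder720

/-!
The rows of the characters on the special classes, and the conclusion that the group is not simple.
-/

open scoped ComplexConjugate

namespace Cfsg.Agent.H29.DihNine

/-- First nonzero entry positive. -/
def Canon (v : R4) : Prop :=
  0 < v.1 ∨ (v.1 = 0 ∧ (0 < v.2.1 ∨ (v.2.1 = 0 ∧ (0 < v.2.2.1 ∨ (v.2.2.1 = 0 ∧ 0 < v.2.2.2)))))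

instance (v : R4) : Decidable (Canon v) := by unfold Canon; infer_instance

/-- The sign making a row canonical. -/
def sgn (v : R4) : ℤ := if Canon v then 1 else -1

/-- Multiply a row. -/
def smul4 (e : ℤ) (v : R4) : R4 := (e * v.1, e * v.2.1, e * v.2.2.1, e * v.2.2.2)

theorem canon_sgn {v : R4} (hv : v ≠ 0) : Canon (smul4 (sgn v) v) := by
  obtain ⟨a, b, c, d⟩ := v
  simp only [ne_eq, Prod.ext_iff, Prod.fst_zero, Prod.snd_zero] at hv
  by_cases h : Canon (a, b, c, d)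
  · simp only [sgn, if_pos h, smul4, one_mul]; exact h
  · simp only [sgn, if_neg h, smul4]
    simp only [Canon] at h ⊢
    omega

theorem sgn_cases (v : R4) : sgn v = 1 ∨ sgn v = -1 := by
  unfold sgn; split_ifs <;> simp

theorem mem_cands {v : R4} (hv : Canon v) (ha : v.1 * v.1 ≤ 3) (hb : v.2.1 * v.2.1 ≤ 4)
    (hc : v.2.2.1 * v.2.2.1 ≤ 3) (hd : v.2.2.2 * v.2.2.2 ≤ 4) : v ∈ cands := by
  obtain ⟨a, b, c, d⟩ := v
  simp only [cands, List.mem_filter, List.mem_flatMap, List.mem_map, decide_eq_true_eq]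
  refine ⟨⟨a, ?_, b, ?_, c, ?_, d, ?_, rfl⟩, hv⟩
  · have : -1 ≤ a ∧ a ≤ 1 := ⟨by nlinarith, by nlinarith⟩
    simp; omega
  · have : -2 ≤ b ∧ b ≤ 2 := ⟨by nlinarith, by nlinarith⟩
    simp; omega
  · have : -1 ≤ c ∧ c ≤ 1 := ⟨by nlinarith, by nlinarith⟩
    simp; omega
  · have : -2 ≤ d ∧ d ≤ 2 := ⟨by nlinarith, by nlinarith⟩
    simp; omega

variable {G : Type*} [Group G] [Fintype G]

theorem not_simple_of_coords [IsSimpleGroup G] (hG : ¬ IsMulCommutative G) {M : Subgroup G} {φ : El → G}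
    (h : Coords M φ) (hT : H56.IsTIThree M) (hM : Nat.card M = 9) : False := by
  classical
  obtain ⟨n1, n2⟩ := rep_ne
  obtain ⟨gA, gB, gG, gH⟩ := ecent_values
  obtain ⟨pG4, pG6, pG2, pG3, cG5, cG2, -, cA2⟩ := pow_elG
  obtain ⟨pH4, pH6, pH2, pH3, cH5, cH2, -, cB2⟩ := pow_elH
  set a := φ elA with hadef
  set b := φ elB with hbdef
  set g := φ elG with hgdef
  set h' := φ elH with hhdef
  have oA : ∀ u : W, u ≠ 0 → orderOf (φ (u, 1)) = 3 := fun u hu => by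
    haveI : Fact (Nat.Prime 3) := ⟨Nat.prime_three⟩
    exact orderOf_eq_prime (hT.exp _ (h.mem_M u)) (h.ne_one fun hh => hu (congrArg Prod.fst hh))
  have o6 : ∀ x : El, epow x 6 = (0, 1) → epow x 2 ≠ (0, 1) → epow x 3 ≠ (0, 1) → orderOf (φ x) = 6 := by
    intro x x6 x2 x3
    have h6 : orderOf (φ x) ∣ 6 := orderOf_dvd_of_pow_eq_one (by rw [h.pow, x6, h.one])
    have hle : orderOf (φ x) ≤ 6 := Nat.le_of_dvd (by norm_num) h6
    have hne : ∀ k, epow x k ≠ (0, 1) → ¬ orderOf (φ x) ∣ k := fun k hk hd => by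
      have := orderOf_dvd_iff_pow_eq_one.1 hd
      rw [h.pow, ← h.one] at this
      exact hk (h.inj this)
    have a2 := hne 2 x2
    have a3 := hne 3 x3
    revert h6 a2 a3
    generalize orderOf (φ x) = o at hle ⊢
    interval_cases o <;> norm_num
  -- degrees and values
  choose d hdpos hd using fun χ : Cfsg.IrrCharacter G => H57.irr_degree χ.2
  have hdZ : ∀ χ : Cfsg.IrrCharacter G, χ.1 1 = ((d χ : ℤ) : ℂ) := fun χ => by rw [hd]; simp
  choose X hX hX3 using fun χ : Cfsg.IrrCharacter G =>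
    value_three χ (x := a) (oA _ n1) (by rw [hadef, h.pow]; exact h.conj_of cA2) (hdZ χ)
  choose Y hY hY3 using fun χ : Cfsg.IrrCharacter G =>
    value_three χ (x := b) (oA _ n2) (by rw [hbdef, h.pow]; exact h.conj_of cB2) (hdZ χ)
  choose s hs hs2 using fun χ : Cfsg.IrrCharacter G =>
    value_six χ (g := g) (x := a) (o6 _ pG6 pG2 pG3) (by rw [hgdef, h.pow, pG4])
      (by rw [hgdef, h.pow]; exact h.conj_of cG5) (by rw [hgdef, h.pow]; exact h.conj_of cG2) (hX χ)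
  choose q hq hq2 using fun χ : Cfsg.IrrCharacter G =>
    value_six χ (g := h') (x := b) (o6 _ pH6 pH2 pH3) (by rw [hhdef, h.pow, pH4])
      (by rw [hhdef, h.pow]; exact h.conj_of cH5) (by rw [hhdef, h.pow]; exact h.conj_of cH2) (hY χ)
  -- the sum over the Sylow subgroup
  have hT9 : ∀ χ, (9 : ℤ) ∣ (d χ : ℤ) + 4 * X χ + 4 * Y χ := by
    intro χ
    obtain ⟨m, hm⟩ := H42.exists_nat_sum_subgroup χ M
    have hb : Function.Bijective fun u : W => (⟨φ (u, 1), h.mem_M u⟩ : M) :=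
      ⟨fun x y e => congrArg Prod.fst (h.inj (congrArg Subtype.val e)), fun x => by
        obtain ⟨u, hu⟩ := (h.mem _).1 x.2; exact ⟨u, Subtype.ext hu⟩⟩
    rw [← Fintype.sum_bijective _ hb (fun u => χ.1 (φ (u, 1))) _ (fun u => rfl), hM] at hm
    have hval : ∀ u : W, χ.1 (φ (u, 1)) =
        ((if u = 0 then (d χ : ℤ) else 0 : ℤ) : ℂ) + ((if wt u = 1 then X χ else 0 : ℤ) : ℂ) +
          ((if wt u = 2 then Y χ else 0 : ℤ) : ℂ) := by
      intro u
      by_cases hu : u = 0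
      · subst hu
        rw [h.one, hdZ]; simp [wt_zero']
      · obtain ⟨i1, i2⟩ := h.conj_iff hT hu
        rcases class_split.2.2 u hu with ⟨hw, -⟩ | ⟨hw, -⟩
        · rw [← H26.irr_eq_of_isConj χ (i1.2 hw), ← hadef, hX]; simp [hu, hw]
        · rw [← H26.irr_eq_of_isConj χ (i2.2 hw), ← hbdef, hY]; simp [hu, hw]
    rw [Finset.sum_congr rfl (fun u _ => hval u), Finset.sum_add_distrib, Finset.sum_add_distrib,
      ← Int.cast_sum, ← Int.cast_sum, ← Int.cast_sum, Finset.sum_ite_eq' Finset.univ (0 : W) (fun _ => (d χ : ℤ)),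
      ← Finset.sum_filter, ← Finset.sum_filter, Finset.sum_const, Finset.sum_const, wt_sum.1, wt_sum.2.1] at hm
    refine ⟨(m : ℤ), ?_⟩
    simp only [Finset.mem_univ, if_true, nsmul_eq_mul] at hm
    exact_mod_cast hm
  have h6 : ∀ χ, (6 : ℤ) ∣ 2 * X χ + Y χ + 3 * q χ ∧ (6 : ℤ) ∣ 2 * X χ + Y χ - 3 * q χ ∧
      (6 : ℤ) ∣ X χ + 2 * Y χ + 3 * s χ ∧ (6 : ℤ) ∣ X χ + 2 * Y χ - 3 * s χ := fun χ => by
    have := hX3 χ
    have := hY3 χ
    have := hs2 χ
    have := hq2 χ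
    omega
  choose c1 hc1 using fun χ => (h6 χ).1
  choose c2 hc2 using fun χ => (h6 χ).2.1
  choose c3 hc3 using fun χ => (h6 χ).2.2.1
  choose c4 hc4 using fun χ => (h6 χ).2.2.2
  -- centralisers and orthogonality
  have hcA : Nat.card (Subgroup.centralizer ({a} : Set G)) = 18 := by
    rw [hadef, h.card_centralizer elA (hT.cent _ (h.mem_M _) (h.ne_one fun hh => n1 (congrArg Prod.fst hh))), gA]
  have hcB : Nat.card (Subgroup.centralizer ({b} : Set G)) = 18 := by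
    rw [hbdef, h.card_centralizer elB (hT.cent _ (h.mem_M _) (h.ne_one fun hh => n2 (congrArg Prod.fst hh))), gB]
  have hcG : Nat.card (Subgroup.centralizer ({g} : Set G)) = 6 := by
    rw [hgdef, h.card_centralizer elG (h.cent_le hT _ _ n1 4 pG4), gG]
  have hcH : Nat.card (Subgroup.centralizer ({h'} : Set G)) = 6 := by
    rw [hhdef, h.card_centralizer elH (h.cent_le hT _ _ n2 4 pH4), gH]
  have horth : ∀ (u v : G) (U V : Cfsg.IrrCharacter G → ℤ) (C : ℕ), (∀ χ, χ.1 u = U χ) → (∀ χ, χ.1 v = V χ) →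
      Nat.card (Subgroup.centralizer ({v} : Set G)) = C →
      ∑ χ, U χ * V χ = if IsConj u v then (C : ℤ) else 0 := by
    intro u v U V C hU hV hC
    have e := H26.column_orthogonality u v
    simp only [hU, hV, H26.classIndicator, map_intCast, hC] at e
    by_cases hR : IsConj u v
    · rw [if_pos hR, mul_one] at e
      rw [if_pos hR]
      exact_mod_cast e
    · rw [if_neg hR, mul_zero] at e
      rw [if_neg hR]
      exact_mod_cast e
  have hne1 : a ≠ 1 ∧ b ≠ 1 ∧ g ≠ 1 ∧ h' ≠ 1 :=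
    ⟨h.ne_one fun hh => n1 (congrArg Prod.fst hh), h.ne_one fun hh => n2 (congrArg Prod.fst hh),
      h.ne_one fun hh => n1 (congrArg Prod.fst hh), h.ne_one fun hh => n2 (congrArg Prod.fst hh)⟩
  have hord : ∀ x y : G, orderOf x = 3 → orderOf y = 6 → ¬ IsConj x y := by
    intro x y hx hy e
    obtain ⟨c, hc⟩ := isConj_iff.1 e
    have : orderOf y ∣ 3 := orderOf_dvd_of_pow_eq_one (by rw [← hc, conj_pow, ← hx, pow_orderOf_eq_one]; simp)
    rw [hy] at this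
    norm_num at this
  obtain ⟨nab, -, ngh, -⟩ := h.not_conj hT
  have og : orderOf g = 6 := o6 _ pG6 pG2 pG3
  have oh : orderOf h' = 6 := o6 _ pH6 pH2 pH3
  have oXX : ∑ χ, X χ * X χ = 18 := by rw [horth a a X X 18 hX hX hcA, if_pos (IsConj.refl a)]; rfl
  have oYY : ∑ χ, Y χ * Y χ = 18 := by rw [horth b b Y Y 18 hY hY hcB, if_pos (IsConj.refl b)]; rfl
  have oss : ∑ χ, s χ * s χ = 6 := by rw [horth g g s s 6 hs hs hcG, if_pos (IsConj.refl g)]; rfl
  have oqq : ∑ χ, q χ * q χ = 6 := by rw [horth h' h' q q 6 hq hq hcH, if_pos (IsConj.refl h')]; rfl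
  have oXY : ∑ χ, X χ * Y χ = 0 := by rw [horth a b X Y 18 hX hY hcB, if_neg nab]
  have oXs : ∑ χ, X χ * s χ = 0 := by rw [horth a g X s 6 hX hs hcG, if_neg (hord a g (oA _ n1) og)]
  have oXq : ∑ χ, X χ * q χ = 0 := by rw [horth a h' X q 6 hX hq hcH, if_neg (hord a h' (oA _ n1) oh)]
  have oYs : ∑ χ, Y χ * s χ = 0 := by rw [horth b g Y s 6 hY hs hcG, if_neg (hord b g (oA _ n2) og)]
  have oYq : ∑ χ, Y χ * q χ = 0 := by rw [horth b h' Y q 6 hY hq hcH, if_neg (hord b h' (oA _ n2) oh)]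
  have osq : ∑ χ, s χ * q χ = 0 := by rw [horth g h' s q 6 hs hq hcH, if_neg ngh]
  have odeg : ∀ (v : G) (V : Cfsg.IrrCharacter G → ℤ) (C : ℕ), (∀ χ, χ.1 v = V χ) →
      Nat.card (Subgroup.centralizer ({v} : Set G)) = C → v ≠ 1 → ∑ χ, (d χ : ℤ) * V χ = 0 := by
    intro v V C hV hC hv
    rw [horth 1 v (fun χ => (d χ : ℤ)) V C hdZ hV hC, if_neg fun e => hv (isConj_one_right.1 e)]
  have odX := odeg a X 18 hX hcA hne1.1
  have odY := odeg b Y 18 hY hcB hne1.2.1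
  have ods := odeg g s 6 hs hcG hne1.2.2.1
  have odq := odeg h' q 6 hq hcH hne1.2.2.2
  -- moments of the coefficients
  have e36 : ∀ (α β γ δ α' β' γ' δ' : ℤ) (u v : Cfsg.IrrCharacter G → ℤ),
      (∀ χ, 6 * u χ = α * X χ + β * Y χ + γ * s χ + δ * q χ) →
      (∀ χ, 6 * v χ = α' * X χ + β' * Y χ + γ' * s χ + δ' * q χ) →
      36 * ∑ χ, u χ * v χ = 18 * (α * α') + 18 * (β * β') + 6 * (γ * γ') + 6 * (δ * δ') := by
    intro α β γ δ α' β' γ' δ' u v hu hv
    have e : ∀ χ, 36 * (u χ * v χ) = (α * α') * (X χ * X χ) + (β * β') * (Y χ * Y χ) + (γ * γ') * (s χ * s χ) +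
        (δ * δ') * (q χ * q χ) + (α * β' + β * α') * (X χ * Y χ) + (α * γ' + γ * α') * (X χ * s χ) +
        (α * δ' + δ * α') * (X χ * q χ) + (β * γ' + γ * β') * (Y χ * s χ) + (β * δ' + δ * β') * (Y χ * q χ) +
        (γ * δ' + δ * γ') * (s χ * q χ) := by
      intro χ
      rw [show 36 * (u χ * v χ) = (6 * u χ) * (6 * v χ) by ring, hu, hv]
      ring
    rw [Finset.mul_sum, Finset.sum_congr rfl (fun χ _ => e χ)]
    simp only [Finset.sum_add_distrib, ← Finset.mul_sum, oXX, oYY, oss, oqq, oXY, oXs, oXq, oYs, oYq, osq]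
    ring
  have f1 : ∀ χ, 6 * c1 χ = 2 * X χ + 1 * Y χ + 0 * s χ + 3 * q χ := fun χ => by linarith [hc1 χ]
  have f2 : ∀ χ, 6 * c2 χ = 2 * X χ + 1 * Y χ + 0 * s χ + (-3) * q χ := fun χ => by linarith [hc2 χ]
  have f3 : ∀ χ, 6 * c3 χ = 1 * X χ + 2 * Y χ + 3 * s χ + 0 * q χ := fun χ => by linarith [hc3 χ]
  have f4 : ∀ χ, 6 * c4 χ = 1 * X χ + 2 * Y χ + (-3) * s χ + 0 * q χ := fun χ => by linarith [hc4 χ]
  have m11 : ∑ χ, c1 χ * c1 χ = 4 := by have := e36 _ _ _ _ _ _ _ _ c1 c1 f1 f1; omega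
  have m22 : ∑ χ, c2 χ * c2 χ = 4 := by have := e36 _ _ _ _ _ _ _ _ c2 c2 f2 f2; omega
  have m33 : ∑ χ, c3 χ * c3 χ = 4 := by have := e36 _ _ _ _ _ _ _ _ c3 c3 f3 f3; omega
  have m44 : ∑ χ, c4 χ * c4 χ = 4 := by have := e36 _ _ _ _ _ _ _ _ c4 c4 f4 f4; omega
  have m12 : ∑ χ, c1 χ * c2 χ = 1 := by have := e36 _ _ _ _ _ _ _ _ c1 c2 f1 f2; omega
  have m13 : ∑ χ, c1 χ * c3 χ = 2 := by have := e36 _ _ _ _ _ _ _ _ c1 c3 f1 f3; omega
  have m14 : ∑ χ, c1 χ * c4 χ = 2 := by have := e36 _ _ _ _ _ _ _ _ c1 c4 f1 f4; omega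
  have m23 : ∑ χ, c2 χ * c3 χ = 2 := by have := e36 _ _ _ _ _ _ _ _ c2 c3 f2 f3; omega
  have m24 : ∑ χ, c2 χ * c4 χ = 2 := by have := e36 _ _ _ _ _ _ _ _ c2 c4 f2 f4; omega
  have m34 : ∑ χ, c3 χ * c4 χ = 1 := by have := e36 _ _ _ _ _ _ _ _ c3 c4 f3 f4; omega
  have hlin : ∀ (α β γ δ : ℤ) (u : Cfsg.IrrCharacter G → ℤ),
      (∀ χ, 6 * u χ = α * X χ + β * Y χ + γ * s χ + δ * q χ) → ∑ χ, (d χ : ℤ) * u χ = 0 := by
    intro α β γ δ u hu
    have e : ∀ χ, 6 * ((d χ : ℤ) * u χ) = α * ((d χ : ℤ) * X χ) + β * ((d χ : ℤ) * Y χ) +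
        γ * ((d χ : ℤ) * s χ) + δ * ((d χ : ℤ) * q χ) := fun χ => by
      rw [show 6 * ((d χ : ℤ) * u χ) = (d χ : ℤ) * (6 * u χ) by ring, hu]; ring
    have h6 : 6 * ∑ χ, (d χ : ℤ) * u χ = 0 := by
      rw [Finset.mul_sum, Finset.sum_congr rfl (fun χ _ => e χ)]
      simp only [Finset.sum_add_distrib, ← Finset.mul_sum, odX, odY, ods, odq]
      ring
    omega
  -- the principal row
  set o := H26.oneIrr G with ho
  have hone : ∀ {x : G} {n : ℤ}, o.1 x = n → n = 1 := fun {x n} e => by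
    rw [ho, H26.oneIrr_val] at e
    exact_mod_cast e.symm
  have hod : (d o : ℤ) = 1 := hone (hdZ o)
  have hoX := hone (hX o)
  have hoY := hone (hY o)
  have hos := hone (hs o)
  have hoq := hone (hq o)
  have ho1 : c1 o = 1 := by have := f1 o; omega
  have ho2 : c2 o = 0 := by have := f2 o; omega
  have ho3 : c3 o = 1 := by have := f3 o; omega
  have ho4 : c4 o = 0 := by have := f4 o; omega
  -- the support
  let cv : Cfsg.IrrCharacter G → R4 := fun χ => (c1 χ, c2 χ, c3 χ, c4 χ)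
  let S : Finset (Cfsg.IrrCharacter G) := Finset.univ.filter fun χ => χ ≠ o ∧ cv χ ≠ 0
  let c : Cfsg.IrrCharacter G → R4 := fun χ => smul4 (sgn (cv χ)) (cv χ)
  let D : Cfsg.IrrCharacter G → ℤ := fun χ => sgn (cv χ) * (d χ : ℤ)
  have hsq : ∀ χ, sgn (cv χ) * sgn (cv χ) = 1 := fun χ => by
    rcases sgn_cases (cv χ) with e | e <;> rw [e] <;> norm_num
  have hsum : ∀ (f : Cfsg.IrrCharacter G → ℤ), (∀ χ, cv χ = 0 → f χ = 0) →
      ∑ χ ∈ S, f χ = ∑ χ, f χ - f o := by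
    intro f hf
    have e1 : ∑ χ ∈ S, f χ = ∑ χ ∈ Finset.univ.erase o, f χ := by
      refine Finset.sum_subset (fun χ hχ => Finset.mem_erase.2 ⟨(Finset.mem_filter.1 hχ).2.1, Finset.mem_univ _⟩) ?_
      intro χ hχ hχS
      refine hf χ ?_
      by_contra hh
      exact hχS (Finset.mem_filter.2 ⟨Finset.mem_univ _, (Finset.mem_erase.1 hχ).1, hh⟩)
    rw [e1, Finset.sum_erase_eq_sub (Finset.mem_univ o)]
  have hmap : ∀ f : R4 → ℤ, ((S.val.map c).map f).sum = ∑ χ ∈ S, f (c χ) := fun f => by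
    rw [Multiset.map_map]; rfl
  have hmom : ∀ (p p' : R4 → ℤ) (u u' : Cfsg.IrrCharacter G → ℤ), (∀ χ, p (c χ) = sgn (cv χ) * u χ) →
      (∀ χ, p' (c χ) = sgn (cv χ) * u' χ) → (∀ χ, cv χ = 0 → u χ = 0) →
      ∑ χ ∈ S, p (c χ) * p' (c χ) = ∑ χ, u χ * u' χ - u o * u' o := by
    intro p p' u u' hp hp' hu
    rw [← hsum (fun χ => u χ * u' χ) (fun χ e => by rw [hu χ e, zero_mul])]
    refine Finset.sum_congr rfl fun χ _ => ?_
    rw [hp, hp']
    linear_combination (u χ * u' χ) * hsq χ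
  have z1 : ∀ χ, cv χ = 0 → c1 χ = 0 := fun χ e => congrArg Prod.fst e
  have z2 : ∀ χ, cv χ = 0 → c2 χ = 0 := fun χ e => congrArg (fun v : R4 => v.2.1) e
  have z3 : ∀ χ, cv χ = 0 → c3 χ = 0 := fun χ e => congrArg (fun v : R4 => v.2.2.1) e
  have z4 : ∀ χ, cv χ = 0 → c4 χ = 0 := fun χ e => congrArg (fun v : R4 => v.2.2.2) e
  have zXY : ∀ χ, cv χ = 0 → X χ = 0 ∧ Y χ = 0 := fun χ e => by
    have := f1 χ; have := f2 χ; have := f3 χ; have := f4 χ
    have := z1 χ e; have := z2 χ e; have := z3 χ e; have := z4 χ e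
    omega
  have hmomEq : mom (S.val.map c) = gram0 := by
    simp only [mom, gram0, hmap, Gram.mk.injEq]
    refine ⟨?_, ?_, ?_, ?_, ?_, ?_, ?_, ?_, ?_, ?_⟩
    · rw [hmom (·.1) (·.1) c1 c1 (fun χ => rfl) (fun χ => rfl) z1, m11, ho1]; rfl
    · rw [hmom (·.2.1) (·.2.1) c2 c2 (fun χ => rfl) (fun χ => rfl) z2, m22, ho2]; rfl
    · rw [hmom (·.2.2.1) (·.2.2.1) c3 c3 (fun χ => rfl) (fun χ => rfl) z3, m33, ho3]; rfl
    · rw [hmom (·.2.2.2) (·.2.2.2) c4 c4 (fun χ => rfl) (fun χ => rfl) z4, m44, ho4]; rfl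
    · rw [hmom (·.1) (·.2.1) c1 c2 (fun χ => rfl) (fun χ => rfl) z1, m12, ho1, ho2]; rfl
    · rw [hmom (·.1) (·.2.2.1) c1 c3 (fun χ => rfl) (fun χ => rfl) z1, m13, ho1, ho3]; rfl
    · rw [hmom (·.1) (·.2.2.2) c1 c4 (fun χ => rfl) (fun χ => rfl) z1, m14, ho1, ho4]; rfl
    · rw [hmom (·.2.1) (·.2.2.1) c2 c3 (fun χ => rfl) (fun χ => rfl) z2, m23, ho2, ho3]; rfl
    · rw [hmom (·.2.1) (·.2.2.2) c2 c4 (fun χ => rfl) (fun χ => rfl) z2, m24, ho2, ho4]; rfl
    · rw [hmom (·.2.2.1) (·.2.2.2) c3 c4 (fun χ => rfl) (fun χ => rfl) z3, m34, ho3, ho4]; rfl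
  have hdeg : ∀ (p : R4 → ℤ) (u : Cfsg.IrrCharacter G → ℤ), (∀ χ, p (c χ) = sgn (cv χ) * u χ) →
      (∀ χ, cv χ = 0 → u χ = 0) → ∑ χ, (d χ : ℤ) * u χ = 0 → ∑ χ ∈ S, p (c χ) * D χ = -u o := by
    intro p u hp hu hzero
    have e : ∑ χ ∈ S, p (c χ) * D χ = ∑ χ ∈ S, (d χ : ℤ) * u χ :=
      Finset.sum_congr rfl fun χ _ => by
        rw [hp]
        linear_combination (u χ * (d χ : ℤ)) * hsq χ
    rw [e, hsum _ (fun χ e => by rw [hu χ e, mul_zero]), hzero, hod]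
    ring
  have hvX : ∀ χ, valX (c χ) = sgn (cv χ) * X χ ∧ valY (c χ) = sgn (cv χ) * Y χ := by
    intro χ
    have := f1 χ; have := f2 χ; have := f3 χ; have := f4 χ
    have e1 : 2 * (c1 χ + c2 χ) - (c3 χ + c4 χ) = X χ := by omega
    have e2 : 2 * (c3 χ + c4 χ) - (c1 χ + c2 χ) = Y χ := by omega
    constructor
    · simp only [valX, c, cv, smul4]; rw [← e1]; ring
    · simp only [valY, c, cv, smul4]; rw [← e2]; ring
  obtain ⟨k, hk, hk9⟩ := h.card_eq hT hM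
  obtain ⟨pAAB, pABB⟩ := h.pairs hT
  have hburn : ∀ (u v w : G) (U V Z : Cfsg.IrrCharacter G → ℤ) (n : ℕ), (∀ χ, χ.1 u = U χ) →
      (∀ χ, χ.1 v = V χ) → (∀ χ, χ.1 w = Z χ) → Nat.card (Subgroup.centralizer ({u} : Set G)) = 18 →
      Nat.card (Subgroup.centralizer ({v} : Set G)) = 18 → H42.pairCount u v w = n → (∀ χ, cv χ = 0 → U χ = 0) →
      U o = 1 → V o = 1 → Z o = 1 →
      (Nat.card G : ℚ) * (1 + ∑ χ ∈ S, ((U χ * V χ * Z χ : ℤ) : ℚ) / (d χ : ℚ)) = 324 * n := by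
    intro u v w U V Z n hU hV hZ hu hv hn hz o1 o2 o3
    have e := H42.pairCount_formula u v w
    simp only [hU, hV, hZ, map_intCast, hd, hn] at e
    have iu := Subgroup.card_mul_index (Subgroup.centralizer ({u} : Set G))
    have iv := Subgroup.card_mul_index (Subgroup.centralizer ({v} : Set G))
    rw [hu] at iu
    rw [hv] at iv
    set Gc := Nat.card G with hGc
    have hGne : (Gc : ℂ) ≠ 0 := Nat.cast_ne_zero.2 Nat.card_pos.ne'
    have e' : (Gc : ℚ) * ∑ χ, ((U χ * V χ * Z χ : ℤ) : ℚ) / (d χ : ℚ) = 324 * n := by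
      apply Rat.cast_injective (α := ℂ)
      push_cast
      rw [e]
      generalize (Subgroup.centralizer ({u} : Set G)).index = I at *
      generalize (Subgroup.centralizer ({v} : Set G)).index = I' at *
      have a1 : (18 : ℂ) * (I : ℂ) = Gc := by exact_mod_cast iu
      have a2 : (18 : ℂ) * (I' : ℂ) = Gc := by exact_mod_cast iv
      rw [show (324 : ℂ) * ((I : ℂ) * (I' : ℂ) * (Gc : ℂ)⁻¹ *
          ∑ χ, (U χ : ℂ) * (V χ : ℂ) * (Z χ : ℂ) / (d χ : ℂ)) = ((18 : ℂ) * I) * ((18 : ℂ) * I') * (Gc : ℂ)⁻¹ *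
          ∑ χ, (U χ : ℂ) * (V χ : ℂ) * (Z χ : ℂ) / (d χ : ℂ) by ring, a1, a2]
      field_simp
    rw [← e']
    congr 1
    have hsub : ∑ χ ∈ S, ((U χ * V χ * Z χ : ℤ) : ℚ) / (d χ : ℚ) =
        ∑ χ ∈ Finset.univ.erase o, ((U χ * V χ * Z χ : ℤ) : ℚ) / (d χ : ℚ) := by
      refine Finset.sum_subset (fun χ hχ => Finset.mem_erase.2 ⟨(Finset.mem_filter.1 hχ).2.1, Finset.mem_univ _⟩) ?_
      intro χ hχ hχS
      have hc0 : cv χ = 0 := by
        by_contra hh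
        exact hχS (Finset.mem_filter.2 ⟨Finset.mem_univ _, (Finset.mem_erase.1 hχ).1, hh⟩)
      rw [hz χ hc0]; simp
    rw [hsub, Finset.sum_erase_eq_sub (Finset.mem_univ o), o1, o2, o3,
      show (d o : ℚ) = 1 by exact_mod_cast hod]
    simp
  have hS : ∀ χ ∈ S, χ ≠ o ∧ cv χ ≠ 0 := fun χ hχ => (Finset.mem_filter.1 hχ).2
  have hdS : ∀ χ ∈ S, d χ ≠ 1 := fun χ hχ e => degree_ne_one hG χ (hS χ hχ).1 (by rw [hd, e]; simp)
  refine Rows.false (S := S) (c := c) (D := D) (g := (Nat.card G : ℤ))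
    { cand := ?_, moments := hmomEq, dega := ?_, degb := ?_, degc := ?_, degd := ?_, res := ?_, two := ?_,
      sone := ?_, stwo := ?_, sq := ?_, gmod := ?_, ne := ?_, seven := ?_ }
  · intro χ hχ
    have hcan : Canon (c χ) := canon_sgn (hS χ hχ).2
    refine ⟨mem_cands hcan ?_ ?_ ?_ ?_, fun e => by rw [e] at hcan; simp [Canon] at hcan⟩
    · have e : ∑ x ∈ S, (c x).1 * (c x).1 = 3 := (hmap fun v => v.1 * v.1).symm.trans (congrArg Gram.aa hmomEq)
      exact (Finset.single_le_sum (f := fun x => (c x).1 * (c x).1) (fun x _ => mul_self_nonneg _) hχ).trans e.le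
    · have e : ∑ x ∈ S, (c x).2.1 * (c x).2.1 = 4 :=
        (hmap fun v => v.2.1 * v.2.1).symm.trans (congrArg Gram.bb hmomEq)
      exact (Finset.single_le_sum (f := fun x => (c x).2.1 * (c x).2.1) (fun x _ => mul_self_nonneg _) hχ).trans e.le
    · have e : ∑ x ∈ S, (c x).2.2.1 * (c x).2.2.1 = 3 :=
        (hmap fun v => v.2.2.1 * v.2.2.1).symm.trans (congrArg Gram.cc hmomEq)
      exact (Finset.single_le_sum (f := fun x => (c x).2.2.1 * (c x).2.2.1)
        (fun x _ => mul_self_nonneg _) hχ).trans e.le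
    · have e : ∑ x ∈ S, (c x).2.2.2 * (c x).2.2.2 = 4 :=
        (hmap fun v => v.2.2.2 * v.2.2.2).symm.trans (congrArg Gram.dd hmomEq)
      exact (Finset.single_le_sum (f := fun x => (c x).2.2.2 * (c x).2.2.2)
        (fun x _ => mul_self_nonneg _) hχ).trans e.le
  · rw [hdeg (·.1) c1 (fun χ => rfl) z1 (hlin _ _ _ _ c1 f1), ho1]
  · rw [hdeg (·.2.1) c2 (fun χ => rfl) z2 (hlin _ _ _ _ c2 f2), ho2]; rfl
  · rw [hdeg (·.2.2.1) c3 (fun χ => rfl) z3 (hlin _ _ _ _ c3 f3), ho3]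
  · rw [hdeg (·.2.2.2) c4 (fun χ => rfl) z4 (hlin _ _ _ _ c4 f4), ho4]; rfl
  · intro χ _
    obtain ⟨e1, e2⟩ := hvX χ
    have := hX3 χ
    have := hY3 χ
    have := hT9 χ
    simp only [D, e1, e2]
    rcases sgn_cases (cv χ) with e | e <;> rw [e] <;> omega
  · intro χ hχ
    obtain ⟨e1, -⟩ := hvX χ
    have h0 := hdpos χ
    have h1 := hdS χ hχ
    have h2 : (d χ : ℤ) ≠ X χ := fun e => by
      refine hne1.1 (eq_one_of_value_eq χ (hS χ hχ).1 ?_)
      rw [hX, hdZ, e]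
    simp only [D, e1]
    rcases sgn_cases (cv χ) with e | e <;> rw [e] <;> omega
  · have e := hburn a a b X X Y 2 hX hX hY hcA hcA pAAB (fun χ e => (zXY χ e).1) hoX hoX hoY
    rw [Finset.sum_congr rfl (g := fun χ => ((X χ * X χ * Y χ : ℤ) : ℚ) / (d χ : ℚ)) fun χ _ => by
      obtain ⟨e1, e2⟩ := hvX χ
      simp only [D, e1, e2]
      rcases sgn_cases (cv χ) with e | e <;> rw [e] <;> push_cast <;> ring]
    rw [show ((Nat.card G : ℤ) : ℚ) = (Nat.card G : ℚ) by norm_cast, e]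
    norm_num
  · have e := hburn a b b X Y Y 2 hX hY hY hcA hcB pABB (fun χ e => (zXY χ e).1) hoX hoY hoY
    rw [Finset.sum_congr rfl (g := fun χ => ((X χ * Y χ * Y χ : ℤ) : ℚ) / (d χ : ℚ)) fun χ _ => by
      obtain ⟨e1, e2⟩ := hvX χ
      simp only [D, e1, e2]
      rcases sgn_cases (cv χ) with e | e <;> rw [e] <;> push_cast <;> ring]
    rw [show ((Nat.card G : ℤ) : ℚ) = (Nat.card G : ℚ) by norm_cast, e]
    norm_num
  · have e := H26.sum_sq_degrees (G := G)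
    simp only [hdZ, pow_two] at e
    have e' : ∑ χ, (d χ : ℤ) * (d χ : ℤ) = (Nat.card G : ℤ) := by exact_mod_cast e
    rw [← e', ← Finset.add_sum_erase _ _ (Finset.mem_univ o), hod, one_mul]
    refine add_le_add le_rfl ?_
    rw [Finset.sum_congr rfl (g := fun χ => (d χ : ℤ) * (d χ : ℤ)) fun χ _ => by
      simp only [D]; linear_combination ((d χ : ℤ) * (d χ : ℤ)) * hsq χ]
    exact Finset.sum_le_sum_of_subset_of_nonneg
      (fun χ hχ => Finset.mem_erase.2 ⟨(hS χ hχ).1, Finset.mem_univ _⟩) fun x _ _ => mul_self_nonneg _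
  · rw [hk]; push_cast; omega
  · exact_mod_cast Small.ne_720 hG
  · intro χ hχ h5 h7
    have hd5 : d χ ≤ 5 := by
      simp only [D] at h5
      rcases sgn_cases (cv χ) with e | e <;> rw [e] at h5 <;> simp at h5 <;> omega
    obtain ⟨k', hk', hmove⟩ := exists_galois_move χ (hS χ hχ).1 (hd χ) hd5 (by exact_mod_cast h7)
    set ψ := H45.galIrr hk' χ with hψ
    have h36 : k' % 6 = 1 ∨ k' % 6 = 5 := by
      have h72 : 72 ∣ Nat.card G := ⟨k, hk⟩
      have h2 := Nat.Coprime.coprime_dvd_right ((show 2 ∣ 72 by norm_num).trans h72) hk'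
      have h3 := Nat.Coprime.coprime_dvd_right ((show 3 ∣ 72 by norm_num).trans h72) hk'
      rw [Nat.coprime_comm, Nat.Prime.coprime_iff_not_dvd (by norm_num)] at h2 h3
      omega
    have hv3 : ∀ x : G, orderOf x = 3 → IsConj (x ^ 2) x → ψ.1 x = χ.1 x := by
      intro x hx hc
      show χ.1 (x ^ k') = χ.1 x
      rw [← pow_mod_orderOf, hx]
      rcases (show k' % 3 = 1 ∨ k' % 3 = 2 by omega) with e | e <;> rw [e]
      · rw [pow_one]
      · exact H26.irr_eq_of_isConj χ hc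
    have hv6 : ∀ x : G, orderOf x = 6 → IsConj (x ^ 5) x → ψ.1 x = χ.1 x := by
      intro x hx hc
      show χ.1 (x ^ k') = χ.1 x
      rw [← pow_mod_orderOf, hx]
      rcases h36 with e | e <;> rw [e]
      · rw [pow_one]
      · exact H26.irr_eq_of_isConj χ hc
    have eX : X ψ = X χ := by
      have := hv3 a (oA _ n1) (by rw [hadef, h.pow]; exact h.conj_of cA2)
      rw [hX, hX] at this
      exact_mod_cast this
    have eY : Y ψ = Y χ := by
      have := hv3 b (oA _ n2) (by rw [hbdef, h.pow]; exact h.conj_of cB2)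
      rw [hY, hY] at this
      exact_mod_cast this
    have es : s ψ = s χ := by
      have := hv6 g og (by rw [hgdef, h.pow]; exact h.conj_of cG5)
      rw [hs, hs] at this
      exact_mod_cast this
    have eq' : q ψ = q χ := by
      have := hv6 h' oh (by rw [hhdef, h.pow]; exact h.conj_of cH5)
      rw [hq, hq] at this
      exact_mod_cast this
    have ecv : cv ψ = cv χ := by
      have := f1 ψ; have := f2 ψ; have := f3 ψ; have := f4 ψ
      have := f1 χ; have := f2 χ; have := f3 χ; have := f4 χ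
      simp only [cv, Prod.mk.injEq]
      omega
    refine ⟨ψ, Finset.mem_filter.2 ⟨Finset.mem_univ _, fun e => ?_, ecv ▸ (hS χ hχ).2⟩, hmove, by simp only [c, ecv]⟩
    have : d χ = 1 := by
      have h1 : ψ.1 1 = χ.1 1 := by show χ.1 (1 ^ k') = _; rw [one_pow]
      rw [e, ho, H26.oneIrr_val, hd] at h1
      exact_mod_cast h1.symm
    exact hdS χ hχ this

end Cfsg.Agent.H29.DihNine
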