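import Cfsg.Agent.H29.DihNineEnum

/-!
The two recursive tests are sound.
-/

namespace Cfsg.Agent.H29.DihNine

/-- The moments of a family of rows. -/
def mom (M : Multiset R4) : Gram :=
  ⟨(M.map fun v => v.1 * v.1).sum, (M.map fun v => v.2.1 * v.2.1).sum, (M.map fun v => v.2.2.1 * v.2.2.1).sum,
    (M.map fun v => v.2.2.2 * v.2.2.2).sum, (M.map fun v => v.1 * v.2.1).sum, (M.map fun v => v.1 * v.2.2.1).sum,
    (M.map fun v => v.1 * v.2.2.2).sum, (M.map fun v => v.2.1 * v.2.2.1).sum,
    (M.map fun v => v.2.1 * v.2.2.2).sum, (M.map fun v => v.2.2.1 * v.2.2.2).sum⟩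

theorem cauchy_multiset (M : Multiset R4) (a b : R4 → ℤ) :
    (M.map fun v => a v * b v).sum * (M.map fun v => a v * b v).sum ≤
      (M.map fun v => a v * a v).sum * (M.map fun v => b v * b v).sum := by
  induction M using Quotient.inductionOn with
  | _ L =>
    simp only [Multiset.quot_mk_to_coe, Multiset.map_coe, Multiset.sum_coe, ← Fin.sum_univ_fun_getElem]
    have h := Finset.sum_mul_sq_le_sq_mul_sq Finset.univ (fun i : Fin L.length => a L[i.1])
      (fun i : Fin L.length => b L[i.1])
    simpa [pow_two] using h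

theorem mom_ok (M : Multiset R4) : (mom M).ok = true := by
  have hnn : ∀ a : R4 → ℤ, 0 ≤ (M.map fun v => a v * a v).sum := fun a =>
    Multiset.sum_nonneg fun x hx => by
      obtain ⟨w, -, rfl⟩ := Multiset.mem_map.1 hx; exact mul_self_nonneg _
  simp only [Gram.ok, Bool.and_eq_true, decide_eq_true_eq]
  simp only [mom]
  exact ⟨⟨⟨⟨⟨⟨⟨⟨⟨hnn _, hnn _⟩, hnn _⟩, hnn _⟩, cauchy_multiset M _ _⟩, cauchy_multiset M _ _⟩,
    cauchy_multiset M _ _⟩, cauchy_multiset M _ _⟩, cauchy_multiset M _ _⟩, cauchy_multiset M _ _⟩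

theorem mom_cons (v : R4) (M : Multiset R4) : (mom (v ::ₘ M)).minus v = mom M := by
  obtain ⟨a, b, c, d⟩ := v
  simp [mom, Gram.minus]

theorem mom_eq_nil {M : Multiset R4} (hM : ∀ x ∈ M, x ≠ 0) (h : mom M = Gram.nil) : M = 0 := by
  refine Multiset.eq_zero_of_forall_notMem fun x hx => hM x hx ?_
  obtain ⟨M', rfl⟩ := Multiset.exists_cons_of_mem hx
  have hh := mom_ok M'
  simp only [Gram.ok, Bool.and_eq_true, decide_eq_true_eq] at hh
  simp only [mom] at hh
  simp only [mom, Gram.nil, Multiset.map_cons, Multiset.sum_cons, Gram.mk.injEq] at h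
  obtain ⟨⟨⟨⟨⟨⟨⟨⟨⟨n1, n2⟩, n3⟩, n4⟩, -⟩, -⟩, -⟩, -⟩, -⟩, -⟩ := hh
  obtain ⟨e1, e2, e3, e4, -⟩ := h
  obtain ⟨a, b, c, d⟩ := x
  have h1 := mul_self_nonneg a
  have h2 := mul_self_nonneg b
  have h3 := mul_self_nonneg c
  have h4 := mul_self_nonneg d
  simp only [Prod.ext_iff, Prod.fst_zero, Prod.snd_zero]
  refine ⟨mul_self_eq_zero.1 ?_, mul_self_eq_zero.1 ?_, mul_self_eq_zero.1 ?_, mul_self_eq_zero.1 ?_⟩ <;> linarith

theorem explore_sound : ∀ (f : ℕ) (cs : List R4) (h : Gram) (cur : List R4), explore f cs h cur = true →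
    ∀ M : Multiset R4, (∀ x ∈ M, x ∈ cs) → (∀ x ∈ M, x ≠ 0) → mom M = h →
      ∃ L ∈ configs, M + (cur : Multiset R4) = (L : Multiset R4) := by
  intro f
  induction f with
  | zero =>
    intro cs h cur he M _ hne hm
    rw [explore] at he
    by_cases h0 : h = Gram.nil
    · rw [if_pos h0] at he
      refine ⟨cur.reverse, List.elem_iff.1 he, ?_⟩
      rw [mom_eq_nil hne (hm.trans h0), zero_add, Multiset.coe_reverse]
    · simp [if_neg h0] at he
  | succ f ih =>
    intro cs h cur he M hM hne hm
    rw [explore] at he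
    by_cases h0 : h = Gram.nil
    · rw [if_pos h0] at he
      refine ⟨cur.reverse, List.elem_iff.1 he, ?_⟩
      rw [mom_eq_nil hne (hm.trans h0), zero_add, Multiset.coe_reverse]
    rw [if_neg h0, List.all_eq_true] at he
    have hsuf : ∀ cs' : List R4, (∀ x ∈ M, x ∈ cs') →
        ∃ v rest, (v :: rest) ∈ cs'.tails ∧ v ∈ M ∧ ∀ x ∈ M, x ∈ v :: rest := by
      intro cs'
      induction cs' with
      | nil =>
        intro hh
        have : M = 0 := Multiset.eq_zero_of_forall_notMem fun x hx => by simpa using hh x hx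
        exact absurd (by rw [← hm, this]; rfl) h0
      | cons a t iht =>
        intro hh
        by_cases ha : a ∈ M
        · exact ⟨a, t, by simp, ha, hh⟩
        · obtain ⟨v, rest, h1, h2, h3⟩ := iht fun x hx =>
            (List.mem_cons.1 (hh x hx)).resolve_left fun e => ha (e ▸ hx)
          exact ⟨v, rest, by simp only [List.tails, List.mem_cons]; exact Or.inr h1, h2, h3⟩
    obtain ⟨v, rest, hv, hvM, hall⟩ := hsuf cs hM
    obtain ⟨M', rfl⟩ := Multiset.exists_cons_of_mem hvM
    have hmin : h.minus v = mom M' := by rw [← hm, mom_cons]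
    have hstep := he _ hv
    simp only [hmin, mom_ok, if_true] at hstep
    obtain ⟨L, hL, e⟩ := ih _ _ _ hstep M' (fun x hx => hall x (Multiset.mem_cons_of_mem hx))
      (fun x hx => hne x (Multiset.mem_cons_of_mem hx)) rfl
    refine ⟨L, hL, ?_⟩
    rw [← e, Multiset.cons_add, ← Multiset.cons_coe, Multiset.add_cons]

/-- Evaluate a form. -/
def Form.eval (f : Form) (p : ℤ × ℤ × ℤ) : ℤ := f.k + f.x * p.1 + f.y * p.2.1 + f.z * p.2.2

theorem Form.fix_eval (f : Form) (v : ℤ) (g : Form) (p : ℤ × ℤ × ℤ) (h : f.eval p = v) :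
    (f.fix v g).eval p = g.eval p := by
  simp only [Form.eval] at h
  simp only [Form.fix, Form.eval]
  subst h
  ring

theorem Form.const_eval {f : Form} (h : f.const = true) (p : ℤ × ℤ × ℤ) : f.eval p = f.k := by
  simp only [Form.const, Bool.and_eq_true, decide_eq_true_eq] at h
  simp [Form.eval, h.1.1, h.1.2, h.2]

/-- The values realise the state and satisfy the conditions of the main configuration. -/
structure Good (st : State) (p : ℤ × ℤ × ℤ) (g : ℤ) : Prop where
  coef : st.map (fun e => e.2.1) = [-2, -2, 1, 2, 8]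
  admissible : ∀ e ∈ st, e.1.eval p ≠ 0 ∧ e.1.eval p % 9 = e.2.2.1 ∧ e.1.eval p ≠ e.2.2.2
  sigma : (g : ℚ) * (1 + (st.map fun e => (e.2.1 : ℚ) / (e.1.eval p : ℚ)).sum) = 648
  sq : 1 + (st.map fun e => sqWeight e.2.1 * (e.1.eval p * e.1.eval p)).sum ≤ g
  gmod : g % 648 = 72
  ne : g ≠ 720
  seven : ∀ e ∈ st, |e.1.eval p| ≤ 5 → ¬ (7 : ℤ) ∣ g

theorem frac_spec : ∀ (st : State) (p : ℤ × ℤ × ℤ), (∀ e ∈ st, e.1.eval p ≠ 0) →
    0 < st.frac.2 ∧ (st.frac.1 : ℚ) / st.frac.2 =
      1 + (st.map fun e => if e.1.const then (e.2.1 : ℚ) / (e.1.eval p : ℚ) else 0).sum := by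
  intro st p
  induction st with
  | nil => intro _; simp [State.frac]
  | cons e st ih =>
    intro hne
    obtain ⟨hpos, heq⟩ := ih fun x hx => hne x (List.mem_cons_of_mem _ hx)
    simp only [State.frac, List.map_cons, List.sum_cons]
    by_cases hc : e.1.const = true
    · have hk : e.1.k ≠ 0 := by rw [← Form.const_eval hc p]; exact hne e (List.mem_cons_self ..)
      simp only [hc, if_true, Form.const_eval hc p]
      refine ⟨mul_pos hpos (abs_pos.2 hk), ?_⟩
      have h1 : ((State.frac st).2 : ℚ) ≠ 0 := by exact_mod_cast hpos.ne'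
      rcases lt_or_gt_of_ne hk with hlt | hlt
      · have hk' : (e.1.k : ℚ) ≠ 0 := by exact_mod_cast hk
        rw [Int.sign_eq_neg_one_of_neg hlt, abs_of_neg hlt]
        push_cast
        rw [add_left_comm, ← heq]
        field_simp
        ring
      · have hk' : (e.1.k : ℚ) ≠ 0 := by exact_mod_cast hk
        rw [Int.sign_eq_one_of_pos hlt, abs_of_pos hlt]
        push_cast
        rw [add_left_comm, ← heq]
        field_simp
        ring
    · simp only [Bool.not_eq_true] at hc
      simp only [hc, Bool.false_eq_true, if_false, zero_add]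
      exact ⟨hpos, heq⟩

theorem free_bound (t : ℕ) (p : ℤ × ℤ × ℤ) : ∀ st : State,
    (∀ e ∈ st, e.1.const = false → (t : ℤ) ≤ |e.1.eval p|) → (∀ e ∈ st, e.1.eval p ≠ 0) →
    (∀ e ∈ st, 0 ≤ sqWeight e.2.1) →
    |(st.map fun e => if e.1.const then 0 else (e.2.1 : ℚ) / (e.1.eval p : ℚ)).sum| * t ≤ (st.wsum : ℚ) ∧
      st.qsum * ((t : ℤ) * t) ≤ (st.map fun e => sqWeight e.2.1 * (e.1.eval p * e.1.eval p)).sum := by
  intro st
  induction st with
  | nil => intro _ _ _; simp [State.wsum, State.qsum]
  | cons e st ih =>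
    intro hb hne hw
    obtain ⟨h1, h2⟩ := ih (fun x hx => hb x (List.mem_cons_of_mem _ hx))
      (fun x hx => hne x (List.mem_cons_of_mem _ hx)) (fun x hx => hw x (List.mem_cons_of_mem _ hx))
    have hwe := hw e (List.mem_cons_self ..)
    simp only [State.wsum, State.qsum, List.map_cons, List.sum_cons]
    by_cases hc : e.1.const = true
    · simp only [hc, if_true, zero_add]
      refine ⟨h1, ?_⟩
      have := mul_nonneg hwe (mul_self_nonneg (e.1.eval p))
      linarith
    · simp only [Bool.not_eq_true] at hc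
      simp only [hc, Bool.false_eq_true, if_false]
      have hle := hb e (List.mem_cons_self ..) hc
      have hn := hne e (List.mem_cons_self ..)
      constructor
      · have h3 : |(e.2.1 : ℚ) / (e.1.eval p : ℚ)| * t ≤ ((|e.2.1| : ℤ) : ℚ) := by
          rw [abs_div, div_mul_eq_mul_div, div_le_iff₀ (abs_pos.2 (by exact_mod_cast hn)), Int.cast_abs]
          exact mul_le_mul_of_nonneg_left (by exact_mod_cast hle) (abs_nonneg _)
        calc |(e.2.1 : ℚ) / (e.1.eval p : ℚ) + _| * t ≤ (|(e.2.1 : ℚ) / (e.1.eval p : ℚ)| + _) * t :=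
              mul_le_mul_of_nonneg_right (abs_add_le _ _) (Nat.cast_nonneg t)
          _ ≤ _ := by push_cast at h3 ⊢; linarith
      · have h3 : (t : ℤ) * t ≤ e.1.eval p * e.1.eval p := by
          rw [← abs_mul_abs_self (e.1.eval p)]
          exact mul_le_mul hle hle (Int.natCast_nonneg t) (abs_nonneg _)
        have := mul_le_mul_of_nonneg_left h3 hwe
        rw [add_mul]
        linarith

theorem Good.weights {st : State} {p : ℤ × ℤ × ℤ} {g : ℤ} (h : Good st p g) : ∀ e ∈ st, 0 ≤ sqWeight e.2.1 := by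
  intro e he
  have : e.2.1 ∈ st.map (fun e => e.2.1) := List.mem_map_of_mem he
  rw [h.coef] at this
  revert this
  generalize e.2.1 = a
  intro ha
  fin_cases ha <;> decide

theorem Good.pos {st : State} {p : ℤ × ℤ × ℤ} {g : ℤ} (h : Good st p g) : 0 < g := by
  have h0 : 0 ≤ (st.map fun e => sqWeight e.2.1 * (e.1.eval p * e.1.eval p)).sum :=
    List.sum_nonneg fun x hx => by
      obtain ⟨e, he, rfl⟩ := List.mem_map.1 hx
      exact mul_nonneg (h.weights e he) (mul_self_nonneg _)
  have := h.sq
  omega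

theorem leaf_sound {st : State} {p : ℤ × ℤ × ℤ} {g : ℤ} (h : Good st p g)
    (hall : st.all (fun e => e.1.const) = true) (hl : leaf (st.map fun e => e.1.k) st.frac.1 st.frac.2 = true) :
    False := by
  rw [List.all_eq_true] at hall
  obtain ⟨hden, hfr⟩ := frac_spec st p fun e he => (h.admissible e he).1
  rw [List.map_congr_left (g := fun e => (e.2.1 : ℚ) / (e.1.eval p : ℚ)) fun e he => by
    rw [if_pos (hall e he)]] at hfr
  have hsig := h.sigma
  rw [← hfr, mul_div_assoc', div_eq_iff (by exact_mod_cast hden.ne')] at hsig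
  have hgn : g * st.frac.1 = 648 * st.frac.2 := by exact_mod_cast hsig
  have hg := h.pos
  have hn : 0 < st.frac.1 := pos_of_mul_pos_right (by rw [hgn]; positivity) hg.le
  have hdiv : 648 * st.frac.2 / st.frac.1 = g := by rw [← hgn, Int.mul_ediv_cancel _ hn.ne']
  have hmod : 648 * st.frac.2 % st.frac.1 = 0 := by rw [← hgn, Int.mul_emod_left]
  have hcoef := h.coef
  have hsq := h.sq
  have hgm := h.gmod
  have hne := h.ne
  have h7 := h.seven
  match hst : st, hcoef with
  | [⟨a, ca, ra⟩, ⟨b, cb, rb⟩, ⟨c, cc, rc⟩, ⟨d, cd, rd⟩, ⟨e, ce, re⟩], hcoef =>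
    simp only [List.map_cons, List.map_nil, List.cons.injEq, and_true] at hcoef
    obtain ⟨rfl, rfl, rfl, rfl, rfl⟩ := hcoef
    simp only [List.mem_cons, List.not_mem_nil, or_false, forall_eq_or_imp, forall_eq] at hall h7
    simp only [List.map_cons, List.map_nil, List.sum_cons, List.sum_nil, Form.const_eval hall.1,
      Form.const_eval hall.2.1, Form.const_eval hall.2.2.1, Form.const_eval hall.2.2.2.1,
      Form.const_eval hall.2.2.2.2, sqWeight] at hsq h7
    simp only [List.map_cons, List.map_nil, leaf, Bool.or_eq_true, Bool.and_eq_true, decide_eq_true_eq,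
      List.any_cons, List.any_nil, Bool.or_false, hdiv] at hl
    norm_num at hsq
    have hbig : ¬ 648 * (State.frac [(a, -2, ra), (b, -2, rb), (c, 1, rc), (d, 2, rd), (e, 8, re)]).2 <
        (1 + 2 * a.k * a.k + 2 * b.k * b.k + 2 * d.k * d.k + c.k * c.k + e.k * e.k) *
          (State.frac [(a, -2, ra), (b, -2, rb), (c, 1, rc), (d, 2, rd), (e, 8, re)]).1 := by
      rw [← hgn, not_lt]
      exact mul_le_mul_of_nonneg_right (by linarith) hn.le
    rcases hl with ((((hl | hl) | hl) | hl) | hl) | ⟨hl, hsmall⟩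
    · omega
    · exact hbig hl
    · exact hl hmod
    · exact hl hgm
    · exact hne hl
    · have hdvd : (7 : ℤ) ∣ g := Int.dvd_of_emod_eq_zero hl
      rcases hsmall with hs | hs | hs | hs | hs
      · exact h7.1 hs hdvd
      · exact h7.2.1 hs hdvd
      · exact h7.2.2.1 hs hdvd
      · exact h7.2.2.2.1 hs hdvd
      · exact h7.2.2.2.2 hs hdvd

theorem search_sound : ∀ (f : ℕ) (st : State), search f st = true → ∀ (p : ℤ × ℤ × ℤ) (g : ℤ),
    Good st p g → False := by
  have hinv : ∀ (st : State) (p : ℤ × ℤ × ℤ) (g : ℤ), Good st p g → st.invalid = false := by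
    intro st p g h
    simp only [State.invalid, List.any_eq_false, Bool.and_eq_true, Bool.or_eq_true, decide_eq_true_eq]
    rintro e he ⟨hc, hbad⟩
    obtain ⟨a1, a2, a3⟩ := h.admissible e he
    rw [Form.const_eval hc] at a1 a2 a3
    rcases hbad with (hb | hb) | hb
    · exact a1 hb
    · exact hb a2
    · exact a3 hb
  intro f
  induction f with
  | zero =>
    intro st hs p g h
    rw [search, hinv st p g h, Bool.false_or, Bool.and_eq_true] at hs
    exact leaf_sound h hs.1 hs.2
  | succ f ih =>
    intro st hs p g h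
    rw [search, hinv st p g h, Bool.false_or] at hs
    by_cases hall : st.all (fun e => e.1.const) = true
    · rw [if_pos hall] at hs
      exact leaf_sound h hall hs
    rw [if_neg hall] at hs
    cases hfind : cuts.find? (cutOK st.frac.1 st.frac.2 st.wsum st.qsum) with
    | none => simp [hfind] at hs
    | some T =>
      simp only [hfind, List.all_eq_true, Bool.or_eq_true] at hs
      have hT := List.find?_some hfind
      by_cases hex : ∃ e ∈ st, e.1.const = false ∧ |e.1.eval p| ≤ (T : ℤ)
      · obtain ⟨e, he, hc, hle⟩ := hex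
        obtain ⟨a1, a2, a3⟩ := h.admissible e he
        have hv := (hs e he).resolve_left (by simp [hc]) (e.1.eval p) (by
          simp only [values, List.mem_filter, List.mem_map, List.mem_range, decide_eq_true_eq]
          have hh := abs_le.1 hle
          refine ⟨⟨((e.1.eval p - e.2.2.1) / 9 + (T / 9 : ℕ) + 1).toNat, ?_, ?_⟩, a3, a1, hh.1, hh.2⟩
          · omega
          · omega)
        refine ih _ hv p g ⟨?_, ?_, ?_, ?_, h.gmod, h.ne, ?_⟩
        · rw [List.map_map, ← h.coef]; rfl
        · intro x hx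
          obtain ⟨y, hy, rfl⟩ := List.mem_map.1 hx
          simp only [Form.fix_eval _ _ _ _ rfl]
          exact h.admissible y hy
        · rw [List.map_map]
          simp only [Function.comp_def, Form.fix_eval _ _ _ _ rfl]
          exact h.sigma
        · rw [List.map_map]
          simp only [Function.comp_def, Form.fix_eval _ _ _ _ rfl]
          exact h.sq
        · intro x hx
          obtain ⟨y, hy, rfl⟩ := List.mem_map.1 hx
          simp only [Form.fix_eval _ _ _ _ rfl]
          exact h.seven y hy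
      · have hbig : ∀ e ∈ st, e.1.const = false → ((T + 1 : ℕ) : ℤ) ≤ |e.1.eval p| := by
          intro e he hc
          by_contra hh
          exact hex ⟨e, he, hc, by omega⟩
        obtain ⟨hden, hfr⟩ := frac_spec st p fun e he => (h.admissible e he).1
        obtain ⟨hb1, hb2⟩ := free_bound (T + 1) p st hbig (fun e he => (h.admissible e he).1) h.weights
        set F := (st.map fun e => if e.1.const then 0 else (e.2.1 : ℚ) / (e.1.eval p : ℚ)).sum with hF
        have hsplit : 1 + (st.map fun e => (e.2.1 : ℚ) / (e.1.eval p : ℚ)).sum =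
            (st.frac.1 : ℚ) / st.frac.2 + F := by
          rw [hfr, hF, add_assoc, ← List.sum_map_add]
          congr 2
          refine List.map_congr_left fun e _ => ?_
          split_ifs <;> simp
        have hsig := h.sigma
        rw [hsplit] at hsig
        have hg : (0 : ℚ) < g := by exact_mod_cast h.pos
        have hd : (0 : ℚ) < st.frac.2 := by exact_mod_cast hden
        have hpos : (0 : ℚ) < (st.frac.1 : ℚ) / st.frac.2 + F := pos_of_mul_pos_right (by rw [hsig]; norm_num) hg.le
        have hF1 := abs_le.1 (le_refl |F|)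
        push_cast at hb1
        have hlo : ((st.frac.1 : ℚ) * (T + 1) - st.wsum * st.frac.2) ≤
            ((st.frac.1 : ℚ) / st.frac.2 + F) * (T + 1) * st.frac.2 := by
          have e1 : ((st.frac.1 : ℚ) / st.frac.2 + F) * (T + 1) * st.frac.2 =
              st.frac.1 * (T + 1) + F * (T + 1) * st.frac.2 := by field_simp
          rw [e1]
          nlinarith [mul_le_mul_of_nonneg_right hF1.1 (show (0 : ℚ) ≤ (T + 1) * st.frac.2 by positivity)]
        have hhi : ((st.frac.1 : ℚ) / st.frac.2 + F) * (T + 1) * st.frac.2 ≤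
            (st.frac.1 : ℚ) * (T + 1) + st.wsum * st.frac.2 := by
          have e1 : ((st.frac.1 : ℚ) / st.frac.2 + F) * (T + 1) * st.frac.2 =
              st.frac.1 * (T + 1) + F * (T + 1) * st.frac.2 := by field_simp
          rw [e1]
          nlinarith [mul_le_mul_of_nonneg_right hF1.2 (show (0 : ℚ) ≤ (T + 1) * st.frac.2 by positivity)]
        simp only [cutOK, Bool.or_eq_true, Bool.and_eq_true, decide_eq_true_eq] at hT
        rcases hT with hT | ⟨hT0, hT1⟩
        · have : (st.frac.1 : ℚ) * (T + 1) + st.wsum * st.frac.2 ≤ 0 := by exact_mod_cast hT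
          have : 0 < ((st.frac.1 : ℚ) / st.frac.2 + F) * (T + 1) * st.frac.2 := by positivity
          linarith
        · have hsqg : (st.qsum : ℚ) * ((T + 1 : ℚ) * (T + 1)) ≤ g := by
            have := h.sq
            have h2 : st.qsum * (((T + 1 : ℕ) : ℤ) * (T + 1 : ℕ)) ≤ g := by linarith
            exact_mod_cast h2
          have q0 : (0 : ℚ) < (st.frac.1 : ℚ) * (T + 1) - st.wsum * st.frac.2 := by exact_mod_cast hT0
          have q1 : 648 * (st.frac.2 : ℚ) <
              ((st.frac.1 : ℚ) * (T + 1) - st.wsum * st.frac.2) * (T + 1) * st.qsum := by exact_mod_cast hT1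
          have hq : (0 : ℚ) < st.qsum := by
            by_contra hh
            rw [not_lt] at hh
            have := mul_nonpos_of_nonneg_of_nonpos (mul_nonneg q0.le (show (0 : ℚ) ≤ T + 1 by positivity)) hh
            linarith
          have h3 : ((st.frac.1 : ℚ) * (T + 1) - st.wsum * st.frac.2) * (T + 1) * st.qsum ≤
              ((st.frac.1 : ℚ) / st.frac.2 + F) * (T + 1) * st.frac.2 * (T + 1) * st.qsum :=
            mul_le_mul_of_nonneg_right (mul_le_mul_of_nonneg_right hlo (by positivity)) hq.le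
          have h4 : ((st.frac.1 : ℚ) / st.frac.2 + F) * (T + 1) * st.frac.2 * (T + 1) * st.qsum ≤
              648 * (st.frac.2 : ℚ) := by
            rw [← hsig]
            calc ((st.frac.1 : ℚ) / st.frac.2 + F) * (T + 1) * st.frac.2 * (T + 1) * st.qsum
                = ((st.frac.1 : ℚ) / st.frac.2 + F) * st.frac.2 * (st.qsum * ((T + 1) * (T + 1))) := by ring
              _ ≤ ((st.frac.1 : ℚ) / st.frac.2 + F) * st.frac.2 * g :=
                  mul_le_mul_of_nonneg_left hsqg (by positivity)
              _ = _ := by ring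
          linarith

end Cfsg.Agent.H29.DihNine
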