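import Cfsg.Agent.H29.NineCharBound
import Mathlib.GroupTheory.Transfer

/-!
The automizer of a self-centralising elementary abelian Sylow 3-subgroup of order 9 in a simple group.
-/

namespace Cfsg.Agent.H29.NineAutomizer

open NineCharBound

variable {G : Type*} [Group G] [Finite G]

theorem ne_neg_self : ∀ u : V2, u ≠ 0 → u ≠ -u := by decide +kernel

/-- The non-identity elements of `T` conjugate to `t` are counted by the automizer. -/
theorem card_conjugates {T : Subgroup G} (hTI : H56.IsTIThree T) {t : G} (ht : t ∈ T) (ht1 : t ≠ 1)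
    (hC : Subgroup.centralizer ({t} : Set G) = T) :
    Nat.card {x : G // x ∈ T ∧ IsConj t x} * Nat.card T =
      Nat.card (Subgroup.normalizer (T : Set G)) := by
  set N := Subgroup.normalizer (T : Set G) with hN
  letI : MulAction N G := MulAction.compHom G (MulAut.conj.comp N.subtype)
  have hsmul : ∀ (y : N) (x : G), y • x = (y : G) * x * (y : G)⁻¹ := fun y x => rfl
  have horb : MulAction.orbit N t = {x : G | x ∈ T ∧ IsConj t x} := by
    ext x
    constructor
    · rintro ⟨y, rfl⟩
      rw [Set.mem_setOf_eq]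
      exact ⟨(Subgroup.mem_normalizer_iff.1 y.2 t).1 ht, isConj_iff.2 ⟨y, rfl⟩⟩
    · rintro ⟨hx, hc⟩
      obtain ⟨y, hy⟩ := isConj_iff.1 hc
      exact ⟨⟨y, hTI.ti ht ht1 (hy ▸ hx)⟩, hy⟩
  have hstab : MulAction.stabilizer N t = T.subgroupOf N := by
    ext y
    rw [MulAction.mem_stabilizer_iff, hsmul, Subgroup.mem_subgroupOf, ← hC,
      Subgroup.mem_centralizer_singleton_iff, mul_inv_eq_iff_eq_mul]
  have h1 := MulAction.index_stabilizer N t
  rw [horb, hstab] at h1
  rw [← Subgroup.card_mul_index (T.subgroupOf N),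
    Nat.card_congr (Subgroup.subgroupOfEquivOfLe (show T ≤ N from Subgroup.le_normalizer)).toEquiv, h1,
    ← Nat.card_coe_set_eq, mul_comm]
  rfl

/-- Coordinates from two generators. -/
theorem exists_coords {T : Subgroup G} (hTI : H56.IsTIThree T) (hcard : Nat.card T = 9) {a b : G} (ha : a ∈ T)
    (hb : b ∈ T) (ha1 : a ≠ 1) (hb1 : b ≠ 1) (hba : b ≠ a) (hba' : b ≠ a * a) :
    ∃ v : V2 → G, Function.Injective v ∧ (∀ u u', v (u + u') = v u * v u') ∧ (∀ u, v u ∈ T) ∧
      (∀ x ∈ T, ∃ u, v u = x) ∧ v (1, 0) = a ∧ v (0, 1) = b := by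
  have ha3 := hTI.exp a ha
  have hb3 := hTI.exp b hb
  have hpow : ∀ {x : G}, x ^ 3 = 1 → ∀ i j : ZMod 3, x ^ (i + j).val = x ^ i.val * x ^ j.val := fun hx i j => by
    rw [ZMod.val_add, ← pow_eq_pow_mod _ hx, pow_add]
  let v : V2 → G := fun u => a ^ u.1.val * b ^ u.2.val
  have hcomm : Commute a b := hTI.comm a ha b hb
  have hadd : ∀ u u', v (u + u') = v u * v u' := fun u u' => by
    simp only [v, Prod.fst_add, Prod.snd_add, hpow ha3, hpow hb3]
    have hswap := (hcomm.pow_pow u'.1.val u.2.val).eq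
    calc a ^ u.1.val * a ^ u'.1.val * (b ^ u.2.val * b ^ u'.2.val)
        = a ^ u.1.val * (a ^ u'.1.val * b ^ u.2.val) * b ^ u'.2.val := by group
      _ = a ^ u.1.val * (b ^ u.2.val * a ^ u'.1.val) * b ^ u'.2.val := by rw [hswap]
      _ = _ := by group
  have hmem : ∀ u, v u ∈ T := fun u => T.mul_mem (T.pow_mem ha _) (T.pow_mem hb _)
  have hker : ∀ u, v u = 1 → u = 0 := by
    rintro ⟨i, j⟩ h
    simp only [v] at h
    have hbb : b * b ≠ 1 := fun e => hb1 (by
      rw [show b = b ^ 3 * (b * b)⁻¹ by group, hb3, e, inv_one, one_mul])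
    have haa : a * a ≠ 1 := fun e => ha1 (by
      rw [show a = a ^ 3 * (a * a)⁻¹ by group, ha3, e, inv_one, one_mul])
    have hainv : a⁻¹ = a * a := inv_eq_of_mul_eq_one_right (by rw [← mul_assoc, ← pow_two, ← pow_succ, ha3])
    have hbinv : b⁻¹ = b * b := inv_eq_of_mul_eq_one_right (by rw [← mul_assoc, ← pow_two, ← pow_succ, hb3])
    have hsplit : ∀ i : ZMod 3, i = 0 ∨ i = 1 ∨ i = 2 := by decide
    rcases hsplit i with rfl | rfl | rfl <;> rcases hsplit j with rfl | rfl | rfl
    · rfl
    all_goals exfalso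
    all_goals simp only [ZMod.val_zero, ZMod.val_one, show (2 : ZMod 3).val = 2 from rfl, pow_zero, pow_one,
      pow_two, one_mul, mul_one] at h
    · exact hb1 h
    · exact hbb h
    · exact ha1 h
    · exact hba' (by rw [← hainv, eq_inv_of_mul_eq_one_right h])
    · rw [← hbinv, mul_inv_eq_one] at h; exact hba h.symm
    · exact haa h
    · rw [← hainv, inv_mul_eq_one] at h; exact hba h.symm
    · rw [← hainv, ← hbinv, ← mul_inv_rev, inv_eq_one] at h
      exact hba' (by rw [← hainv, eq_inv_of_mul_eq_one_left h])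
  have hinj : Function.Injective v := fun u u' e => by
    have e1 : v (u - u') * v u' = v u' := by rw [← hadd, sub_add_cancel, e]
    exact sub_eq_zero.1 (hker _ (mul_eq_right.1 e1))
  refine ⟨v, hinj, hadd, hmem, fun x hx => ?_, ?_, ?_⟩
  · let f : V2 → T := fun u => ⟨v u, hmem u⟩
    have hf : Function.Injective f := fun u u' e => hinj (congrArg (fun t : T => (t : G)) e)
    have hbij : Function.Bijective f := (Nat.bijective_iff_injective_and_card f).2 ⟨hf, by rw [hcard]; simp⟩
    obtain ⟨u, hu⟩ := hbij.2 ⟨x, hx⟩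
    exact ⟨u, congrArg (fun t : T => (t : G)) hu⟩
  · simp [v, ZMod.val_one]
  · simp [v, ZMod.val_one]

/-- A simple group with more than one class of elements of order 3 and a self-centralising elementary abelian
Sylow 3-subgroup of order 9 has order 360. -/
theorem card_eq_of_two_classes [IsSimpleGroup G] (T : Subgroup G) (hTI : H56.IsTIThree T)
    (hcard : Nat.card T = 9) (hcent : ∀ t ∈ T, t ≠ 1 → Subgroup.centralizer ({t} : Set G) = T)
    (hclasses : ∃ a b : G, orderOf a = 3 ∧ orderOf b = 3 ∧ ∀ g : G, g * a * g⁻¹ ≠ b) :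
    Nat.card G = 360 := by
  classical
  haveI := Fintype.ofFinite G
  set N := Subgroup.normalizer (T : Set G) with hN
  -- the group itself is not `T`
  have hTnot : ¬ T.Normal := fun hn => by
    haveI := hn
    rcases (‹IsSimpleGroup G›.eq_bot_or_eq_top_of_normal T hn) with e | e
    · rw [e] at hcard; simp at hcard
    · haveI : IsMulCommutative G := ⟨⟨fun x y => hTI.comm x (e ▸ Subgroup.mem_top x) y (e ▸ Subgroup.mem_top y)⟩⟩
      have hp := Group.is_simple_iff_prime_card.1 ‹IsSimpleGroup G›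
      rw [← Subgroup.card_top (G := G), ← e, hcard] at hp
      norm_num at hp
  -- `T` is not its own normaliser
  obtain ⟨P, hP⟩ := hTI.sylow
  have hTN : N ≠ T := fun hNT => by
    have hle : Subgroup.normalizer ((P : Subgroup G) : Set G) ≤ Subgroup.centralizer ((P : Subgroup G) : Set G) := by
      rw [hP, ← hN, hNT]
      exact fun x hx y hy => hTI.comm y hy x hx
    have hc := MonoidHom.ker_transferSylow_isComplement' P hle
    set K := (MonoidHom.transferSylow P hle).ker
    rcases (‹IsSimpleGroup G›.eq_bot_or_eq_top_of_normal K inferInstance) with e | e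
    · rw [e, Subgroup.isComplement'_bot_left] at hc
      exact hTnot (by rw [← hP, hc]; infer_instance)
    · rw [e, Subgroup.isComplement'_top_left] at hc
      rw [← hP, hc] at hcard; simp at hcard
  obtain ⟨k, hk⟩ := Subgroup.card_dvd_of_le (show T ≤ N from Subgroup.le_normalizer)
  rw [hcard] at hk
  -- classes in `T`
  let X : Finset G := Finset.univ.filter fun x => x ∈ T ∧ x ≠ 1
  have hXcard : X.card = 8 := by
    have h1 : (Finset.univ.filter fun x => x ∈ T).card = 9 := by
      rw [← hcard, Nat.card_eq_fintype_card, ← Fintype.card_subtype]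
    have e : X = (Finset.univ.filter fun x => x ∈ T).erase 1 := by ext x; simp [X, and_comm]
    rw [e, Finset.card_erase_of_mem (by simp [T.one_mem]), h1]
  have hmemX : ∀ {x : G}, x ∈ X ↔ x ∈ T ∧ x ≠ 1 := by intro x; simp [X]
  have hfib : ∀ t ∈ X, (X.filter fun x => IsConj t x).card = k := by
    intro t ht
    obtain ⟨htT, ht1⟩ := hmemX.1 ht
    have h := card_conjugates hTI htT ht1 (hcent t htT ht1)
    rw [hk, hcard, Nat.card_eq_fintype_card, Fintype.card_subtype] at h
    have e : (X.filter fun x => IsConj t x) = Finset.univ.filter fun x => x ∈ T ∧ IsConj t x := by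
      ext x
      simp only [Finset.mem_filter, hmemX, Finset.mem_univ, true_and]
      exact ⟨fun h => ⟨h.1.1, h.2⟩, fun h => ⟨⟨h.1, fun e => ht1 (isConj_one_left.1 (e ▸ h.2))⟩, h.2⟩⟩
    rw [e]; omega
  have hpart : X.card = (X.image ConjClasses.mk).card * k := by
    rw [Finset.card_eq_sum_card_image ConjClasses.mk X, Finset.sum_congr rfl (g := fun _ => k) ?_,
      Finset.sum_const, smul_eq_mul]
    intro c hc
    obtain ⟨t, ht, rfl⟩ := Finset.mem_image.1 hc
    rw [← hfib t ht]
    exact congrArg Finset.card (Finset.filter_congr fun x _ => by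
      rw [ConjClasses.mk_eq_mk_iff_isConj, isConj_comm])
  have himg : 1 < (X.image ConjClasses.mk).card := by
    obtain ⟨a, b, ha, hb, hab⟩ := hclasses
    have hconjT : ∀ s : G, orderOf s = 3 → ∃ x ∈ X, IsConj s x := fun s hs => by
      obtain ⟨y, hy⟩ := hTI.exists_conj_mem (show s ^ 3 = 1 by rw [← hs, pow_orderOf_eq_one])
      refine ⟨_, hmemX.2 ⟨hy, fun e => ?_⟩, isConj_iff.2 ⟨y, rfl⟩⟩
      rw [conj_eq_one_iff] at e
      rw [e, orderOf_one] at hs; omega
    obtain ⟨x, hx, hax⟩ := hconjT a ha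
    obtain ⟨x', hx', hbx⟩ := hconjT b hb
    refine Finset.one_lt_card.2 ⟨_, Finset.mem_image_of_mem _ hx, _, Finset.mem_image_of_mem _ hx', fun e => ?_⟩
    obtain ⟨g, hg⟩ := isConj_iff.1 ((hax.trans (ConjClasses.mk_eq_mk_iff_isConj.1 e)).trans hbx.symm)
    exact hab g hg
  have hk2 : k ≠ 1 := fun h1 => hTN (Subgroup.eq_of_le_of_card_ge Subgroup.le_normalizer
    (le_of_eq (by rw [hcard]; exact hk.trans (by rw [h1])))).symm
  have hk24 : k = 2 ∨ k = 4 := by
    rw [hXcard] at hpart
    have hk8 : k ∣ 8 := ⟨_, hpart.trans (mul_comm _ _)⟩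
    have := Nat.le_of_dvd (by norm_num) hk8
    interval_cases k <;> omega
  -- an inverting involution
  obtain ⟨y, hy⟩ := exists_prime_orderOf_dvd_card' (G := N) 2 (by
    rw [hk]; rcases hk24 with rfl | rfl <;> norm_num)
  have hy2 : (y : G) * (y : G) = 1 := by
    have h := pow_orderOf_eq_one y
    rw [hy, pow_two] at h
    exact congrArg Subtype.val h
  have hyT : (y : G) ∉ T := fun h => by
    have h3 := hTI.exp _ h
    rw [pow_succ, pow_two, hy2, one_mul] at h3
    have : y = 1 := Subtype.ext h3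
    rw [this, orderOf_one] at hy; omega
  have hinv : ∀ t ∈ T, IsConj t t⁻¹ := by
    intro t ht
    set w := (y : G) * t * (y : G)⁻¹
    have hw : w ∈ T := (Subgroup.mem_normalizer_iff.1 y.2 t).1 ht
    have hfix : (y : G) * (t * w) * (y : G)⁻¹ = t * w := by
      rw [hTI.comm t ht w hw]
      calc (y : G) * (w * t) * (y : G)⁻¹ = (y : G) * (y : G) * t * ((y : G) * (y : G))⁻¹ * w := by
            simp only [w]; group
        _ = t * w := by rw [hy2]; simp
        _ = w * t := hTI.comm t ht w hw
    have h1 : t * w = 1 := by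
      by_contra hne
      apply hyT
      rw [← hcent _ (T.mul_mem ht hw) hne, Subgroup.mem_centralizer_singleton_iff]
      exact mul_inv_eq_iff_eq_mul.1 hfix
    exact isConj_iff.2 ⟨y, eq_inv_of_mul_eq_one_right h1⟩
  -- generators
  obtain ⟨a, haX⟩ : X.Nonempty := Finset.card_pos.1 (by omega)
  obtain ⟨ha, ha1⟩ := hmemX.1 haX
  have hainv : a * a = a⁻¹ := (inv_eq_of_mul_eq_one_right (by
    rw [← mul_assoc, ← pow_two, ← pow_succ, hTI.exp a ha])).symm
  have haX' : a⁻¹ ∈ X := hmemX.2 ⟨T.inv_mem ha, by simpa using ha1⟩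
  have hpair : ({a, a⁻¹} : Finset G) ⊆ X.filter fun x => IsConj a x := by
    intro x hx
    rcases Finset.mem_insert.1 hx with rfl | hx
    · exact Finset.mem_filter.2 ⟨haX, IsConj.refl _⟩
    · rw [Finset.mem_singleton.1 hx]; exact Finset.mem_filter.2 ⟨haX', hinv a ha⟩
  obtain ⟨b, hbX, hba, hba', hb4⟩ : ∃ b ∈ X, b ≠ a ∧ b ≠ a⁻¹ ∧ (k = 4 → IsConj a b) := by
    by_cases h4 : k = 4
    · obtain ⟨b, hb, hb'⟩ := Finset.exists_mem_notMem_of_card_lt_card (s := ({a, a⁻¹} : Finset G))
        (t := X.filter fun x => IsConj a x) (lt_of_le_of_lt (Finset.card_le_two) (by rw [hfib a haX]; omega))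
      simp only [Finset.mem_insert, Finset.mem_singleton, not_or] at hb'
      exact ⟨b, (Finset.mem_filter.1 hb).1, hb'.1, hb'.2, fun _ => (Finset.mem_filter.1 hb).2⟩
    · obtain ⟨b, hb, hb'⟩ := Finset.exists_mem_notMem_of_card_lt_card (s := ({a, a⁻¹} : Finset G))
        (t := X) (lt_of_le_of_lt (Finset.card_le_two) (by rw [hXcard]; omega))
      simp only [Finset.mem_insert, Finset.mem_singleton, not_or] at hb'
      exact ⟨b, hb, hb'.1, hb'.2, fun e => absurd e h4⟩
  obtain ⟨hb, hb1⟩ := hmemX.1 hbX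
  obtain ⟨v, hinj, hadd, hmem, hsurj, hva, hvb⟩ := exists_coords hTI hcard ha hb ha1 hb1 hba (hainv ▸ hba')
  have hv0 : v 0 = 1 := by
    have := hadd 0 0
    rw [add_zero] at this
    exact mul_left_cancel (a := v 0) (by rw [← this, mul_one])
  have hvneg : ∀ u, v (-u) = (v u)⁻¹ := fun u =>
    eq_inv_of_mul_eq_one_right (by rw [← hadd, add_neg_cancel, hv0])
  have hv1 : ∀ u, u ≠ 0 → v u ≠ 1 := fun u hu e => hu (hinj (e.trans hv0.symm))
  have hvX : ∀ u, u ≠ 0 → v u ∈ X := fun u hu => hmemX.2 ⟨hmem u, hv1 u hu⟩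
  have hne0 : ∀ u u', u ≠ 0 → IsConj (v u) (v u') → u' ≠ 0 := fun u u' hu hc e => by
    rw [e, hv0] at hc; exact hv1 u hu (isConj_one_left.1 hc)
  have hneg : ∀ u, IsConj (v u) (v (-u)) := fun u => hvneg u ▸ hinv _ (hmem u)
  have hsat : ∀ u, u ≠ 0 → ∀ s : Finset V2, s.card = k → (∀ w ∈ s, w ≠ 0 ∧ IsConj (v u) (v w)) →
      ∀ u', IsConj (v u) (v u') → u' ∈ s := by
    intro u hu s hs hsc u' hc
    have heq : s.image v = X.filter fun x => IsConj (v u) x := by
      refine Finset.eq_of_subset_of_card_le (fun x hx => ?_) ?_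
      · obtain ⟨w, hw, rfl⟩ := Finset.mem_image.1 hx
        exact Finset.mem_filter.2 ⟨hvX w (hsc w hw).1, (hsc w hw).2⟩
      · rw [hfib _ (hvX u hu), Finset.card_image_of_injective _ hinj, hs]
    have : v u' ∈ s.image v := by
      rw [heq]; exact Finset.mem_filter.2 ⟨hvX u' (hne0 u u' hu hc), hc⟩
    obtain ⟨w, hw, e⟩ := Finset.mem_image.1 this
    exact hinj e ▸ hw
  -- the index of the normaliser
  have hG := Subgroup.card_mul_index N
  rw [hk] at hG
  have hidx := hTI.index_modEq
  rw [hcard] at hidx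
  have hidx1 : N.index ≠ 1 := fun e => hTnot (Subgroup.normalizer_eq_top_iff.1 (Subgroup.index_eq_one.1 e))
  have hidx9 : N.index % 9 = 1 := hidx
  rcases hk24 with rfl | rfl
  · exfalso
    have hR : Coords T v RTwo := by
      refine ⟨hTI, hinj, hadd, hmem, hsurj, fun u u' hu => ⟨fun hc => ?_, ?_⟩, fun u hu => ⟨hu, Or.inr rfl⟩⟩
      · have hcard2 : ({u, -u} : Finset V2).card = 2 :=
          Finset.card_pair (ne_neg_self u hu)
        have := hsat u hu {u, -u} hcard2 (by
          simp only [Finset.mem_insert, Finset.mem_singleton]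
          rintro w (rfl | rfl)
          · exact ⟨hu, IsConj.refl _⟩
          · exact ⟨neg_ne_zero.2 hu, hneg u⟩) u' hc
        simp only [Finset.mem_insert, Finset.mem_singleton] at this
        exact ⟨hu, this⟩
      · rintro ⟨-, rfl | rfl⟩
        · exact IsConj.refl _
        · exact hneg u
    have := card_le_of_four_classes hR fun u hu => hcent _ (hmem u) (hv1 u hu)
    omega
  · have hab : IsConj (v (1, 0)) (v (0, 1)) := by rw [hva, hvb]; exact hb4 rfl
    have hax : ∀ w : V2, w ≠ 0 → (w.1 = 0 ∨ w.2 = 0) → IsConj (v (1, 0)) (v w) := by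
      intro w hw hw'
      have : w = (1, 0) ∨ w = -(1, 0) ∨ w = (0, 1) ∨ w = -(0, 1) := by
        revert hw hw'; revert w; decide
      rcases this with rfl | rfl | rfl | rfl
      · exact IsConj.refl _
      · exact hneg _
      · exact hab
      · exact hab.trans (hneg _)
    have haxis : ∀ u', IsConj (v (1, 0)) (v u') → (u'.1 = 0 ∨ u'.2 = 0) := by
      intro u' hc
      have := hsat (1, 0) (by decide) (Finset.univ.filter fun w : V2 => w ≠ 0 ∧ (w.1 = 0 ∨ w.2 = 0))
        (by decide) (fun w hw => by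
          rw [Finset.mem_filter] at hw
          exact ⟨hw.2.1, hax w hw.2.1 hw.2.2⟩) u' hc
      exact (Finset.mem_filter.1 this).2.2
    have hoff : ∀ u' : V2, u' ≠ 0 → ¬(u'.1 = 0 ∨ u'.2 = 0) → IsConj (v (1, 1)) (v u') := by
      intro u' hu' hd
      have hsub : X.filter (fun x => IsConj (v (1, 1)) x) =
          (Finset.univ.filter fun w : V2 => w ≠ 0 ∧ ¬(w.1 = 0 ∨ w.2 = 0)).image v := by
        refine Finset.eq_of_subset_of_card_le (fun x hx => ?_) ?_
        · obtain ⟨hxX, hc⟩ := Finset.mem_filter.1 hx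
          obtain ⟨hxT, hx1⟩ := hmemX.1 hxX
          obtain ⟨w, rfl⟩ := hsurj x hxT
          have hw : w ≠ 0 := fun e => hx1 (by rw [e, hv0])
          refine Finset.mem_image_of_mem _ (Finset.mem_filter.2 ⟨Finset.mem_univ _, hw, fun hw' => ?_⟩)
          exact absurd (haxis _ ((hax w hw hw').trans hc.symm)) (by decide)
        · rw [hfib _ (hvX _ (by decide)), Finset.card_image_of_injective _ hinj]
          exact le_of_eq (by decide)
      have : v u' ∈ X.filter (fun x => IsConj (v (1, 1)) x) := by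
        rw [hsub]
        exact Finset.mem_image_of_mem _ (Finset.mem_filter.2 ⟨Finset.mem_univ _, hu', hd⟩)
      exact (Finset.mem_filter.1 this).2
    have hR : Coords T v RFour := by
      refine ⟨hTI, hinj, hadd, hmem, hsurj, fun u u' hu => ⟨fun hc => ?_, ?_⟩,
        fun u hu => ⟨hu, neg_ne_zero.2 hu, by simp⟩⟩
      · have hu' := hne0 u u' hu hc
        refine ⟨hu, hu', fun h => ?_, fun h => ?_⟩
        · exact haxis u' ((hax u hu h).trans hc)
        · exact haxis u ((hax u' hu' h).trans hc.symm)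
      · rintro ⟨-, hu', hiff⟩
        by_cases h : u.1 = 0 ∨ u.2 = 0
        · exact (hax u hu h).symm.trans (hax u' hu' (hiff.1 h))
        · exact (hoff u hu h).symm.trans (hoff u' hu' (mt hiff.2 h))
    have hle := card_le_of_two_classes hR fun u hu => hcent _ (hmem u) (hv1 u hu)
    have hn : N.index = 10 ∨ N.index = 19 := by omega
    rcases hn with hn | hn
    · rw [hn] at hG; omega
    exfalso
    rw [hn] at hG
    haveI : Fact (Nat.Prime 19) := ⟨by norm_num⟩
    obtain ⟨Q⟩ : Nonempty (Sylow 19 G) := inferInstance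
    have hQ19 : Nat.card Q = 19 := by
      have hcardG : Nat.card G = 684 := hG.symm
      obtain ⟨n, hn⟩ := Q.2.exists_card_eq
      have hd : 19 ^ n ∣ 684 := hcardG ▸ hn ▸ Subgroup.card_subgroup_dvd_card (Q : Subgroup G)
      have hn1 : 1 ≤ n := by
        have := Q.dvd_card_of_dvd_card (show 19 ∣ Nat.card G by rw [hcardG]; norm_num)
        rw [hn] at this
        rcases Nat.eq_zero_or_pos n with rfl | h0
        · norm_num at this
        · exact h0
      have hn2 : n < 2 := by
        by_contra hge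
        have := (pow_dvd_pow 19 (show 2 ≤ n by omega)).trans hd
        norm_num at this
      obtain rfl : n = 1 := by omega
      rw [hn]; norm_num
    have hQi : (Q : Subgroup G).index = 36 := by
      have := Subgroup.card_mul_index (Q : Subgroup G)
      rw [hQ19, ← hG] at this; omega
    have h1 : Nat.card (Sylow 19 G) ∣ 36 := hQi ▸ Q.card_dvd_index
    have h2 := card_sylow_modEq_one 19 G
    have h3 : Nat.card (Sylow 19 G) = 1 := by
      have h2' : Nat.card (Sylow 19 G) % 19 = 1 := h2
      have := Nat.le_of_dvd (by norm_num) h1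
      generalize Nat.card (Sylow 19 G) = n at *
      interval_cases n <;> omega
    haveI : Subsingleton (Sylow 19 G) := (Nat.card_eq_one_iff_unique.1 h3).1
    rcases (‹IsSimpleGroup G›.eq_bot_or_eq_top_of_normal (Q : Subgroup G) (Q.normal_of_subsingleton)) with e | e
    · rw [show Nat.card Q = Nat.card (Q : Subgroup G) from rfl, e] at hQ19; simp at hQ19
    · rw [e] at hQi; simp at hQi

end Cfsg.Agent.H29.NineAutomizer
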