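import Cfsg.Agent.H29.DihNineRows
import Cfsg.Agent.H29.DihNineVFour
import Cfsg.Agent.H29.NineAutomizer
import Cfsg.Agent.H20.Generation
import Cfsg.Agent.H77.TwoSymFourMain
import Cfsg.Agent.S0497

/-!
A group with a self-centralising Sylow 3-subgroup of order 9, dihedral automizer of order 8 and centralisers
inside the normaliser has a normal Sylow 3-subgroup or is the symmetric group of degree 6.
-/

namespace Cfsg.Agent.H29.DihNineSix

open DihNine

theorem w_span : ∀ u : W, u ≠ 0 → ∀ w : W, w ∈ [0, u, u + u, act (.r 1) u, act (.r 1) u + act (.r 1) u,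
    u + act (.r 1) u, (u + u) + act (.r 1) u, u + (act (.r 1) u + act (.r 1) u),
    (u + u) + (act (.r 1) u + act (.r 1) u)] := by decide +kernel

theorem emul_conj : ∀ (d : DihedralGroup 4) (u : W),
    emul (0, d) (u, 1) = emul (act d u, 1) (0, d) := by decide +kernel

theorem emul_split : ∀ (u : W) (d : DihedralGroup 4), emul (u, 1) (0, d) = (u, d) := by decide +kernel

theorem emul_zero : ∀ d e : DihedralGroup 4, emul ((0 : W), d) (0, e) = (0, d * e) := by decide +kernel

theorem emul_comm_iff : ∀ (x : El) (u : W), emul x (u, 1) = emul (u, 1) x ↔ act x.2 u = u := by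
  decide +kernel

theorem act_sr : act (.sr 0) ((1, 0) : W) = (1, 0) := by decide +kernel

set_option synthInstance.maxSize 1000 in
set_option synthInstance.maxHeartbeats 100000 in
/-- The shapes of the possible images of a normal subgroup. -/
theorem classify : ∀ Q : Finset (DihedralGroup 4), (1 : DihedralGroup 4) ∈ Q → (∀ a ∈ Q, ∀ b ∈ Q, a * b ∈ Q) →
    (∀ a ∈ Q, ∀ g, g * a * g⁻¹ ∈ Q) →
    Q = Finset.univ ∨
      ((∀ d ∈ Q, d ≠ 1 → ∀ u : W, u ≠ 0 → act d u ≠ u) ∧ (Q.card = 1 ∨ Q.card = 2 ∨ Q.card = 4)) ∨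
      Q = {1, .r 2, .sr 0, .sr 2} ∨ Q = {1, .r 2, .sr 1, .sr 3} := by decide +kernel

/-- The base change for the odd four-group. -/
def oddBase : Mat := ((1, 1), (1, -1))

theorem four_even :
    (∀ u : W, app mone u = 0 → u = 0) ∧
    (∀ u : W, u ≠ 0 → ∀ u' : W, (∃ d ∈ ({1, .r 2, .sr 0, .sr 2} : Finset (DihedralGroup 4)),
      act d (app mone u) = app mone u') ↔ DihNineVFour.RThree u u') ∧
    (∀ u : W, u ≠ 0 → (Finset.univ.filter fun x : El => x.2 ∈ ({1, .r 2, .sr 0, .sr 2} : Finset (DihedralGroup 4)) ∧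
      act x.2 (app mone u) = app mone u).card = DihNineVFour.wgt3 u) := by decide +kernel

theorem four_odd :
    (∀ u : W, app oddBase u = 0 → u = 0) ∧
    (∀ u : W, u ≠ 0 → ∀ u' : W, (∃ d ∈ ({1, .r 2, .sr 1, .sr 3} : Finset (DihedralGroup 4)),
      act d (app oddBase u) = app oddBase u') ↔ DihNineVFour.RThree u u') ∧
    (∀ u : W, u ≠ 0 → (Finset.univ.filter fun x : El => x.2 ∈ ({1, .r 2, .sr 1, .sr 3} : Finset (DihedralGroup 4)) ∧
      act x.2 (app oddBase u) = app oddBase u).card = DihNineVFour.wgt3 u) := by decide +kernel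

theorem four_card : ({1, .r 2, .sr 0, .sr 2} : Finset (DihedralGroup 4)).card = 4 ∧
    ({1, .r 2, .sr 1, .sr 3} : Finset (DihedralGroup 4)).card = 4 := by decide +kernel

theorem three_neg : ∀ u : W, u ≠ 0 → DihNineVFour.RThree u (-u) := by decide +kernel

variable {G : Type*} [Group G] [Finite G] {T : Subgroup G}

/-- A subgroup normalised by `T`, without elements of order three and meeting `T` trivially, is trivial. -/
theorem eq_bot_of_normalized (hT : H56.IsTIThree T) (hT9 : Nat.card T = 9)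
    (hCT : Subgroup.centralizer (T : Set G) = T) {K : Subgroup G}
    (hTK : T ≤ Subgroup.normalizer (K : Set G)) (h3 : ∀ k ∈ K, k ^ 3 = 1 → k = 1) : K = ⊥ := by
  haveI : Fact (Nat.Prime 3) := ⟨Nat.prime_three⟩
  haveI : IsMulCommutative T := ⟨⟨fun a b => Subtype.ext (hT.comm a a.2 b b.2)⟩⟩
  have hnc : ¬ IsCyclic T := by
    intro hc
    obtain ⟨g, hg⟩ := hc.exists_ofOrder_eq_natCard
    have h : orderOf g ∣ 3 := orderOf_dvd_of_pow_eq_one (Subtype.ext (hT.exp g g.2))
    rw [hg, hT9] at h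
    norm_num at h
  have hcop : (Nat.card T).Coprime (Nat.card K) := by
    rw [hT9, show (9 : ℕ) = 3 ^ 2 from rfl]
    refine Nat.Coprime.pow_left 2 ((Nat.Prime.coprime_iff_not_dvd Nat.prime_three).2 fun hd => ?_)
    obtain ⟨k, hk⟩ := exists_prime_orderOf_dvd_card' 3 hd
    have h := h3 k k.2 (by rw [← SubgroupClass.coe_pow, ← hk, pow_orderOf_eq_one]; rfl)
    rw [show k = 1 from Subtype.ext h, orderOf_one] at hk
    norm_num at hk
  rw [← H20.iSup_centralizers_eq hnc hTK hcop, eq_bot_iff]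
  refine iSup₂_le fun a ha k hk => ?_
  obtain ⟨hkK, hkC⟩ := Subgroup.mem_inf.1 hk
  have hkN : k ∈ Subgroup.normalizer (T : Set G) := hT.cent a ha.1 ha.2 hkC
  have hkT : k ∈ T := by
    rw [← hCT, Subgroup.mem_centralizer_iff]
    intro t ht
    have h1 : k * t * k⁻¹ * t⁻¹ ∈ T := T.mul_mem ((Subgroup.mem_normalizer_iff.1 hkN t).1 ht) (T.inv_mem ht)
    have h2 : k * t * k⁻¹ * t⁻¹ ∈ K := by
      rw [show k * t * k⁻¹ * t⁻¹ = k * (t * k⁻¹ * t⁻¹) by group]
      exact K.mul_mem hkK ((Subgroup.mem_normalizer_iff.1 (hTK ht) _).1 (K.inv_mem hkK))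
    have h4 := h3 _ h2 (hT.exp _ h1)
    exact (mul_inv_eq_iff_eq_mul.1 (mul_inv_eq_one.1 h4)).symm
  exact Subgroup.mem_bot.2 (h3 k hkK (hT.exp k hkT))

/-- If the elements of order three of a normal subgroup containing `T` lie in `T`, then `T` is normal. -/
theorem normal_of_three (hT : H56.IsTIThree T) {L : Subgroup G} [L.Normal] (hTL : T ≤ L)
    (h : ∀ l ∈ L, l ^ 3 = 1 → l ∈ T) : T.Normal :=
  ⟨fun t ht g => h _ (Subgroup.Normal.conj_mem inferInstance t (hTL ht) g) (by
    rw [conj_pow, hT.exp t ht]; simp)⟩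

theorem mem_normalizer_subgroupOf {L : Subgroup G} (hTL : T ≤ L) (l : L) :
    l ∈ Subgroup.normalizer ((T.subgroupOf L : Subgroup L) : Set L) ↔
      (l : G) ∈ Subgroup.normalizer (T : Set G) := by
  constructor
  · intro hl
    refine Subgroup.mem_normalizer_fintype (fun t ht => ?_)
    have := (Subgroup.mem_normalizer_iff.1 hl ⟨t, hTL ht⟩).1 (Subgroup.mem_subgroupOf.2 ht)
    exact Subgroup.mem_subgroupOf.1 this
  · intro hl
    rw [Subgroup.mem_normalizer_iff]
    intro x
    simp only [Subgroup.mem_subgroupOf]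
    exact Subgroup.mem_normalizer_iff.1 hl (x : G)

theorem tiThree_subgroupOf (hT : H56.IsTIThree T) {L : Subgroup G} (hTL : T ≤ L) :
    H56.IsTIThree (T.subgroupOf L) where
  comm := fun a ha b hb => Subtype.ext (hT.comm a ha b hb)
  exp := fun a ha => Subtype.ext (hT.exp a ha)
  sylow := by
    obtain ⟨P, rfl⟩ := hT.sylow
    exact ⟨P.subtype hTL, P.coe_subtype hTL⟩
  cent := fun t ht ht1 c hc => (mem_normalizer_subgroupOf hTL c).2
    (hT.cent t ht (fun e => ht1 (Subtype.ext e)) (Subgroup.mem_centralizer_singleton_iff.2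
      (congrArg Subtype.val (Subgroup.mem_centralizer_singleton_iff.1 hc))))

/-- The minimal normal subgroup: it contains `T` and is a non-abelian simple group. -/
theorem exists_simple_normal {φ : El → G} (hφ : Coords T φ) (hT : H56.IsTIThree T) (hT9 : Nat.card T = 9)
    (hCT : Subgroup.centralizer (T : Set G) = T) (hn : ¬ T.Normal) :
    ∃ L : Subgroup G, L.Normal ∧ T ≤ L ∧ ¬ L ≤ Subgroup.normalizer (T : Set G) ∧ IsSimpleGroup L ∧
      ¬ IsMulCommutative L := by
  classical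
  haveI : Fact (Nat.Prime 3) := ⟨Nat.prime_three⟩
  haveI : Nontrivial G := by
    refine ⟨φ elA, 1, hφ.ne_one ?_⟩
    decide +kernel
  let P : ℕ → Prop := fun n => ∃ K : Subgroup G, K.Normal ∧ K ≠ ⊥ ∧ Nat.card K = n
  have hP : ∃ n, P n := ⟨_, ⊤, inferInstance, top_ne_bot, rfl⟩
  obtain ⟨L, hLn, hLbot, hLcard⟩ := Nat.find_spec hP
  haveI := hLn
  have hmin : ∀ K : Subgroup G, K.Normal → K ≤ L → K ≠ ⊥ → K = L := fun K hKn hKL hKb =>
    Subgroup.eq_of_le_of_card_ge hKL (hLcard.trans_le (Nat.find_min' hP ⟨K, hKn, hKb, rfl⟩))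
  -- `T ≤ L`
  obtain ⟨t, ht, htT, htL⟩ : ∃ t, t ≠ 1 ∧ t ∈ T ∧ t ∈ L := by
    by_contra hh
    push Not at hh
    refine hLbot (eq_bot_of_normalized hT hT9 hCT (le_top.trans_eq (Subgroup.normalizer_eq_top L).symm)
      fun k hk hk3 => ?_)
    obtain ⟨y, hy⟩ := hT.exists_conj_mem hk3
    by_contra hk1
    exact hh (y * k * y⁻¹) (by simpa using hk1) hy (hLn.conj_mem k hk y)
  obtain ⟨u₀, rfl⟩ := (hφ.mem t).1 htT
  have hu₀ : u₀ ≠ 0 := fun e => ht (by rw [e]; exact hφ.one)
  have hTL : T ≤ L := by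
    intro x hx
    obtain ⟨w, rfl⟩ := (hφ.mem x).1 hx
    have hadd : ∀ a b : W, φ (a, 1) ∈ L → φ (b, 1) ∈ L → φ (a + b, 1) ∈ L := fun a b ha hb => by
      rw [← emul_tr b a, hφ.mul]; exact L.mul_mem ha hb
    have hact : φ (act (.r 1) u₀, 1) ∈ L := by
      have h := hLn.conj_mem _ htL (φ (0, .r 1))
      rwa [← hφ.mul, emul_conj, hφ.mul, mul_inv_cancel_right] at h
    have hzero : φ ((0 : W), 1) ∈ L := by rw [hφ.one]; exact L.one_mem
    have hw := w_span u₀ hu₀ w
    simp only [List.mem_cons, List.not_mem_nil, or_false] at hw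
    rcases hw with rfl | rfl | rfl | rfl | rfl | rfl | rfl | rfl | rfl
    · exact hzero
    · exact htL
    · exact hadd _ _ htL htL
    · exact hact
    · exact hadd _ _ hact hact
    · exact hadd _ _ htL hact
    · exact hadd _ _ (hadd _ _ htL htL) hact
    · exact hadd _ _ htL (hadd _ _ hact hact)
    · exact hadd _ _ (hadd _ _ htL htL) (hadd _ _ hact hact)
  have hnot : ¬ L ≤ Subgroup.normalizer (T : Set G) := fun h =>
    hn (normal_of_three hT hTL fun l hl hl3 => hT.mem_of_normalizes (h hl) hl3)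
  have hTI := tiThree_subgroupOf hT hTL
  -- every non-trivial normal subgroup of `L` contains a non-identity element of `T`
  have hmeet : ∀ K : Subgroup G, K ≤ L → L ≤ Subgroup.normalizer (K : Set G) → K ≠ ⊥ →
      ∃ x, x ≠ 1 ∧ x ∈ T ∧ x ∈ K := by
    intro K hKL hLK hKb
    by_contra hh
    push Not at hh
    refine hKb (eq_bot_of_normalized hT hT9 hCT (hTL.trans hLK) fun k hk hk3 => ?_)
    obtain ⟨y, hy⟩ := hTI.exists_conj_mem (s := ⟨k, hKL hk⟩) (Subtype.ext hk3)
    by_contra hk1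
    exact hh ((y : G) * k * (y : G)⁻¹) (by simpa using hk1) hy ((Subgroup.mem_normalizer_iff.1 (hLK y.2) k).1 hk)
  have key : ∀ n, ∀ K : Subgroup G, Nat.card K = n → K ≤ L → L ≤ Subgroup.normalizer (K : Set G) → K ≠ ⊥ →
      K = L := by
    intro n
    induction n using Nat.strong_induction_on with
    | _ n ih =>
      intro K hKn hKL hLK hKb
      by_contra hne
      obtain ⟨g, hg⟩ : ∃ g : G, ∃ k ∈ K, g * k * g⁻¹ ∉ K := by
        by_contra hh
        push Not at hh
        exact hne (hmin K ⟨fun k hk g => hh g k hk⟩ hKL hKb)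
      let K' : Subgroup G := K.map (MulAut.conj g).toMonoidHom
      have hmem' : ∀ x, x ∈ K' ↔ ∃ k ∈ K, g * k * g⁻¹ = x := fun x => by
        simp [K', MulAut.conj_apply]
      have hK'L : K' ≤ L := by
        intro x hx
        obtain ⟨k, hk, rfl⟩ := (hmem' x).1 hx
        exact hLn.conj_mem k (hKL hk) g
      have hLK' : L ≤ Subgroup.normalizer (K' : Set G) := by
        intro l hl
        refine Subgroup.mem_normalizer_fintype (fun x hx => ?_)
        obtain ⟨k, hk, rfl⟩ := (hmem' x).1 hx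
        have hl' : g⁻¹ * l * g ∈ L := by simpa using hLn.conj_mem l hl g⁻¹
        refine (hmem' _).2 ⟨g⁻¹ * l * g * k * (g⁻¹ * l * g)⁻¹,
          (Subgroup.mem_normalizer_iff.1 (hLK hl') k).1 hk, ?_⟩
        group
      have hLI : L ≤ Subgroup.normalizer ((K ⊓ K' : Subgroup G) : Set G) := by
        intro l hl
        refine Subgroup.mem_normalizer_fintype (fun x hx => ?_)
        exact ⟨(Subgroup.mem_normalizer_iff.1 (hLK hl) x).1 hx.1,
          (Subgroup.mem_normalizer_iff.1 (hLK' hl) x).1 hx.2⟩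
      have hI : K ⊓ K' = ⊥ := by
        by_contra hIb
        have hlt : Nat.card (K ⊓ K' : Subgroup G) < n := by
          refine lt_of_le_of_ne (hKn ▸ Subgroup.card_le_of_le inf_le_left) fun e => ?_
          have hIK : K ⊓ K' = K := Subgroup.eq_of_le_of_card_ge inf_le_left (by rw [e, hKn])
          have hcard' : Nat.card K' = Nat.card K :=
            (Nat.card_congr (K.equivMapOfInjective _ (MulEquiv.injective _)).toEquiv).symm
          have hKK' : K = K' := Subgroup.eq_of_le_of_card_ge (inf_eq_left.1 hIK) hcard'.le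
          obtain ⟨k, hk, hk'⟩ := hg
          exact hk' (hKK' ▸ (hmem' _).2 ⟨k, hk, rfl⟩)
        have hIL := ih _ hlt _ rfl (inf_le_left.trans hKL) hLI hIb
        exact hne (le_antisymm hKL (hIL ▸ inf_le_left))
      have hK'b : K' ≠ ⊥ := fun e => hKb (by
        rwa [Subgroup.map_eq_bot_iff_of_injective _ (MulEquiv.injective _)] at e)
      obtain ⟨x', hx'1, hx'T, hx'K⟩ := hmeet K' hK'L hLK' hK'b
      obtain ⟨x, hx1, hxT, hxK⟩ := hmeet K hKL hLK hKb
      -- `K` centralises `x'`, so lies in the normaliser of `T`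
      have hKN : K ≤ Subgroup.normalizer (T : Set G) := by
        intro k hk
        refine hT.cent x' hx'T hx'1 (Subgroup.mem_centralizer_singleton_iff.2 ?_)
        have h1 : k * x' * k⁻¹ * x'⁻¹ ∈ K := by
          rw [show k * x' * k⁻¹ * x'⁻¹ = k * (x' * k⁻¹ * x'⁻¹) by group]
          exact K.mul_mem hk ((Subgroup.mem_normalizer_iff.1 (hLK (hK'L hx'K)) _).1 (K.inv_mem hk))
        have h2 : k * x' * k⁻¹ * x'⁻¹ ∈ K' :=
          K'.mul_mem ((Subgroup.mem_normalizer_iff.1 (hLK' (hKL hk)) _).1 hx'K) (K'.inv_mem hx'K)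
        have h3 : k * x' * k⁻¹ * x'⁻¹ = 1 := Subgroup.mem_bot.1 (hI ▸ ⟨h1, h2⟩)
        exact mul_inv_eq_iff_eq_mul.1 (mul_inv_eq_one.1 h3)
      refine hnot fun l hl => hT.ti hxT hx1 ?_
      have hlx := (Subgroup.mem_normalizer_iff.1 (hLK hl) x).1 hxK
      exact hT.mem_of_normalizes (hKN hlx) (by rw [conj_pow, hT.exp x hxT]; simp)
  refine ⟨L, hLn, hTL, hnot, ?_, fun hc => ?_⟩
  · haveI : Nontrivial L := (Subgroup.nontrivial_iff_ne_bot L).2 hLbot
    refine ⟨fun H hH => ?_⟩
    by_cases hb : H = ⊥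
    · exact Or.inl hb
    right
    have h := key _ (H.map L.subtype) rfl (Subgroup.map_subtype_le H) (fun l hl => by
      refine Subgroup.mem_normalizer_fintype (fun x hx => ?_)
      obtain ⟨y, hy, rfl⟩ := Subgroup.mem_map.1 hx
      exact Subgroup.mem_map.2 ⟨⟨l, hl⟩ * y * (⟨l, hl⟩ : L)⁻¹, hH.conj_mem y hy _, rfl⟩)
      (fun e => hb ((Subgroup.map_eq_bot_iff_of_injective _ Subtype.coe_injective).1 e))
    refine eq_top_iff.2 fun y _ => ?_
    obtain ⟨z, hz, e⟩ := Subgroup.mem_map.1 (h.ge y.2)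
    exact Subtype.ext e ▸ hz
  · refine hnot fun l hl => hT.cent _ htT ht (Subgroup.mem_centralizer_singleton_iff.2 ?_)
    exact congrArg Subtype.val (hc.is_comm.comm ⟨l, hl⟩ ⟨_, htL⟩)

/-- The main dichotomy. -/
theorem normal_or_sym_six {φ : El → G} (hφ : Coords T φ) (hT : H56.IsTIThree T) (hT9 : Nat.card T = 9)
    (hCT : Subgroup.centralizer (T : Set G) = T) : T.Normal ∨ Nonempty (G ≃* Equiv.Perm (Fin 6)) := by
  classical
  haveI : Fact (Nat.Prime 3) := ⟨Nat.prime_three⟩
  by_cases hn : T.Normal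
  · exact Or.inl hn
  right
  haveI := Fintype.ofFinite G
  obtain ⟨L, hLn, hTL, hnot, hLs, hLc⟩ := exists_simple_normal hφ hT hT9 hCT hn
  haveI := hLn
  haveI := hLs
  haveI := Fintype.ofFinite L
  set N := Subgroup.normalizer (T : Set G) with hNdef
  set T' := T.subgroupOf L with hT'def
  have hTI : H56.IsTIThree T' := tiThree_subgroupOf hT hTL
  have hT'9 : Nat.card T' = 9 := by
    rw [hT'def, Nat.card_congr (Subgroup.subgroupOfEquivOfLe hTL).toEquiv, hT9]
  let Q : Finset (DihedralGroup 4) := Finset.univ.filter fun d => φ (0, d) ∈ L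
  have hQ : ∀ {d}, d ∈ Q ↔ φ (0, d) ∈ L := by intro d; simp [Q]
  have hmem : ∀ x : El, φ x ∈ L ↔ x.2 ∈ Q := by
    rintro ⟨u, d⟩
    have e := hφ.mul (u, 1) (0, d)
    rw [emul_split] at e
    rw [hQ, e]
    exact L.mul_mem_cancel_left (hTL (hφ.mem_M u))
  have hone : φ (0, 1) = 1 := hφ.one
  have hQconj : ∀ d g, d ∈ Q → g * d * g⁻¹ ∈ Q := by
    intro d g hd
    rw [hQ]
    have e : φ ((0 : W), g⁻¹) = (φ (0, g))⁻¹ := by
      refine eq_inv_of_mul_eq_one_right ?_
      rw [← hφ.mul, emul_zero, mul_inv_cancel, hone]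
    rw [← emul_zero, ← emul_zero, hφ.mul, hφ.mul, e]
    exact hLn.conj_mem _ (hQ.1 hd) _
  have hQcl := classify Q (hQ.2 (by rw [hone]; exact L.one_mem))
    (fun a ha b hb => hQ.2 (by rw [← emul_zero, hφ.mul]; exact L.mul_mem (hQ.1 ha) (hQ.1 hb)))
    (fun a ha g => hQconj a g ha)
  -- the normaliser of `T` in `L`
  have hNLcard : Nat.card (Subgroup.normalizer (T' : Set L)) = 9 * Q.card := by
    have e : Nat.card {x : El // x.2 ∈ Q} = 9 * Q.card := by
      rw [Nat.card_congr (β := W × {d // d ∈ Q})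
        ⟨fun x => (x.1.1, ⟨x.1.2, x.2⟩), fun y => ⟨(y.1, y.2.1), y.2.2⟩, fun x => rfl, fun y => rfl⟩,
        Nat.card_prod, Nat.card_eq_finsetCard]
      simp
    rw [← e]
    refine (Nat.card_congr (Equiv.ofBijective
      (fun x => (⟨⟨φ x.1, (hmem _).2 x.2⟩, (mem_normalizer_subgroupOf hTL _).2 ((hφ.range _).2 ⟨_, rfl⟩)⟩ :
        Subgroup.normalizer (T' : Set L))) ⟨fun a b e => ?_, fun n => ?_⟩)).symm
    · exact Subtype.ext (hφ.inj (congrArg (fun z : Subgroup.normalizer (T' : Set L) => ((z : L) : G)) e))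
    · obtain ⟨x, hx⟩ := (hφ.range _).1 ((mem_normalizer_subgroupOf hTL _).1 n.2)
      exact ⟨⟨x, (hmem x).1 (hx ▸ n.1.2)⟩, Subtype.ext (Subtype.ext hx)⟩
  have hLcard : Nat.card L = 9 * Q.card * (Subgroup.normalizer (T' : Set L)).index := by
    rw [← hNLcard, Subgroup.card_mul_index]
  have hidx : (Subgroup.normalizer (T' : Set L)).index % 9 = 1 := by
    have h := hTI.index_modEq
    rw [hT'9] at h
    exact h
  have hidx1 : (Subgroup.normalizer (T' : Set L)).index ≠ 1 := fun e => by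
    rw [Subgroup.index_eq_one] at e
    exact hnot fun l hl => (mem_normalizer_subgroupOf hTL ⟨l, hl⟩).1 (e ▸ Subgroup.mem_top _)
  -- centralisers and conjugacy in `L`
  have hcentcard : ∀ (u : W) (hu : u ≠ 0), Nat.card (Subgroup.centralizer
      ({(⟨φ (u, 1), hTL (hφ.mem_M u)⟩ : L)} : Set L)) =
      (Finset.univ.filter fun x : El => x.2 ∈ Q ∧ act x.2 u = u).card := by
    intro u hu
    rw [← Fintype.card_subtype, ← Nat.card_eq_fintype_card]
    refine (Nat.card_congr (Equiv.ofBijective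
      (fun y => (⟨⟨φ y.1, (hmem _).2 y.2.1⟩, Subgroup.mem_centralizer_singleton_iff.2 (Subtype.ext (by
        show φ y.1 * φ (u, 1) = φ (u, 1) * φ y.1
        rw [← hφ.mul, ← hφ.mul, (emul_comm_iff _ _).2 y.2.2]))⟩ :
        Subgroup.centralizer ({(⟨φ (u, 1), hTL (hφ.mem_M u)⟩ : L)} : Set L)))
      ⟨fun a b e => ?_, fun c => ?_⟩)).symm
    · exact Subtype.ext (hφ.inj (congrArg (fun z : Subgroup.centralizer
        ({(⟨φ (u, 1), hTL (hφ.mem_M u)⟩ : L)} : Set L) => ((z : L) : G)) e))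
    · have hc : ((c : L) : G) * φ (u, 1) = φ (u, 1) * ((c : L) : G) :=
        congrArg Subtype.val (Subgroup.mem_centralizer_singleton_iff.1 c.2)
      obtain ⟨y, hy⟩ := (hφ.range _).1 (hT.cent _ (hφ.mem_M u)
        (hφ.ne_one fun hh => hu (congrArg Prod.fst hh)) (Subgroup.mem_centralizer_singleton_iff.2 hc))
      rw [← hy, ← hφ.mul, ← hφ.mul] at hc
      exact ⟨⟨y, (hmem y).1 (hy ▸ c.1.2), (emul_comm_iff _ _).1 (hφ.inj hc)⟩,
        Subtype.ext (Subtype.ext hy)⟩
  have hconj : ∀ u u' : W, u ≠ 0 →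
      (IsConj (⟨φ (u, 1), hTL (hφ.mem_M u)⟩ : L) ⟨φ (u', 1), hTL (hφ.mem_M u')⟩ ↔
        ∃ d ∈ Q, act d u = u') := by
    intro u u' hu
    constructor
    · intro e
      obtain ⟨c, hc⟩ := isConj_iff.1 e
      have hc' : (c : G) * φ (u, 1) * (c : G)⁻¹ = φ (u', 1) := congrArg Subtype.val hc
      obtain ⟨⟨w, d⟩, hy⟩ := (hφ.range _).1 (hT.ti (hφ.mem_M u) (hφ.ne_one fun hh => hu (congrArg Prod.fst hh))
        (hc'.symm ▸ hφ.mem_M u'))
      refine ⟨d, (hmem (w, d)).1 (hy ▸ c.2), ?_⟩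
      rw [← hy, mul_inv_eq_iff_eq_mul, ← hφ.mul, ← hφ.mul] at hc'
      have h1 := congrArg Prod.fst (hφ.inj hc')
      simp only [emul, DihNine.act_one] at h1
      exact add_left_cancel (a := w) (h1.trans (add_comm _ _))
    · rintro ⟨d, hd, rfl⟩
      refine isConj_iff.2 ⟨⟨φ (0, d), hQ.1 hd⟩, Subtype.ext ?_⟩
      show φ (0, d) * φ (u, 1) * (φ (0, d))⁻¹ = φ (act d u, 1)
      rw [mul_inv_eq_iff_eq_mul, ← hφ.mul, ← hφ.mul, emul_conj]
  -- the four-groups with fixed points do not occur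
  have hfour : ∀ (P : Mat), Q.card = 4 → (∀ u : W, app P u = 0 → u = 0) →
      (∀ u : W, u ≠ 0 → ∀ u' : W, (∃ d ∈ Q, act d (app P u) = app P u') ↔ DihNineVFour.RThree u u') →
      (∀ u : W, u ≠ 0 → (Finset.univ.filter fun x : El => x.2 ∈ Q ∧ act x.2 (app P u) = app P u).card =
        DihNineVFour.wgt3 u) → False := by
    intro P hQ4 hPk hO hW
    have hPinj : Function.Injective (app P) := by
      intro u u' h
      refine sub_eq_zero.1 (hPk _ ?_)
      have : app P (u - u') + app P u' = app P u' := by rw [← app_add, sub_add_cancel, h]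
      simpa using this
    let v : W → L := fun u => ⟨φ (app P u, 1), hTL (hφ.mem_M _)⟩
    have hcoords : NineCharBound.Coords T' v DihNineVFour.RThree := by
      refine ⟨hTI, fun u u' h => hPinj (congrArg Prod.fst (hφ.inj (congrArg Subtype.val h))),
        fun u u' => Subtype.ext ?_, fun u => hφ.mem_M _, fun x hx => ?_,
        fun u u' hu => (hconj _ _ fun e => hu (hPk u e)).trans (hO u hu u'), three_neg⟩
      · show φ (app P (u + u'), 1) = φ (app P u, 1) * φ (app P u', 1)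
        rw [← hφ.mul, emul_tr, app_add]
      · obtain ⟨w, hw⟩ := (hφ.mem _).1 hx
        obtain ⟨u, rfl⟩ := (Finite.injective_iff_surjective.1 hPinj) w
        exact ⟨u, Subtype.ext hw⟩
    have h36 := DihNineVFour.card_le_of_three_classes hcoords
      fun u hu => (hcentcard _ fun e => hu (hPk u e)).trans (hW u hu)
    rw [hLcard, hQ4] at h36
    omega
  rcases hQcl with hQu | ⟨hfree, hQn⟩ | hQe | hQo
  · -- `L` cannot contain all of the normaliser
    exfalso
    have hall : ∀ x : El, φ x ∈ L := fun x => (hmem x).2 (hQu ▸ Finset.mem_univ _)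
    refine DihNine.not_simple_of_coords (G := L) hLc (M := T') (φ := fun x => ⟨φ x, hall x⟩)
      ⟨fun a b e => hφ.inj (congrArg Subtype.val e), fun a b => Subtype.ext (hφ.mul a b), fun n => ?_,
        fun n => ?_⟩ hTI hT'9
    · rw [mem_normalizer_subgroupOf hTL, hφ.range]
      exact ⟨fun ⟨x, hx⟩ => ⟨x, Subtype.ext hx⟩, fun ⟨x, hx⟩ => ⟨x, congrArg Subtype.val hx⟩⟩
    · rw [Subgroup.mem_subgroupOf, hφ.mem]
      exact ⟨fun ⟨x, hx⟩ => ⟨x, Subtype.ext hx⟩, fun ⟨x, hx⟩ => ⟨x, congrArg Subtype.val hx⟩⟩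
  rotate_left
  · exact (hfour mone (by rw [hQe]; exact four_card.1) four_even.1 (by rw [hQe]; exact four_even.2.1)
      (by rw [hQe]; exact four_even.2.2)).elim
  · exact (hfour oddBase (by rw [hQo]; exact four_card.2) four_odd.1 (by rw [hQo]; exact four_odd.2.1)
      (by rw [hQo]; exact four_odd.2.2)).elim
  -- the automizer in `L` acts without fixed points
  have hcent : ∀ t ∈ T', t ≠ 1 → Subgroup.centralizer ({t} : Set L) = T' := by
    intro t ht ht1
    refine le_antisymm (fun c hc => ?_) fun c hc =>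
      Subgroup.mem_centralizer_singleton_iff.2 (hTI.comm c hc t ht)
    obtain ⟨u, hu⟩ : ∃ u, φ (u, 1) = (t : G) := (hφ.mem _).1 ht
    have hu0 : u ≠ 0 := by
      rintro rfl
      exact ht1 (Subtype.ext (hu.symm.trans hone))
    have hc' : (c : G) * (t : G) = (t : G) * (c : G) :=
      congrArg Subtype.val (Subgroup.mem_centralizer_singleton_iff.1 hc)
    obtain ⟨y, hy⟩ := (hφ.range _).1 (hT.cent _ ht (fun e => ht1 (Subtype.ext e))
      (Subgroup.mem_centralizer_singleton_iff.2 hc'))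
    rw [← hu, ← hy, ← hφ.mul, ← hφ.mul] at hc'
    have hact := (emul_comm_iff _ _).1 (hφ.inj hc')
    have hd1 : y.2 = 1 := by_contra fun hh => hfree _ ((hmem y).1 (hy ▸ c.2)) hh u hu0 hact
    exact Subgroup.mem_subgroupOf.2 ((hφ.mem _).2 ⟨y.1, by rw [← hy, ← hd1]⟩)
  let a : L := ⟨φ elA, hTL (hφ.mem_M _)⟩
  let b : L := ⟨φ elB, hTL (hφ.mem_M _)⟩
  have ho : ∀ (u : W) (h : φ (u, 1) ∈ L), u ≠ 0 → orderOf (⟨φ (u, 1), h⟩ : L) = 3 := fun u h hu => by
    refine orderOf_eq_prime (Subtype.ext (hT.exp _ (hφ.mem_M u))) fun e => ?_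
    exact hφ.ne_one (fun hh => hu (congrArg Prod.fst hh)) (congrArg Subtype.val e)
  have ha3 : orderOf a = 3 := ho _ _ rep_ne.1
  have h360 : Nat.card L = 360 := by
    refine NineAutomizer.card_eq_of_two_classes T' hTI hT'9 hcent ⟨a, b, ha3, ho _ _ rep_ne.2, fun g e => ?_⟩
    exact (hφ.not_conj hT).1 (isConj_iff.2 ⟨g, congrArg Subtype.val e⟩)
  have hQ4 : Q.card = 4 := by
    rw [h360] at hLcard
    rcases hQn with e | e | e <;> rw [e] at hLcard <;> omega
  -- the index
  have hNcard : Nat.card N = 72 := by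
    rw [← Nat.card_congr (Equiv.ofBijective (fun x => (⟨φ x, (hφ.range _).2 ⟨x, rfl⟩⟩ : N))
      ⟨fun p q e => hφ.inj (congrArg Subtype.val e), fun n => by
        obtain ⟨x, hx⟩ := (hφ.range _).1 n.2; exact ⟨x, Subtype.ext hx⟩⟩), Nat.card_prod,
      DihedralGroup.nat_card]
    simp
  have hindex : L.index = 2 := by
    obtain ⟨P, hP⟩ := hT.sylow
    have hsup : N ⊔ L = ⊤ := by
      rw [hNdef, ← hP]
      exact Sylow.normalizer_sup_eq_top' P (hP ▸ hTL)
    have h1 : L.relIndex N = L.index := by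
      rw [← Subgroup.relIndex_sup_right (H := N), hsup, Subgroup.relIndex_top_right]
    have h2 : Nat.card (L.subgroupOf N) = 9 * Q.card := by
      rw [← hNLcard]
      exact Nat.card_congr
        { toFun := fun z => ⟨⟨(z : N), z.2⟩, (mem_normalizer_subgroupOf hTL _).2 z.1.2⟩
          invFun := fun z => ⟨⟨((z : L) : G), (mem_normalizer_subgroupOf hTL _).1 z.2⟩, z.1.2⟩
          left_inv := fun z => rfl
          right_inv := fun z => rfl }
    have h3 := Subgroup.card_mul_index (L.subgroupOf N)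
    rw [h2, hQ4, hNcard, show (L.subgroupOf N).index = L.index from h1] at h3
    omega
  have hG : Nat.card G = 720 := by rw [← L.card_mul_index, h360, hindex]
  -- the outer element
  set s := φ (0, .sr 0) with hs
  have hsL : s ∉ L := fun h => hfree _ (hQ.2 h) (by decide) ((1, 0) : W) rep_ne.1 act_sr
  obtain ⟨ψ0⟩ := S0497.result h360
  obtain ⟨ψ, hψ⟩ : ∃ ψ : L ≃* alternatingGroup (Fin 6),
      ((ψ a : alternatingGroup (Fin 6)) : Equiv.Perm (Fin 6)).IsThreeCycle := by
    by_cases h : ((ψ0 a : alternatingGroup (Fin 6)) : Equiv.Perm (Fin 6)).IsThreeCycle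
    · exact ⟨ψ0, h⟩
    · obtain ⟨φo, -, -, hφo⟩ := H36.SymSix.exists_outer
      refine ⟨ψ0.trans (H77.TwoSymFour.restrictAlt φo), H77.TwoSymFour.outer_double hφo ?_ h⟩
      rw [Subgroup.orderOf_coe]
      exact (MulEquiv.orderOf_eq ψ0 _).trans ha3
  let β : MulAut (alternatingGroup (Fin 6)) := MulAut.congr ψ (MulAut.conjNormal s)
  have hβfix : β (ψ a) = ψ a := by
    show ψ (MulAut.conjNormal s (ψ.symm (ψ a))) = _
    rw [ψ.symm_apply_apply]
    refine congrArg ψ (Subtype.ext ?_)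
    show s * φ elA * s⁻¹ = φ elA
    rw [hs, elA, mul_inv_eq_iff_eq_mul, ← hφ.mul, ← hφ.mul, emul_conj, act_sr]
  obtain ⟨σ, hσ⟩ := H89.exists_conjNormal_eq (n := 6) (by norm_num) β fun y hy => by
    obtain ⟨k, hk⟩ := isConj_iff.1 (alternatingGroup.isThreeCycle_isConj
      (by rw [Nat.card_fin]; norm_num) hψ hy)
    rw [← hk, map_mul, map_mul, hβfix, map_inv]
    show ((β k : Equiv.Perm (Fin 6)) * _ * ((β k : alternatingGroup (Fin 6)) : Equiv.Perm (Fin 6))⁻¹).cycleType = _
    rw [Equiv.Perm.cycleType_conj]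
    exact hψ
  let ρ : G →* MulAut (alternatingGroup (Fin 6)) := (MulAut.congr ψ).toMonoidHom.comp MulAut.conjNormal
  let ι : Equiv.Perm (Fin 6) →* MulAut (alternatingGroup (Fin 6)) := MulAut.conjNormal
  have hιk : ∀ k : L, ρ (k : G) = ι (ψ k : Equiv.Perm (Fin 6)) := by
    intro k
    apply MulEquiv.ext
    intro x
    show ψ (MulAut.conjNormal (k : G) (ψ.symm x)) = MulAut.conjNormal ((ψ k : Equiv.Perm (Fin 6))) x
    obtain ⟨y, rfl⟩ := ψ.surjective x
    rw [ψ.symm_apply_apply, show MulAut.conjNormal (k : G) y = k * y * k⁻¹ from Subtype.ext rfl,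
      map_mul, map_mul, map_inv]
    exact Subtype.ext rfl
  have hrange : ∀ g, ρ g ∈ ι.range := by
    intro g
    by_cases hg : g ∈ L
    · exact ⟨_, (hιk ⟨g, hg⟩).symm⟩
    · have hgs : g * s⁻¹ ∈ L := (Subgroup.mul_mem_iff_of_index_two hindex).2
        (iff_of_false hg fun h => hsL (L.inv_mem_iff.1 h))
      rw [show g = g * s⁻¹ * s by group, map_mul]
      exact mul_mem ⟨_, (hιk ⟨_, hgs⟩).symm⟩ ⟨σ, hσ⟩
  have hι : Function.Injective ι := H62.conjNormal_injective (by norm_num)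
  have hρ : Function.Injective ρ := by
    refine (MulAut.congr ψ).injective.comp ((injective_iff_map_eq_one _).2 fun g hg => ?_)
    have hcomm : ∀ l ∈ L, g * l = l * g := fun l hl => by
      have h := congrArg (fun f : MulAut L => ((f ⟨l, hl⟩ : L) : G)) hg
      simp only [MulAut.conjNormal_apply, MulAut.one_apply] at h
      exact mul_inv_eq_iff_eq_mul.1 h
    by_contra hg1
    have hgT : g ∈ T := by
      rw [← hCT, Subgroup.mem_centralizer_iff]
      exact fun t ht => (hcomm t (hTL ht)).symm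
    exact hnot fun l hl => hT.cent g hgT hg1 (Subgroup.mem_centralizer_singleton_iff.2 (hcomm l hl).symm)
  let Φ : G →* Equiv.Perm (Fin 6) :=
    (MonoidHom.ofInjective hι).symm.toMonoidHom.comp (ρ.codRestrict ι.range hrange)
  have hΦ : Function.Injective Φ := (MonoidHom.ofInjective hι).symm.injective.comp
    fun p q h => hρ (congrArg Subtype.val h)
  exact ⟨MulEquiv.ofBijective Φ ((Nat.bijective_iff_injective_and_card Φ).2 ⟨hΦ, by
    rw [hG, Nat.card_perm, Nat.card_fin]; decide⟩)⟩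

/-- An element of order nine would make the automizer commutative. -/
theorem exponent_three (hT9 : Nat.card T = 9) (hCT : Subgroup.centralizer (T : Set G) = T)
    (e : Subgroup.normalizer (T : Set G) ⧸ T.subgroupOf (Subgroup.normalizer (T : Set G)) ≃* DihedralGroup 4) :
    ∀ t ∈ T, t ^ 3 = 1 := by
  intro t ht
  by_contra ht3
  haveI : Fact (Nat.Prime 3) := ⟨Nat.prime_three⟩
  have ho : orderOf t = 9 := by
    have h1 : orderOf t ∣ 3 ^ 2 := by
      rw [show (3 : ℕ) ^ 2 = Nat.card T from hT9.symm]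
      exact Subgroup.orderOf_dvd_natCard T ht
    obtain ⟨i, hi, hoi⟩ := (Nat.dvd_prime_pow Nat.prime_three).1 h1
    have hne : ¬ orderOf t ∣ 3 := fun h => ht3 (orderOf_dvd_iff_pow_eq_one.1 h)
    interval_cases i <;> simp_all
  have hz : Subgroup.zpowers t = T := Subgroup.eq_of_le_of_card_ge (Subgroup.zpowers_le.2 ht)
    (by rw [Nat.card_zpowers, ho, hT9])
  set N := Subgroup.normalizer (T : Set G) with hN
  have hc : ∀ n m : N, (QuotientGroup.mk n : N ⧸ T.subgroupOf N) * QuotientGroup.mk m =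
      QuotientGroup.mk m * QuotientGroup.mk n := by
    intro n m
    have hp : ∀ k : N, ∃ i : ℤ, (k : G) * t * (k : G)⁻¹ = t ^ i := fun k => by
      have h := (Subgroup.mem_normalizer_iff.1 k.2 t).1 ht
      rw [← hz] at h
      obtain ⟨i, hi⟩ := Subgroup.mem_zpowers_iff.1 h
      exact ⟨i, hi.symm⟩
    obtain ⟨i, hi⟩ := hp n
    obtain ⟨j, hj⟩ := hp m
    have e1 : ((n : G) * m) * t * ((n : G) * m)⁻¹ = t ^ (i * j) := by
      rw [show ((n : G) * m) * t * ((n : G) * m)⁻¹ = n * (m * t * (m : G)⁻¹) * (n : G)⁻¹ by group, hj,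
        ← conj_zpow, hi, zpow_mul]
    have e2 : ((m : G) * n) * t * ((m : G) * n)⁻¹ = t ^ (i * j) := by
      rw [show ((m : G) * n) * t * ((m : G) * n)⁻¹ = m * (n * t * (n : G)⁻¹) * (m : G)⁻¹ by group, hi,
        ← conj_zpow, hj, ← zpow_mul, mul_comm]
    rw [← QuotientGroup.mk_mul, ← QuotientGroup.mk_mul, QuotientGroup.eq, Subgroup.mem_subgroupOf]
    push_cast
    have hct : ((n : G) * m)⁻¹ * ((m : G) * n) * t = t * (((n : G) * m)⁻¹ * ((m : G) * n)) := by
      have h := e2.trans e1.symm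
      calc ((n : G) * m)⁻¹ * ((m : G) * n) * t
          = ((n : G) * m)⁻¹ * (((m : G) * n) * t * ((m : G) * n)⁻¹) * ((m : G) * n) := by group
        _ = ((n : G) * m)⁻¹ * (((n : G) * m) * t * ((n : G) * m)⁻¹) * ((m : G) * n) := by rw [h]
        _ = t * (((n : G) * m)⁻¹ * ((m : G) * n)) := by group
    have hmem : ((n : G) * m)⁻¹ * ((m : G) * n) ∈ Subgroup.centralizer (T : Set G) := by
      rw [← hz, Subgroup.mem_centralizer_iff]
      intro x hx
      obtain ⟨k, rfl⟩ := Subgroup.mem_zpowers_iff.1 hx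
      exact ((show Commute (((n : G) * m)⁻¹ * ((m : G) * n)) t from hct).zpow_right k).eq.symm
    rwa [hCT] at hmem
  obtain ⟨p, hp⟩ := e.surjective (.r 1)
  obtain ⟨q, hq⟩ := e.surjective (.sr 0)
  obtain ⟨n, rfl⟩ := QuotientGroup.mk_surjective p
  obtain ⟨m, rfl⟩ := QuotientGroup.mk_surjective q
  have h := congrArg e (hc n m)
  rw [map_mul, map_mul, hp, hq] at h
  exact absurd h (by decide)

/-- The normaliser has dihedral Sylow 2-subgroups. -/
theorem sylow_two_normalizer (hT9 : Nat.card T = 9) {N : Subgroup G} (hTN : T ≤ N) [(T.subgroupOf N).Normal]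
    (e : N ⧸ T.subgroupOf N ≃* DihedralGroup 4) (S : Sylow 2 N) :
    Nonempty (↥(S : Subgroup N) ≃* DihedralGroup 4) := by
  haveI : Fact (Nat.Prime 2) := ⟨Nat.prime_two⟩
  have hT' : Nat.card (T.subgroupOf N) = 9 := by
    rw [Nat.card_congr (Subgroup.subgroupOfEquivOfLe hTN).toEquiv, hT9]
  have hN72 : Nat.card N = 72 := by
    rw [Subgroup.card_eq_card_quotient_mul_card_subgroup (T.subgroupOf N), hT', Nat.card_congr e.toEquiv,
      DihedralGroup.nat_card]
  have hS8 : Nat.card (S : Subgroup N) = 8 := by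
    rw [S.card_eq_multiplicity, hN72, show (72 : ℕ).factorization 2 = 3 by
      rw [Nat.factorization_def _ Nat.prime_two]; decide +kernel]
    norm_num
  let f : (S : Subgroup N) →* DihedralGroup 4 :=
    e.toMonoidHom.comp ((QuotientGroup.mk' (T.subgroupOf N)).comp (S : Subgroup N).subtype)
  have hf : Function.Injective f := by
    refine (injective_iff_map_eq_one f).2 fun x hx => ?_
    have h1 : (x : N) ∈ T.subgroupOf N := by
      have h := e.injective (hx.trans (map_one e).symm)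
      exact (QuotientGroup.eq_one_iff _).1 h
    have h2 : x ^ 8 = 1 := by rw [← hS8]; exact pow_card_eq_one'
    have h3 : (⟨(x : N), h1⟩ : T.subgroupOf N) ^ 9 = 1 := by rw [← hT']; exact pow_card_eq_one'
    have h3' : (x : N) ^ 9 = 1 := congrArg Subtype.val h3
    have h2' : (x : N) ^ 8 = 1 := congrArg Subtype.val h2
    refine Subtype.ext ?_
    rw [show (x : N) = (x : N) ^ 9 * ((x : N) ^ 8)⁻¹ by group, h3', h2']
    simp
  exact ⟨MulEquiv.ofBijective f ((Nat.bijective_iff_injective_and_card f).2 ⟨hf, by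
    rw [hS8, DihedralGroup.nat_card]⟩)⟩

end Cfsg.Agent.H29.DihNineSix
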