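import Mathlib

/-!
# Subgroups of `GL₂(p)` generated by elements of order `p`
-/

set_option autoImplicit false

namespace Cfsg.Agent.H29.GLTwo

variable {p : ℕ} [hp : Fact p.Prime]

local notation "F" => ZMod p
local notation "G2" => GL (Fin 2) (ZMod p)

/-- An element of order `p` is `1` plus a square-zero matrix. -/
theorem nilpotent_sub_one {x : G2} (hx : x ^ p = 1) :
    ((x : Matrix (Fin 2) (Fin 2) F) - 1) * ((x : Matrix (Fin 2) (Fin 2) F) - 1) = 0 := by
  set N : Matrix (Fin 2) (Fin 2) F := (x : Matrix (Fin 2) (Fin 2) F) - 1 with hN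
  have hpow : N ^ p = 0 := by
    rw [hN, sub_pow_char_of_commute _ (Commute.one_right _), one_pow, ← Units.val_pow_eq_pow_val, hx,
      Units.val_one, sub_self]
  have hdet : N.det = 0 := by
    have h := congrArg Matrix.det hpow
    rw [Matrix.det_pow, Matrix.det_zero] at h
    exact eq_zero_of_pow_eq_zero h
  have hsq : N * N = Matrix.trace N • N := by
    rw [Matrix.det_fin_two] at hdet
    ext i j
    fin_cases i <;> fin_cases j <;>
      simp [Matrix.mul_apply, Fin.sum_univ_two, Matrix.trace_fin_two]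
    · linear_combination -hdet
    · ring
    · ring
    · linear_combination -hdet
  by_cases ht : Matrix.trace N = 0
  · rw [hsq, ht, zero_smul]
  · have key : ∀ j : ℕ, N ^ (j + 1) = Matrix.trace N ^ j • N := fun j => by
      induction j with
      | zero => simp
      | succ j ih => rw [pow_succ, ih, Matrix.smul_mul, hsq, smul_smul, ← pow_succ]
    obtain ⟨j, hj⟩ : ∃ j, p = j + 1 := ⟨p - 1, by have := hp.out.pos; omega⟩
    have h0 : Matrix.trace N ^ j • N = 0 := by rw [← key, ← hj, hpow]
    rcases smul_eq_zero.1 h0 with h | h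
    · exact absurd (eq_zero_of_pow_eq_zero h) ht
    · rw [h, mul_zero]

/-- The upper and lower unitriangular elements. -/
noncomputable def upper (a : F) : G2 :=
  Matrix.GeneralLinearGroup.mkOfDetNeZero !![1, a; 0, 1] (by rw [Matrix.det_fin_two_of]; simp)

/-- The lower unitriangular elements. -/
noncomputable def lower (a : F) : G2 :=
  Matrix.GeneralLinearGroup.mkOfDetNeZero !![1, 0; a, 1] (by rw [Matrix.det_fin_two_of]; simp)

theorem coe_upper (a : F) : ((upper a : G2) : Matrix (Fin 2) (Fin 2) F) = !![1, a; 0, 1] := rfl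
theorem coe_lower (a : F) : ((lower a : G2) : Matrix (Fin 2) (Fin 2) F) = !![1, 0; a, 1] := rfl

theorem upper_mul (a b : F) : upper a * upper b = upper (a + b) := by
  refine Units.ext ?_
  rw [Units.val_mul, coe_upper, coe_upper, coe_upper]
  ext i j; fin_cases i <;> fin_cases j <;> simp [Matrix.mul_apply, Fin.sum_univ_two, add_comm]

theorem lower_mul (a b : F) : lower a * lower b = lower (a + b) := by
  refine Units.ext ?_
  rw [Units.val_mul, coe_lower, coe_lower, coe_lower]
  ext i j; fin_cases i <;> fin_cases j <;> simp [Matrix.mul_apply, Fin.sum_univ_two, add_comm]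

theorem upper_pow (a : F) (n : ℕ) : upper a ^ n = upper ((n : F) * a) := by
  induction n with
  | zero =>
    refine Units.ext ?_
    rw [pow_zero, Units.val_one, coe_upper]
    ext i j; fin_cases i <;> fin_cases j <;> simp
  | succ n ih => rw [pow_succ, ih, upper_mul]; congr 1; push_cast; ring

theorem lower_pow (a : F) (n : ℕ) : lower a ^ n = lower ((n : F) * a) := by
  induction n with
  | zero =>
    refine Units.ext ?_
    rw [pow_zero, Units.val_one, coe_lower]
    ext i j; fin_cases i <;> fin_cases j <;> simp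
  | succ n ih => rw [pow_succ, ih, lower_mul]; congr 1; push_cast; ring

theorem upper_mem {K : Subgroup G2} {a : F} (ha : a ≠ 0) (h : upper a ∈ K) (b : F) : upper b ∈ K := by
  have h1 := pow_mem h (b * a⁻¹).val
  rwa [upper_pow, ZMod.natCast_zmod_val, inv_mul_cancel_right₀ ha] at h1

theorem lower_mem {K : Subgroup G2} {a : F} (ha : a ≠ 0) (h : lower a ∈ K) (b : F) : lower b ∈ K := by
  have h1 := pow_mem h (b * a⁻¹).val
  rwa [lower_pow, ZMod.natCast_zmod_val, inv_mul_cancel_right₀ ha] at h1

/-- Both root groups generate a subgroup containing all matrices of determinant one. -/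
theorem mem_of_det_one {K : Subgroup G2} (hu : ∀ b, upper b ∈ K) (hl : ∀ b, lower b ∈ K) (g : G2)
    (hg : (g : Matrix (Fin 2) (Fin 2) F).det = 1) : g ∈ K := by
  have main : ∀ g : G2, (g : Matrix (Fin 2) (Fin 2) F).det = 1 →
      (g : Matrix (Fin 2) (Fin 2) F) 1 0 ≠ 0 → g ∈ K := by
    intro g hg hc
    rw [Matrix.det_fin_two] at hg
    have : g = upper (((g : Matrix (Fin 2) (Fin 2) F) 0 0 - 1) * ((g : Matrix (Fin 2) (Fin 2) F) 1 0)⁻¹) *
        lower ((g : Matrix (Fin 2) (Fin 2) F) 1 0) *
        upper (((g : Matrix (Fin 2) (Fin 2) F) 1 1 - 1) * ((g : Matrix (Fin 2) (Fin 2) F) 1 0)⁻¹) := by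
      refine Units.ext ?_
      rw [Units.val_mul, Units.val_mul, coe_upper, coe_lower, coe_upper]
      generalize (g : Matrix (Fin 2) (Fin 2) F) = M at hg hc
      ext i j
      fin_cases i <;> fin_cases j <;> simp [Matrix.mul_apply, Fin.sum_univ_two]
      all_goals field_simp
      · ring
      · linear_combination -hg
      · ring
    rw [this]
    exact mul_mem (mul_mem (hu _) (hl _)) (hu _)
  by_cases hc : (g : Matrix (Fin 2) (Fin 2) F) 1 0 = 0
  · have h00 : (g : Matrix (Fin 2) (Fin 2) F) 0 0 ≠ 0 := fun h => by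
      rw [Matrix.det_fin_two, h, hc] at hg
      simp at hg
    have h1 : lower 1 * g ∈ K := by
      refine main _ ?_ ?_
      · rw [Units.val_mul, Matrix.det_mul, hg, coe_lower, Matrix.det_fin_two_of]; simp
      · rw [Units.val_mul, coe_lower]
        simpa [Matrix.mul_apply, Fin.sum_univ_two, hc] using h00
    simpa using mul_mem (inv_mem (hl 1)) h1
  · exact main g hg hc

/-- A subgroup of `GL₂(p)` with two elements of order `p` generating different subgroups contains
`SL₂(p)`. -/
theorem det_one_le {K : Subgroup G2} {x y : G2} (hx : x ∈ K) (hy : y ∈ K) (hxo : orderOf x = p)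
    (hyo : orderOf y = p) (hne : y ∉ Subgroup.zpowers x) (g : G2)
    (hg : (g : Matrix (Fin 2) (Fin 2) F).det = 1) : g ∈ K := by
  -- bring `x` to upper triangular form
  obtain ⟨P, a, ha, hP⟩ : ∃ (P : G2) (a : F), a ≠ 0 ∧ P⁻¹ * x * P = upper a := by
    have hxp : x ^ p = 1 := orderOf_dvd_iff_pow_eq_one.1 hxo.dvd
    have hN := nilpotent_sub_one hxp
    set N := (x : Matrix (Fin 2) (Fin 2) F) - 1 with hNdef
    have hxN : (x : Matrix (Fin 2) (Fin 2) F) = N + 1 := by rw [hNdef, sub_add_cancel]
    have e00 : N 0 0 * N 0 0 + N 0 1 * N 1 0 = 0 := by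
      simpa [Matrix.mul_apply, Fin.sum_univ_two] using congrFun (congrFun hN 0) 0
    have e10 : N 1 0 * N 0 0 + N 1 1 * N 1 0 = 0 := by
      simpa [Matrix.mul_apply, Fin.sum_univ_two] using congrFun (congrFun hN 1) 0
    have e11 : N 1 0 * N 0 1 + N 1 1 * N 1 1 = 0 := by
      simpa [Matrix.mul_apply, Fin.sum_univ_two] using congrFun (congrFun hN 1) 1
    by_cases hc : N 1 0 = 0
    · refine ⟨1, N 0 1, fun hb => ?_, ?_⟩
      · rw [hb, hc, mul_zero, add_zero, mul_self_eq_zero] at e00
        rw [hc, zero_mul, zero_add, mul_self_eq_zero] at e11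
        have : x = 1 := Units.ext (by
          rw [hxN, Units.val_one]
          ext i j; fin_cases i <;> fin_cases j <;> simp [e00, e11, hb, hc])
        rw [this, orderOf_one] at hxo
        exact hp.out.ne_one hxo.symm
      · rw [hc, mul_zero, add_zero, mul_self_eq_zero] at e00
        rw [hc, zero_mul, zero_add, mul_self_eq_zero] at e11
        refine Units.ext ?_
        rw [inv_one, one_mul, mul_one, coe_upper, hxN]
        ext i j; fin_cases i <;> fin_cases j <;> simp [e00, e11, hc]
    · let P : G2 := Matrix.GeneralLinearGroup.mkOfDetNeZero !![N 0 0, 1; N 1 0, 0]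
        (by rw [Matrix.det_fin_two_of]; simpa using hc)
      refine ⟨P, 1, one_ne_zero, ?_⟩
      rw [mul_assoc, inv_mul_eq_iff_eq_mul]
      refine Units.ext ?_
      rw [Units.val_mul, Units.val_mul, coe_upper, hxN]
      show (N + 1) * !![N 0 0, 1; N 1 0, 0] = !![N 0 0, 1; N 1 0, 0] * !![1, 1; 0, 1]
      ext i j
      fin_cases i <;> fin_cases j <;> simp [Matrix.mul_apply, Fin.sum_univ_two]
      · linear_combination e00
      · linear_combination e10
  -- the conjugated subgroup
  set K' := K.comap (MulAut.conj P).toMonoidHom with hK'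
  have hmem : ∀ w : G2, w ∈ K' ↔ P * w * P⁻¹ ∈ K := fun w => Iff.rfl
  have hU : ∀ b, upper b ∈ K' := upper_mem ha ((hmem _).2 (by
    rw [← hP, show P * (P⁻¹ * x * P) * P⁻¹ = x by group]; exact hx))
  set y' := P⁻¹ * y * P with hy'
  have hy'K : y' ∈ K' := (hmem _).2 (by rw [hy', show P * (P⁻¹ * y * P) * P⁻¹ = y by group]; exact hy)
  have hy'p : y' ^ p = 1 := by
    rw [hy', show P⁻¹ * y * P = MulAut.conj P⁻¹ y by simp, ← map_pow, orderOf_dvd_iff_pow_eq_one.1 hyo.dvd, map_one]
  have hM := nilpotent_sub_one hy'p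
  set M := (y' : Matrix (Fin 2) (Fin 2) F) - 1 with hMdef
  have hyM : (y' : Matrix (Fin 2) (Fin 2) F) = M + 1 := by rw [hMdef, sub_add_cancel]
  have e00 : M 0 0 * M 0 0 + M 0 1 * M 1 0 = 0 := by
    simpa [Matrix.mul_apply, Fin.sum_univ_two] using congrFun (congrFun hM 0) 0
  have e10 : M 1 0 * M 0 0 + M 1 1 * M 1 0 = 0 := by
    simpa [Matrix.mul_apply, Fin.sum_univ_two] using congrFun (congrFun hM 1) 0
  have e11 : M 1 0 * M 0 1 + M 1 1 * M 1 1 = 0 := by
    simpa [Matrix.mul_apply, Fin.sum_univ_two] using congrFun (congrFun hM 1) 1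
  have hc : M 1 0 ≠ 0 := by
    intro hc
    rw [hc, mul_zero, add_zero, mul_self_eq_zero] at e00
    rw [hc, zero_mul, zero_add, mul_self_eq_zero] at e11
    apply hne
    have hyu : y' = upper (M 0 1) := Units.ext (by
      rw [hyM, coe_upper]
      ext i j; fin_cases i <;> fin_cases j <;> simp [e00, e11, hc])
    have h1 : y' ∈ Subgroup.zpowers (upper a) :=
      hyu ▸ upper_mem ha (Subgroup.mem_zpowers _) _
    rw [← hP, show P⁻¹ * x * P = (MulAut.conj P⁻¹).toMonoidHom x by simp, ← MonoidHom.map_zpowers,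
      show y' = (MulAut.conj P⁻¹).toMonoidHom y by simp [hy'],
      Subgroup.mem_map_iff_mem (MulAut.conj P⁻¹).injective] at h1
    exact h1
  have hL : lower (M 1 0) ∈ K' := by
    have h11 : M 1 1 = -M 0 0 := by
      have h : M 1 0 * (M 0 0 + M 1 1) = 0 := by linear_combination e10
      rcases mul_eq_zero.1 h with h' | h'
      · exact absurd h' hc
      · linear_combination h'
    set s := M 0 0 * (M 1 0)⁻¹ with hs
    have hsc : s * M 1 0 = M 0 0 := by rw [hs, inv_mul_cancel_right₀ hc]
    have hy2 : (y' : Matrix (Fin 2) (Fin 2) F) = !![M 0 0 + 1, M 0 1; M 1 0, -M 0 0 + 1] := by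
      rw [hyM]
      ext i j; fin_cases i <;> fin_cases j <;> simp [h11]
    have hb : M 0 1 = -(s * M 0 0) := by
      apply mul_right_cancel₀ hc
      linear_combination e00 + M 0 0 * hsc
    have : lower (M 1 0) = upper (-s) * y' * upper s := by
      refine Units.ext ?_
      rw [Units.val_mul, Units.val_mul, coe_upper, coe_upper, coe_lower, hy2]
      ext i j
      fin_cases i <;> fin_cases j <;> simp [Matrix.mul_apply, Fin.sum_univ_two]
      · linear_combination hsc
      · linear_combination s * (-1 : F) * 0 - hb + (-s) * (M 0 0 - M 0 0) + (s * hsc)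
      · linear_combination -hsc
    rw [this]
    exact mul_mem (mul_mem (hU _) hy'K) (hU _)
  have hg' : P⁻¹ * g * P ∈ K' := mem_of_det_one hU (lower_mem hc hL) _ (by
    rw [Units.val_mul, Units.val_mul, Matrix.det_mul, Matrix.det_mul, hg, mul_one, ← Matrix.det_mul,
      ← Units.val_mul, inv_mul_cancel, Units.val_one, Matrix.det_one])
  simpa [hmem, mul_assoc] using hg'

end Cfsg.Agent.H29.GLTwo
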