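import Cfsg.Agent.H56.TIThree
import Cfsg.Agent.H42.DegreeBound
import Cfsg.Agent.H43.IntCong
import Cfsg.Agent.H57.VChar

/-!
Bounds on the order of a group with a self-centralising elementary abelian Sylow 3-subgroup of order 9,
from the integral character values on its non-identity elements.
-/

open scoped ComplexConjugate

namespace Cfsg.Agent.H29.NineCharBound

/-- The model of an elementary abelian group of order 9. -/
abbrev V2 := ZMod 3 × ZMod 3

theorem sum_V2 {M : Type*} [AddCommMonoid M] (f : V2 → M) :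
    ∑ u, f u = (f (0, 0) + f (0, 1) + f (0, 2)) + (f (1, 0) + f (1, 1) + f (1, 2)) +
      (f (2, 0) + f (2, 1) + f (2, 2)) := by
  rw [Fintype.sum_prod_type]
  have h : ∀ g : ZMod 3 → M, ∑ x, g x = g 0 + g 1 + g 2 := fun g => Fin.sum_univ_three g
  simp only [h]

/-- Coordinates on `T` in which conjugacy in `G` is the relation `R`. -/
structure Coords {G : Type*} [Group G] (T : Subgroup G) (v : V2 → G) (R : V2 → V2 → Prop) : Prop where
  ti : H56.IsTIThree T
  inj : Function.Injective v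
  add : ∀ u u', v (u + u') = v u * v u'
  mem : ∀ u, v u ∈ T
  surj : ∀ x ∈ T, ∃ u, v u = x
  conj_iff : ∀ u u', u ≠ 0 → (IsConj (v u) (v u') ↔ R u u')
  neg : ∀ u, u ≠ 0 → R u (-u)

variable {G : Type*} [Group G] [Fintype G] {T : Subgroup G} {v : V2 → G} {R : V2 → V2 → Prop}

theorem Coords.map_zero (h : Coords T v R) : v 0 = 1 := by
  have := h.add 0 0
  rw [add_zero] at this
  exact mul_left_cancel (a := v 0) (by rw [← this, mul_one])

theorem Coords.card (h : Coords T v R) : Nat.card T = 9 := by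
  rw [← Nat.card_congr (Equiv.ofBijective (fun u => (⟨v u, h.mem u⟩ : T))
    ⟨fun u u' e => h.inj (congrArg (fun t : T => (t : G)) e),
      fun t => by obtain ⟨u, hu⟩ := h.surj t t.2; exact ⟨u, Subtype.ext hu⟩⟩)]
  simp

/-- The rows of the character table on `T`: rational integers, congruent modulo 3, summing to 0 modulo 9,
with column orthogonality, and Burnside's formula for the class multiplication constants. -/
theorem Coords.exists_rows (h : Coords T v R) [DecidableRel R] (w : V2 → ℕ)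
    (hw : ∀ u, u ≠ 0 → Nat.card (Subgroup.centralizer ({v u} : Set G)) = w u) :
    ∃ c : Cfsg.IrrCharacter G → V2 → ℤ,
      (∀ u, c (H26.oneIrr G) u = 1) ∧ (∀ χ, 0 < c χ 0) ∧
      (∀ χ u u', u ≠ 0 → R u u' → c χ u = c χ u') ∧
      (∀ χ u, (3 : ℤ) ∣ c χ u - c χ 0) ∧ (∀ χ, (9 : ℤ) ∣ ∑ u, c χ u) ∧
      (∀ u u', u ≠ 0 → u' ≠ 0 → ∑ χ, c χ u * c χ u' = if R u u' then (w u' : ℤ) else 0) ∧
      (∀ u, u ≠ 0 → ∑ χ, c χ 0 * c χ u = 0) ∧ (∀ χ, c χ 0 * c χ 0 ≤ Nat.card G) ∧
      (∀ u u' u'', u ≠ 0 → u' ≠ 0 → u'' ≠ 0 → ¬ (R u u' ∧ R u'' (u + u)) →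
        (Fintype.card {z : V2 // R u z ∧ R u' (u'' - z)} : ℚ) * ((w u : ℚ) * (w u' : ℚ)) =
          (Nat.card G : ℚ) * ∑ χ, ((c χ u * c χ u' * c χ u'' : ℤ) : ℚ) / (c χ 0 : ℚ)) := by
  classical
  have := Fintype.ofFinite T
  have hv0 := h.map_zero
  have hv1 : ∀ u, u ≠ 0 → v u ≠ 1 := fun u hu e => hu (h.inj (e.trans hv0.symm))
  have hint : ∀ (χ : Cfsg.IrrCharacter G) u, ∃ n : ℤ, χ.1 (v u) = n ∧
      ∀ d : ℕ, χ.1 1 = d → u ≠ 0 → (3 : ℤ) ∣ d + 2 * n := by
    intro χ u
    obtain ⟨d, -, hd⟩ := H57.irr_degree χ.2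
    by_cases hu : u = 0
    · exact ⟨d, by rw [hu, hv0, hd]; simp, fun _ _ hh => absurd hu hh⟩
    have hval : χ.1 (v (-u)) = χ.1 (v u) := H26.irr_eq_of_isConj χ ((h.conj_iff u (-u) hu).2 (h.neg u hu)).symm
    obtain ⟨m, hm⟩ := H42.exists_nat_sum_subgroup χ (Subgroup.zpowers (v u))
    have hu3 : v u ^ 3 = 1 := h.ti.exp _ (h.mem u)
    have hord : orderOf (v u) = 3 := by
      have : Fact (Nat.Prime 3) := ⟨Nat.prime_three⟩
      exact orderOf_eq_prime hu3 (hv1 u hu)
    rw [Nat.card_zpowers, hord] at hm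
    have hneg : v (-u) = v u ^ 2 := by
      rw [pow_two, ← h.add, show u + u = -u from by clear hu hval hm hu3 hord; revert u; decide]
    have hsum : ∑ y : Subgroup.zpowers (v u), χ.1 (y : G) = χ.1 1 + χ.1 (v u) + χ.1 (v u ^ 2) := by
      rw [← Equiv.sum_comp (finEquivZPowers (isOfFinOrder_of_finite (v u)))]
      simp only [finEquivZPowers_apply]
      rw [Finset.sum_fin_eq_sum_range, hord]
      simp [Finset.sum_range_succ]
    rw [hsum, ← hneg, hval, hd] at hm
    have hq : χ.1 (v u) = (((3 * m - d : ℤ) : ℚ) / 2 : ℚ) := by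
      push_cast
      linear_combination hm / 2
    have hI : IsIntegral ℤ (χ.1 (v u)) := by
      obtain ⟨_, ρ, -, e⟩ := χ.2
      rw [← e]
      exact H25.isIntegral_char ρ _
    rw [hq] at hI
    obtain ⟨n, hn⟩ := H43.exists_int_of_isIntegral hI
    refine ⟨n, by rw [hq, ← hn]; simp, fun d' hd' _ => ?_⟩
    have hdd : d' = d := Nat.cast_injective (R := ℂ) (hd'.symm.trans hd)
    subst hdd
    refine ⟨m, ?_⟩
    have : (2 * n : ℤ) = 3 * m - d' := by
      have e2 : (2 * n : ℚ) = ((3 * m - d' : ℤ) : ℚ) := by rw [hn]; ring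
      exact_mod_cast e2
    omega
  choose c hc hc3 using hint
  have hd0 : ∀ χ : Cfsg.IrrCharacter G, ∃ d : ℕ, 0 < d ∧ χ.1 1 = d ∧ c χ 0 = d := by
    intro χ
    obtain ⟨d, hdpos, hd⟩ := H57.irr_degree χ.2
    refine ⟨d, hdpos, hd, ?_⟩
    have e := hc χ 0
    rw [hv0, hd] at e
    exact_mod_cast e.symm
  refine ⟨c, fun u => ?_, fun χ => ?_, fun χ u u' hu hR => ?_, fun χ u => ?_, fun χ => ?_, ?_, ?_, ?_, ?_⟩
  · have e := hc (H26.oneIrr G) u
    rw [H26.oneIrr_val] at e
    exact_mod_cast e.symm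
  · obtain ⟨d, hdpos, -, e⟩ := hd0 χ
    rw [e]; exact_mod_cast hdpos
  · have e := H26.irr_eq_of_isConj χ ((h.conj_iff u u' hu).2 hR)
    rw [hc, hc] at e
    exact_mod_cast e
  · by_cases hu : u = 0
    · rw [hu, sub_self]; exact dvd_zero _
    obtain ⟨d, -, hd, e⟩ := hd0 χ
    have h3 := hc3 χ u d hd hu
    omega
  · obtain ⟨m, hm⟩ := H42.exists_nat_sum_subgroup χ T
    rw [h.card, ← Equiv.sum_comp (Equiv.ofBijective (fun u => (⟨v u, h.mem u⟩ : T))
      ⟨fun u u' e => h.inj (congrArg (fun t : T => (t : G)) e),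
        fun t => by obtain ⟨u, hu⟩ := h.surj t t.2; exact ⟨u, Subtype.ext hu⟩⟩)] at hm
    replace hm : ∑ u, χ.1 (v u) = ((9 : ℕ) : ℂ) * m := hm
    rw [Finset.sum_congr rfl (fun u _ => hc χ u)] at hm
    exact ⟨m, by exact_mod_cast hm⟩
  · intro u u' hu hu'
    have e := H26.column_orthogonality (v u) (v u')
    simp only [hc, H26.classIndicator] at e
    rw [hw u' hu'] at e
    simp only [map_intCast] at e
    have hiff : IsConj (v u) (v u') ↔ R u u' := h.conj_iff u u' hu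
    by_cases hR : R u u'
    · rw [if_pos hR]
      rw [if_pos (by simpa [isConj_comm] using hiff.2 hR)] at e
      have e' : ((∑ χ, c χ u * c χ u' : ℤ) : ℂ) = ((w u' : ℤ) : ℂ) := by push_cast; simpa using e
      exact_mod_cast e'
    · rw [if_neg hR]
      rw [if_neg (fun hh => hR (hiff.1 (by simpa [isConj_comm] using hh)))] at e
      have e' : ((∑ χ, c χ u * c χ u' : ℤ) : ℂ) = ((0 : ℤ) : ℂ) := by push_cast; simpa using e
      exact_mod_cast e'
  · intro u hu
    have e := H26.column_orthogonality (v 0) (v u)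
    simp only [hc, H26.classIndicator, map_intCast] at e
    rw [if_neg (fun hh => hv1 u hu (by rw [hv0] at hh; simpa [eq_comm] using hh)),
      mul_zero] at e
    exact_mod_cast e
  · intro χ
    have e := H26.sum_sq_degrees (G := G)
    have hone : ∀ ψ : Cfsg.IrrCharacter G, ψ.1 1 = (c ψ 0 : ℂ) := fun ψ => by rw [← hc, hv0]
    simp only [hone, pow_two] at e
    have e' : ∑ ψ, c ψ 0 * c ψ 0 = (Nat.card G : ℤ) := by exact_mod_cast e
    rw [← e']
    exact Finset.single_le_sum (fun ψ _ => mul_self_nonneg (c ψ 0)) (Finset.mem_univ χ)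
  · intro u u' u'' hu hu' hu'' hne
    have hcnt : H42.pairCount (v u) (v u') (v u'') = Fintype.card {w : V2 // R u w ∧ R u' (u'' - w)} := by
      have hsub : ∀ w, (v w)⁻¹ * v u'' = v (u'' - w) := by
        intro w
        rw [inv_mul_eq_iff_eq_mul, ← h.add, add_sub_cancel]
      rw [H42.pairCount, ← Nat.card_eq_fintype_card]
      refine (Nat.card_congr (Equiv.ofBijective (fun w => ⟨v w.1, ((h.conj_iff u w.1 hu).2 w.2.1).symm,
        by rw [hsub]; exact ((h.conj_iff u' _ hu').2 w.2.2).symm⟩)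
        ⟨fun w w' e => Subtype.ext (h.inj (congrArg (fun x => (x.1 : G)) e)), ?_⟩)).symm
      rintro ⟨x, hx1, hx2⟩
      have hm := h.ti.pair_mem (h.mem u) (h.mem u') (h.mem u'') (hv1 u'' hu'')
        (fun hh => hne ⟨(h.conj_iff u u' hu).1 hh.1, (h.conj_iff u'' _ hu'').1 (by rw [h.add]; exact hh.2)⟩)
        hx1 hx2 (mul_inv_cancel_left x _)
      obtain ⟨w, rfl⟩ := h.surj x hm.1
      exact ⟨⟨w, (h.conj_iff u w hu).1 hx1.symm,
        (h.conj_iff u' _ hu').1 (by rw [← hsub]; exact hx2.symm)⟩, rfl⟩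
    have e := H42.pairCount_formula (v u) (v u') (v u'')
    rw [hcnt] at e
    have hI : ∀ x, x ≠ 0 → ((Subgroup.centralizer ({v x} : Set G)).index : ℂ) * (w x : ℂ) = (Nat.card G : ℂ) := by
      intro x hx
      rw [← hw x hx, ← Subgroup.card_mul_index (Subgroup.centralizer ({v x} : Set G))]
      push_cast; ring
    have hne0 : (Nat.card G : ℂ) ≠ 0 := Nat.cast_ne_zero.2 Nat.card_pos.ne'
    simp only [hc, map_intCast] at e
    have hone : ∀ χ : Cfsg.IrrCharacter G, χ.1 1 = (c χ 0 : ℂ) := fun χ => by rw [← hc, hv0]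
    simp only [hone] at e
    apply Rat.cast_injective (α := ℂ)
    push_cast
    rw [e]
    have i1 := hI u hu
    have i2 := hI u' hu'
    generalize ((Subgroup.centralizer ({v u} : Set G)).index : ℂ) = I at *
    generalize ((Subgroup.centralizer ({v u'} : Set G)).index : ℂ) = I' at *
    generalize (∑ χ : Cfsg.IrrCharacter G, (c χ u : ℂ) * (c χ u' : ℂ) * (c χ u'' : ℂ) / (c χ 0 : ℂ)) = Sm
    calc I * I' * (Nat.card G : ℂ)⁻¹ * Sm * ((w u : ℂ) * (w u' : ℂ))
        = (I * (w u : ℂ)) * (I' * (w u' : ℂ)) * (Nat.card G : ℂ)⁻¹ * Sm := by ring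
      _ = (Nat.card G : ℂ) * Sm := by rw [i1, i2]; field_simp

/-- The row inequality for an automizer with two classes. -/
theorem row_four (p m d : ℤ) (hp : -2 ≤ p ∧ p ≤ 2) (hm : -2 ≤ m ∧ m ≤ 2) (h3 : 3 ∣ p - m)
    (h9 : 9 ∣ d + 4 * p + 4 * m) (hs : (p + m) ^ 2 ≤ 14) (hd : 0 < d) :
    0 ≤ 80 * (p * m * (p + m)) + d * (5 * (p + m) ^ 2 + 3 * (p - m) ^ 2) := by
  obtain ⟨hp1, hp2⟩ := hp
  obtain ⟨hm1, hm2⟩ := hm
  interval_cases p <;> interval_cases m <;> norm_num at * <;> omega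

/-- The row inequality for an automizer with four classes. -/
theorem row_two (a b x y d : ℤ) (ha : -2 ≤ a ∧ a ≤ 2) (hb : -2 ≤ b ∧ b ≤ 2) (hx : -2 ≤ x ∧ x ≤ 2)
    (hy : -2 ≤ y ∧ y ≤ 2) (hab : 3 ∣ a - b) (hax : 3 ∣ a - x) (hay : 3 ∣ a - y)
    (h9 : 9 ∣ d + 2 * (a + b + x + y)) (hs : (a + b + x + y) ^ 2 ≤ 20) (hd : 0 < d) :
    0 ≤ 10 * (5 * (a * a * b + a * a * x + a * a * y + b * b * a + b * b * x + b * b * y + x * x * a +
        x * x * b + x * x * y + y * y * a + y * y * b + y * y * x) +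
      12 * (a * b * x + a * b * y + a * x * y + b * x * y)) + 9 * (a + b + x + y) ^ 2 * d := by
  obtain ⟨ha1, ha2⟩ := ha
  obtain ⟨hb1, hb2⟩ := hb
  obtain ⟨hx1, hx2⟩ := hx
  obtain ⟨hy1, hy2⟩ := hy
  interval_cases a <;> interval_cases b <;> (try omega) <;> interval_cases x <;> (try omega) <;>
    interval_cases y <;> norm_num at * <;> omega

/-- Two classes: `u` and `u'` are both on the axes or both off them. -/
def RFour (u u' : V2) : Prop := u ≠ 0 ∧ u' ≠ 0 ∧ ((u.1 = 0 ∨ u.2 = 0) ↔ (u'.1 = 0 ∨ u'.2 = 0))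

instance : DecidableRel RFour := fun u u' => by unfold RFour; infer_instance

/-- Four classes: `u'` is `u` or its inverse. -/
def RTwo (u u' : V2) : Prop := u ≠ 0 ∧ (u' = u ∨ u' = -u)

instance : DecidableRel RTwo := fun u u' => by unfold RTwo; infer_instance

theorem sq_le_eight {c : ℤ} (h : c * c ≤ 8) : -2 ≤ c ∧ c ≤ 2 := ⟨by nlinarith, by nlinarith⟩

/-- The order bound when the non-identity elements of `T` form two classes. -/
theorem card_le_of_two_classes (h : Coords T v RFour)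
    (hcent : ∀ u, u ≠ 0 → Subgroup.centralizer ({v u} : Set G) = T) : Nat.card G ≤ 720 := by
  classical
  obtain ⟨c, hc1, hd, hR, h3, h9, horth, -, -, hform⟩ :=
    h.exists_rows (fun _ => 9) (fun u hu => by rw [hcent u hu, h.card])
  set p := fun χ => c χ (1, 0) with hp
  set m := fun χ => c χ (1, 1) with hm
  set one := H26.oneIrr G
  set S := (Finset.univ : Finset (Cfsg.IrrCharacter G)).erase one with hS
  have hsplit : ∀ f : Cfsg.IrrCharacter G → ℤ, ∑ χ ∈ S, f χ = ∑ χ, f χ - f one := fun f =>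
    Finset.sum_erase_eq_sub (Finset.mem_univ _)
  have hpp : ∑ χ ∈ S, p χ * p χ = 8 := by
    rw [hsplit, hp, horth _ _ (by decide) (by decide), if_pos (by decide)]; simp [one, hc1]
  have hmm : ∑ χ ∈ S, m χ * m χ = 8 := by
    rw [hsplit, hm, horth _ _ (by decide) (by decide), if_pos (by decide)]; simp [one, hc1]
  have hpm : ∑ χ ∈ S, p χ * m χ = -1 := by
    rw [hsplit, hp, hm, horth _ _ (by decide) (by decide), if_neg (by decide)]; simp [one, hc1]
  have hplus : ∑ χ ∈ S, (p χ + m χ) ^ 2 = 14 := by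
    rw [Finset.sum_congr rfl (fun χ _ => show (p χ + m χ) ^ 2 =
      p χ * p χ + m χ * m χ + 2 * (p χ * m χ) by ring)]
    rw [Finset.sum_add_distrib, Finset.sum_add_distrib, ← Finset.mul_sum, hpp, hmm, hpm]
    norm_num
  have hminus : ∑ χ ∈ S, (p χ - m χ) ^ 2 = 18 := by
    rw [Finset.sum_congr rfl (fun χ _ => show (p χ - m χ) ^ 2 =
      p χ * p χ + m χ * m χ + (-2) * (p χ * m χ) by ring)]
    rw [Finset.sum_add_distrib, Finset.sum_add_distrib, ← Finset.mul_sum, hpp, hmm, hpm]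
    norm_num
  have hrow : ∀ χ ∈ S, -(((5 * (p χ + m χ) ^ 2 + 3 * (p χ - m χ) ^ 2 : ℤ) : ℚ) / 80) ≤
      ((p χ * m χ * (p χ + m χ) : ℤ) : ℚ) / (c χ 0 : ℚ) := by
    intro χ hχ
    have e1 := (Finset.single_le_sum (fun ψ _ => mul_self_nonneg (p ψ)) hχ).trans_eq hpp
    have e2 := (Finset.single_le_sum (fun ψ _ => mul_self_nonneg (m ψ)) hχ).trans_eq hmm
    have e3 := (Finset.single_le_sum (fun ψ _ => sq_nonneg (p ψ + m ψ)) hχ).trans_eq hplus
    have hsum : ∑ u, c χ u = c χ 0 + 4 * p χ + 4 * m χ := by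
      rw [sum_V2, show ((0 : ZMod 3), (0 : ZMod 3)) = (0 : V2) from rfl,
        ← hR χ (1, 0) (0, 1) (by decide) (by decide), ← hR χ (1, 0) (0, 2) (by decide) (by decide),
        ← hR χ (1, 0) (2, 0) (by decide) (by decide), ← hR χ (1, 1) (1, 2) (by decide) (by decide),
        ← hR χ (1, 1) (2, 1) (by decide) (by decide), ← hR χ (1, 1) (2, 2) (by decide) (by decide)]
      ring
    have hrow := row_four (p χ) (m χ) (c χ 0) (sq_le_eight e1) (sq_le_eight e2)
      (by have := h3 χ (1, 0); have := h3 χ (1, 1); simp only [p, m]; omega) (hsum ▸ h9 χ) e3 (hd χ)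
    have hq : (0 : ℚ) < (c χ 0 : ℚ) := by exact_mod_cast hd χ
    rw [← neg_div, div_le_div_iff₀ (by norm_num) hq]
    have : (0 : ℚ) ≤ ((80 * (p χ * m χ * (p χ + m χ)) +
        c χ 0 * (5 * (p χ + m χ) ^ 2 + 3 * (p χ - m χ) ^ 2) : ℤ) : ℚ) := Int.cast_nonneg hrow
    push_cast at this ⊢
    linarith
  have hbound := Finset.sum_le_sum hrow
  have hk1 : Fintype.card {w : V2 // RFour (1, 0) w ∧ RFour (1, 0) ((1, 1) - w)} = 2 := by decide
  have hk2 : Fintype.card {w : V2 // RFour (1, 1) w ∧ RFour (1, 1) ((1, 0) - w)} = 2 := by decide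
  have f1 := hform (1, 0) (1, 0) (1, 1) (by decide) (by decide) (by decide) (by decide)
  have f2 := hform (1, 1) (1, 1) (1, 0) (by decide) (by decide) (by decide) (by decide)
  rw [hk1] at f1
  rw [hk2] at f2
  have htot : (Nat.card G : ℚ) * ∑ χ, ((p χ * m χ * (p χ + m χ) : ℤ) : ℚ) / (c χ 0 : ℚ) = 324 := by
    have e : ∀ χ, ((p χ * m χ * (p χ + m χ) : ℤ) : ℚ) / (c χ 0 : ℚ) =
        ((p χ * p χ * m χ : ℤ) : ℚ) / (c χ 0 : ℚ) + ((m χ * m χ * p χ : ℤ) : ℚ) / (c χ 0 : ℚ) := fun χ => by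
      rw [← add_div]; push_cast; ring
    rw [Finset.sum_congr rfl (fun χ _ => e χ), Finset.sum_add_distrib, mul_add, ← f1, ← f2]
    norm_num
  rw [← Finset.add_sum_erase _ _ (Finset.mem_univ one)] at htot
  simp only [p, m, one, hc1] at htot
  rw [Finset.sum_neg_distrib, ← Finset.sum_div, ← Int.cast_sum, Finset.sum_add_distrib, ← Finset.mul_sum,
    ← Finset.mul_sum, hplus, hminus] at hbound
  simp only [hS, p, m, one] at hbound
  set Sg := ∑ χ ∈ (Finset.univ : Finset (Cfsg.IrrCharacter G)).erase (H26.oneIrr G),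
    ((c χ (1, 0) * c χ (1, 1) * (c χ (1, 0) + c χ (1, 1)) : ℤ) : ℚ) / (c χ 0 : ℚ)
  push_cast at htot hbound
  norm_num [-Nat.card_eq_fintype_card, -Finset.sum_erase_eq_sub] at htot hbound
  have hG : (0 : ℚ) ≤ (Nat.card G : ℚ) := Nat.cast_nonneg _
  have : (Nat.card G : ℚ) ≤ 720 := by nlinarith
  exact_mod_cast this

/-- The order bound when the non-identity elements of `T` form four classes. -/
theorem card_le_of_four_classes (h : Coords T v RTwo)
    (hcent : ∀ u, u ≠ 0 → Subgroup.centralizer ({v u} : Set G) = T) : Nat.card G ≤ 43 := by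
  classical
  obtain ⟨c, hc1, hd, hR, h3, h9, horth, -, -, hform⟩ :=
    h.exists_rows (fun _ => 9) (fun u hu => by rw [hcent u hu, h.card])
  set one := H26.oneIrr G
  set S := (Finset.univ : Finset (Cfsg.IrrCharacter G)).erase one with hS
  set A : V2 := (1, 0)
  set B : V2 := (0, 1)
  set X : V2 := (1, 1)
  set Y : V2 := (1, 2)
  have hsplit : ∀ f : Cfsg.IrrCharacter G → ℤ, ∑ χ ∈ S, f χ = ∑ χ, f χ - f one := fun f =>
    Finset.sum_erase_eq_sub (Finset.mem_univ _)
  have hin : ∀ u u' : V2, u ≠ 0 → u' ≠ 0 → ∑ χ ∈ S, c χ u * c χ u' = (if RTwo u u' then 9 else 0) - 1 := by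
    intro u u' hu hu'
    rw [hsplit, horth u u' hu hu']
    split_ifs <;> simp [one, hc1]
  set P := fun χ => c χ A + c χ B + c χ X + c χ Y with hP
  have hP2 : ∑ χ ∈ S, P χ ^ 2 = 20 := by
    have e : ∀ χ, P χ ^ 2 = c χ A * c χ A + c χ B * c χ B + c χ X * c χ X + c χ Y * c χ Y +
        2 * (c χ A * c χ B + c χ A * c χ X + c χ A * c χ Y + c χ B * c χ X + c χ B * c χ Y + c χ X * c χ Y) :=
      fun χ => by simp only [P]; ring
    rw [Finset.sum_congr rfl (fun χ _ => e χ)]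
    simp only [Finset.sum_add_distrib, ← Finset.mul_sum]
    rw [hin A A, hin B B, hin X X, hin Y Y, hin A B, hin A X, hin A Y, hin B X, hin B Y, hin X Y]
    all_goals decide
  set F := fun χ => 5 * (c χ A * c χ A * c χ B + c χ A * c χ A * c χ X + c χ A * c χ A * c χ Y +
      c χ B * c χ B * c χ A + c χ B * c χ B * c χ X + c χ B * c χ B * c χ Y + c χ X * c χ X * c χ A +
      c χ X * c χ X * c χ B + c χ X * c χ X * c χ Y + c χ Y * c χ Y * c χ A + c χ Y * c χ Y * c χ B +
      c χ Y * c χ Y * c χ X) +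
    12 * (c χ A * c χ B * c χ X + c χ A * c χ B * c χ Y + c χ A * c χ X * c χ Y + c χ B * c χ X * c χ Y) with hF
  have hrow : ∀ χ ∈ S, -(((9 * P χ ^ 2 : ℤ) : ℚ) / 10) ≤ (F χ : ℚ) / (c χ 0 : ℚ) := by
    intro χ hχ
    have hb : ∀ u : V2, u ≠ 0 → -2 ≤ c χ u ∧ c χ u ≤ 2 := fun u hu => sq_le_eight (by
      refine (Finset.single_le_sum (fun ψ _ => mul_self_nonneg (c ψ u)) hχ).trans_eq ?_
      rw [hin u u hu hu, if_pos ⟨hu, Or.inl rfl⟩]; norm_num)
    have hsum : ∑ u, c χ u = c χ 0 + 2 * P χ := by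
      rw [sum_V2, show ((0 : ZMod 3), (0 : ZMod 3)) = (0 : V2) from rfl,
        ← hR χ A (2, 0) (by decide) (by decide), ← hR χ B (0, 2) (by decide) (by decide),
        ← hR χ X (2, 2) (by decide) (by decide), ← hR χ Y (2, 1) (by decide) (by decide)]
      simp only [P]; ring
    have e3 := (Finset.single_le_sum (fun ψ _ => sq_nonneg (P ψ)) hχ).trans_eq hP2
    have hrow := row_two (c χ A) (c χ B) (c χ X) (c χ Y) (c χ 0) (hb A (by decide)) (hb B (by decide))
      (hb X (by decide)) (hb Y (by decide)) (by have := h3 χ A; have := h3 χ B; omega)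
      (by have := h3 χ A; have := h3 χ X; omega) (by have := h3 χ A; have := h3 χ Y; omega)
      (hsum ▸ h9 χ) e3 (hd χ)
    have hq : (0 : ℚ) < (c χ 0 : ℚ) := by exact_mod_cast hd χ
    rw [← neg_div, div_le_div_iff₀ (by norm_num) hq]
    have : (0 : ℚ) ≤ ((10 * F χ + 9 * P χ ^ 2 * c χ 0 : ℤ) : ℚ) := Int.cast_nonneg hrow
    push_cast at this ⊢
    linarith
  have hbound := Finset.sum_le_sum hrow
  have hk0 : ∀ u w : V2, u ≠ 0 → w ≠ 0 → ¬ RTwo u w →
      Fintype.card {z : V2 // RTwo u z ∧ RTwo u (w - z)} = 0 := by decide +kernel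
  have hk1 : ∀ u w z : V2, u ≠ 0 → w ≠ 0 → z ≠ 0 → ¬ RTwo u w → ¬ RTwo u z → ¬ RTwo w z →
      Fintype.card {t : V2 // RTwo u t ∧ RTwo w (z - t)} = 1 := by decide +kernel
  have hexc : ∀ u w : V2, u ≠ 0 → w ≠ 0 → ¬ RTwo u w → ¬ RTwo w (u + u) := by decide +kernel
  have f0 : ∀ u w : V2, u ≠ 0 → w ≠ 0 → ¬ RTwo u w →
      (Nat.card G : ℚ) * ∑ χ, ((c χ u * c χ u * c χ w : ℤ) : ℚ) / (c χ 0 : ℚ) = 0 := by
    intro u w hu hw hne
    rw [← hform u u w hu hu hw (fun hh => hexc u w hu hw hne hh.2), hk0 u w hu hw hne]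
    simp
  have f1 : ∀ u w z : V2, u ≠ 0 → w ≠ 0 → z ≠ 0 → ¬ RTwo u w → ¬ RTwo u z → ¬ RTwo w z →
      (Nat.card G : ℚ) * ∑ χ, ((c χ u * c χ w * c χ z : ℤ) : ℚ) / (c χ 0 : ℚ) = 81 := by
    intro u w z hu hw hz h1 h2 h4
    rw [← hform u w z hu hw hz (fun hh => h1 hh.1), hk1 u w z hu hw hz h1 h2 h4]
    norm_num
  have htot : (Nat.card G : ℚ) * ∑ χ, (F χ : ℚ) / (c χ 0 : ℚ) = 3888 := by
    simp only [F, Int.cast_add, Int.cast_mul, Int.cast_ofNat, add_div, mul_div_assoc, Finset.sum_add_distrib,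
      mul_add, ← Finset.mul_sum]
    have g0 := fun u w a b d => f0 u w a b d
    have g1 := fun u w z a b d i j k => f1 u w z a b d i j k
    simp only [Int.cast_mul, mul_div_assoc] at g0 g1
    have s1 := g0 A B (by decide) (by decide) (by decide)
    have s2 := g0 A X (by decide) (by decide) (by decide)
    have s3 := g0 A Y (by decide) (by decide) (by decide)
    have s4 := g0 B A (by decide) (by decide) (by decide)
    have s5 := g0 B X (by decide) (by decide) (by decide)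
    have s6 := g0 B Y (by decide) (by decide) (by decide)
    have s7 := g0 X A (by decide) (by decide) (by decide)
    have s8 := g0 X B (by decide) (by decide) (by decide)
    have s9 := g0 X Y (by decide) (by decide) (by decide)
    have s10 := g0 Y A (by decide) (by decide) (by decide)
    have s11 := g0 Y B (by decide) (by decide) (by decide)
    have s12 := g0 Y X (by decide) (by decide) (by decide)
    have t1 := g1 A B X (by decide) (by decide) (by decide) (by decide) (by decide) (by decide)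
    have t2 := g1 A B Y (by decide) (by decide) (by decide) (by decide) (by decide) (by decide)
    have t3 := g1 A X Y (by decide) (by decide) (by decide) (by decide) (by decide) (by decide)
    have t4 := g1 B X Y (by decide) (by decide) (by decide) (by decide) (by decide) (by decide)
    linear_combination (norm := ring_nf) 5 * (s1 + s2 + s3 + s4 + s5 + s6 + s7 + s8 + s9 + s10 + s11 + s12) +
      12 * (t1 + t2 + t3 + t4)
  rw [← Finset.add_sum_erase _ _ (Finset.mem_univ one)] at htot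
  rw [Finset.sum_neg_distrib, ← Finset.sum_div, ← Int.cast_sum, ← Finset.mul_sum, hP2] at hbound
  have hone : (F one : ℚ) / (c one 0 : ℚ) = 108 := by simp [F, one, hc1]
  rw [hone] at htot
  norm_num [-Nat.card_eq_fintype_card, -Finset.sum_erase_eq_sub] at htot hbound
  have hG : (0 : ℚ) ≤ (Nat.card G : ℚ) := Nat.cast_nonneg _
  have : (Nat.card G : ℚ) < 44 := by nlinarith
  have : Nat.card G < 44 := by exact_mod_cast this
  omega

end Cfsg.Agent.H29.NineCharBound
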