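import Mathlib
import Cfsg.Agent.H24.PGroupBasic
import Cfsg.Agent.H6.GroupLemmas

/-!
# `p`-groups all of whose abelian normal subgroups are cyclic
-/

set_option autoImplicit false

namespace Cfsg.Agent.H29

open Subgroup

variable {P : Type*} [Group P]

/-- Powers of a product when the conjugation commutator commutes with both factors. -/
theorem mul_pow_of_swap {b y u : P} (hs : y * b = u * (b * y)) (hub : u * b = b * u)
    (huy : u * y = y * u) (n : ℕ) : (b * y) ^ n = b ^ n * y ^ n * u ^ (n.choose 2) := by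
  have hub' : Commute u b := hub
  have huy' : Commute u y := huy
  have hyn : ∀ m : ℕ, y ^ m * b = u ^ m * (b * y ^ m) := by
    intro m
    induction m with
    | zero => simp
    | succ m ih =>
      rw [pow_succ', mul_assoc, ih, ← mul_assoc, ← (huy'.pow_left m).eq, mul_assoc,
        ← mul_assoc y b, hs]
      simp only [pow_succ, mul_assoc]
  induction n with
  | zero => simp
  | succ n ih =>
    have e1 : u ^ (n.choose 2) * (b * y) = (b * y) * u ^ (n.choose 2) :=
      ((hub'.mul_right huy').pow_left _).eq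
    have e2 : y ^ n * (b * y) = b * (y ^ (n + 1) * u ^ n) := by
      rw [← mul_assoc, hyn n, mul_assoc, mul_assoc, ← pow_succ]
      rw [(((hub'.pow_left n).mul_right ((huy'.pow_left n).pow_right (n + 1)))).eq, mul_assoc]
    have e3 : (n + 1).choose 2 = n + n.choose 2 := by
      rw [Nat.choose_succ_succ', Nat.choose_one_right]
    calc (b * y) ^ (n + 1) = b ^ n * y ^ n * (u ^ (n.choose 2) * (b * y)) := by
          rw [pow_succ, ih]; simp only [mul_assoc]
      _ = b ^ n * (y ^ n * (b * y)) * u ^ (n.choose 2) := by rw [e1]; simp only [mul_assoc]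
      _ = b ^ (n + 1) * y ^ (n + 1) * u ^ ((n + 1).choose 2) := by
          rw [e2, e3, pow_succ b n]; simp only [mul_assoc, ← pow_add]

/-- An element of a cyclic group killed by `n` is a power with exponent divisible by the
complementary divisor. -/
theorem dvd_mul_of_zpow_pow_eq_one {g : P} {j : ℤ} {n : ℕ} (h : (g ^ j) ^ n = 1) :
    (orderOf g : ℤ) ∣ j * n := by
  rw [← zpow_natCast, ← zpow_mul] at h
  exact orderOf_dvd_iff_zpow_eq_one.mpr h

section Main

variable [Finite P] {p : ℕ} [hp : Fact p.Prime] {g : P} {a : ℕ}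

/-- If all abelian normal subgroups of `P` are cyclic, `A = ⟨g⟩` is self-centralising with
`P / A` abelian, then no element outside `A` with `p`-th power in `A` acts on `A` by an
automorphism trivial on `A / Ω₁(A)`, unless `p = 2` and `|A| ≤ 4`. -/
theorem no_small_action (hn : ∀ B : Subgroup P, B.Normal → IsMulCommutative B → IsCyclic B)
    (hga : orderOf g = p ^ a) (hC : centralizer (zpowers g : Set P) = zpowers g)
    (hab : commutator P ≤ zpowers g) {x : P} (hx : x ∉ zpowers g) (hxp : x ^ p ∈ zpowers g)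
    {e : ℤ} (he : x * g * x⁻¹ = g ^ (1 + e)) (hep : (g ^ e) ^ p = 1)
    (hbig : p ≠ 2 ∨ 3 ≤ a) : False := by
  have hp2 := hp.out.two_le
  have horde : ((p : ℤ) ^ a) ∣ e * p := by
    have := dvd_mul_of_zpow_pow_eq_one hep
    rw [hga] at this
    exact_mod_cast this
  have hz : ∀ k : ℤ, g ^ k = 1 ↔ ((p : ℤ) ^ a) ∣ k := by
    intro k
    rw [← orderOf_dvd_iff_zpow_eq_one, hga]
    norm_num
  -- conjugation by `x` on powers of `g`
  have hconj : ∀ j : ℤ, x * g ^ j * x⁻¹ = g ^ ((1 + e) * j) := fun j => by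
    rw [zpow_mul, ← he, conj_zpow]
  have hune : g ^ e ≠ 1 := by
    intro h
    apply hx
    have hxC : x ∈ centralizer (zpowers g : Set P) := by
      rw [mem_centralizer_iff]
      rintro _ ⟨j, rfl⟩
      have h2 := hconj j
      rw [zpow_mul, zpow_add, h, mul_one, zpow_one, mul_inv_eq_iff_eq_mul] at h2
      exact h2.symm
    rwa [hC] at hxC
  have ha1 : 2 ≤ a := by
    by_contra hlt
    push Not at hlt
    interval_cases a
    · simp only [pow_zero, orderOf_eq_one_iff] at hga
      subst hga
      simp at hune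
    · rcases hbig with h | h
      · -- `|A| = p`: the automorphism group has order prime to `p`
        apply hune
        rw [hz, pow_one]
        have hxpA := hxp
        obtain ⟨m, hm⟩ := hxp
        have hk : ∀ k : ℕ, x ^ k * g * (x ^ k)⁻¹ = g ^ ((1 + e) ^ k) := by
          intro k
          induction k with
          | zero => simp
          | succ k ih =>
            rw [pow_succ' (1 + e), zpow_mul, ← he, conj_zpow, ← ih, pow_succ' x]
            group
        have h1 := hk p
        simp only at hm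
        rw [← hm, mul_inv_eq_iff_eq_mul.mpr ((Commute.refl g).zpow_left m).eq] at h1
        have h2 : g ^ ((1 + e) ^ p - 1) = 1 := by
          rw [zpow_sub, ← h1, zpow_one, mul_inv_cancel]
        rw [hz, pow_one] at h2
        have h3 : ((1 + e) ^ p - 1) ≡ e [ZMOD (p : ℤ)] := by
          rw [← ZMod.intCast_eq_intCast_iff]
          push_cast
          rw [ZMod.pow_card]
          ring
        exact Int.modEq_zero_iff_dvd.mp (h3.symm.trans (Int.modEq_zero_iff_dvd.mpr h2))
      · omega
  -- hence `p ^ (a - 1) ∣ e`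
  have hpa : ((p : ℤ) ^ a) = p * p ^ (a - 1) := by
    rw [← pow_succ']; congr 1; omega
  obtain ⟨k, hk⟩ : ((p : ℤ) ^ (a - 1)) ∣ e := by
    rw [hpa, mul_comm e] at horde
    exact Int.dvd_of_mul_dvd_mul_left (by exact_mod_cast hp.out.ne_zero) horde
  have hee : ((p : ℤ) ^ a) ∣ e * e := by
    rw [hk]
    have : a ≤ (a - 1) + (a - 1) := by omega
    obtain ⟨c, hc⟩ := Nat.exists_eq_add_of_le this
    refine ⟨(p : ℤ) ^ c * k * k, ?_⟩
    have e2 : (p : ℤ) ^ (a - 1) * (p : ℤ) ^ (a - 1) = (p : ℤ) ^ a * (p : ℤ) ^ c := by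
      rw [← pow_add, hc, pow_add]
    calc (p : ℤ) ^ (a - 1) * k * ((p : ℤ) ^ (a - 1) * k)
        = (p : ℤ) ^ (a - 1) * (p : ℤ) ^ (a - 1) * (k * k) := by ring
      _ = _ := by rw [e2]; ring
  have hu_x : g ^ e * x = x * g ^ e := by
    have h := hconj e
    rw [add_mul, one_mul, zpow_add, (hz _).mpr hee, mul_one, mul_inv_eq_iff_eq_mul] at h
    exact h.symm
  -- the `p`-th power of `x * g ^ j`
  have hpow : ∀ j : ℤ, (g ^ j * x) ^ p =
      g ^ (j * p + e * j * (p.choose 2 : ℤ)) * x ^ p := by
    intro j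
    have hs : x * g ^ j = g ^ (e * j) * (g ^ j * x) := by
      rw [← mul_assoc, ← zpow_add]
      have h := hconj j
      rw [mul_inv_eq_iff_eq_mul] at h
      rw [h]
      congr 2
      ring
    have hub : g ^ (e * j) * g ^ j = g ^ j * g ^ (e * j) := (Commute.zpow_zpow_self g _ _).eq
    have huy : g ^ (e * j) * x = x * g ^ (e * j) := by
      rw [zpow_mul]
      exact (Commute.zpow_left hu_x j).eq
    rw [mul_pow_of_swap hs hub huy]
    obtain ⟨m, hm⟩ := hxp
    simp only at hm
    rw [← hm, ← zpow_natCast (g ^ j), ← zpow_mul, ← zpow_natCast (g ^ (e * j)), ← zpow_mul,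
      ← zpow_add, ← zpow_add, ← zpow_add]
    congr 1
    ring
  -- a unit factor
  obtain ⟨w, hw, hwu⟩ : ∃ w : ℤ, (∀ j : ℤ, ((p : ℤ) ^ a) ∣
      (j * p + e * j * (p.choose 2 : ℤ) - p * w * j)) ∧ IsCoprime w ((p : ℤ) ^ (a - 1)) := by
    by_cases hp' : p = 2
    · subst hp'
      have ha3 : 3 ≤ a := hbig.resolve_left (by simp)
      refine ⟨1 + 2 ^ (a - 2) * k, fun j => ?_, ?_⟩
      · refine ⟨0, ?_⟩
        rw [hk]
        have e2 : ((2 : ℕ) : ℤ) ^ (a - 1) = 2 * 2 ^ (a - 2) := by
          rw [← pow_succ']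
          push_cast
          congr 1
          omega
        rw [e2, show Nat.choose 2 2 = 1 from rfl]
        push_cast
        ring
      · apply IsCoprime.pow_right
        obtain ⟨c, hc⟩ : ∃ c, a - 2 = c + 1 := ⟨a - 3, by omega⟩
        rw [hc, pow_succ]
        exact ⟨1, -(2 ^ c * k), by push_cast; ring⟩
    · refine ⟨1, fun j => ?_, isCoprime_one_left⟩
      have hdv : p ∣ p.choose 2 :=
        hp.out.dvd_choose_self (by norm_num) (by omega)
      obtain ⟨c, hc⟩ := hdv
      rw [hc, hk]
      refine ⟨k * j * c, ?_⟩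
      rw [hpa]
      push_cast
      ring
  obtain ⟨m, hm⟩ := hxp
  simp only at hm
  -- `x` commutes with `x ^ p = g ^ m`, so `p ∣ m`
  obtain ⟨m', hm'⟩ : (p : ℤ) ∣ m := by
    have h := hconj m
    rw [hm, mul_inv_eq_iff_eq_mul.mpr ((Commute.refl x).pow_right p).eq, ← hm, add_mul,
      one_mul, zpow_add, left_eq_mul, hz, hk, hpa, mul_comm ((p : ℤ)) _, mul_assoc] at h
    have h' := Int.dvd_of_mul_dvd_mul_left (pow_ne_zero _ (by exact_mod_cast hp.out.ne_zero)) h
    rcases (Int.prime_iff_natAbs_prime.mpr (by simpa using hp.out)).dvd_or_dvd h' with hk' | hm'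
    · exfalso
      apply hune
      rw [hz, hk, hpa, mul_comm (p : ℤ)]
      exact mul_dvd_mul_left _ hk'
    · exact hm'
  obtain ⟨u, v, huv⟩ := hwu
  -- an element of order `p` outside `A`
  set j₀ : ℤ := -m' * u
  set y : P := g ^ j₀ * x with hy
  have hy1 : y ^ p = 1 := by
    rw [hy, hpow, ← hm, ← zpow_add, hz]
    obtain ⟨d, hd⟩ := hw j₀
    refine ⟨d + m' * v, ?_⟩
    have e1 : j₀ * p + e * j₀ * (p.choose 2 : ℤ) = p ^ a * d + p * w * j₀ := by linarith
    rw [e1, hm', hpa]
    linear_combination (-(p : ℤ) * m') * huv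
  have hyA : y ∉ zpowers g := fun h => hx (by
    have := mul_mem (inv_mem (zpow_mem (mem_zpowers g) j₀)) h
    simpa [hy] using this)
  -- the set of elements of order dividing `p` in `⟨g⟩⟨x⟩`
  set c : P := g ^ ((p : ℤ) ^ (a - 1)) with hc
  have hc1 : c ≠ 1 := by
    rw [hc, Ne, hz]
    intro h
    have h1 : (p : ℤ) ^ (a - 1) < (p : ℤ) ^ a :=
      pow_lt_pow_right₀ (by exact_mod_cast hp.out.one_lt) (by omega)
    have := Int.le_of_dvd (by positivity) h
    omega
  have hcx : c * x = x * c := by
    have h := hconj ((p : ℤ) ^ (a - 1))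
    rw [add_mul, one_mul, zpow_add, ← hc] at h
    have h0 : g ^ (e * (p : ℤ) ^ (a - 1)) = 1 := by
      rw [hz, hk]
      exact dvd_trans (pow_dvd_pow (p : ℤ) (by omega : a ≤ (a - 1) + (a - 1)))
        ⟨k, by rw [pow_add]; ring⟩
    rw [h0, mul_one, mul_inv_eq_iff_eq_mul] at h
    exact h.symm
  have hcy : Commute c y := (Commute.zpow_zpow_self g _ _).mul_right hcx
  let N : Subgroup P := zpowers c ⊔ zpowers y
  have hNc : IsMulCommutative N := by
    apply H24.isMulCommutative_sup_zpowers inferInstance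
    rw [mem_centralizer_iff]
    rintro _ ⟨i, rfl⟩
    exact (hcy.zpow_left i).eq
  have hcp : c ^ p = 1 := by
    rw [hc, ← zpow_natCast, ← zpow_mul, hz, hpa, mul_comm]
  have hNn : N.Normal := by
    rw [← normalizer_eq_top_iff, eq_top_iff]
    intro h _
    have hcN : c ∈ N := mem_sup_left (mem_zpowers c)
    have hyN : y ∈ N := mem_sup_right (mem_zpowers y)
    have key : ∀ h : P, h * c * h⁻¹ ∈ N ∧ h * y * h⁻¹ ∈ N := by
      intro h
      constructor
      · have hA : (zpowers g).Normal := ⟨fun n hn k => by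
          have h1 : k * n * k⁻¹ * n⁻¹ ∈ zpowers g := by
            apply hab
            rw [_root_.commutator_def]
            exact commutator_mem_commutator (mem_top k) (mem_top n)
          simpa using mul_mem h1 hn⟩
        obtain ⟨i, hi⟩ := hA.conj_mem g (mem_zpowers g) h
        simp only at hi
        rw [hc, ← conj_zpow, ← hi, ← zpow_mul, mul_comm, zpow_mul, ← hc]
        exact zpow_mem hcN i
      · have hmem : h * y * h⁻¹ * y⁻¹ ∈ zpowers g := by
          apply hab
          rw [_root_.commutator_def]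
          exact commutator_mem_commutator (mem_top h) (mem_top y)
        obtain ⟨i, hi⟩ := hmem
        simp only at hi
        have e1 : h * y * h⁻¹ = g ^ (i + j₀) * x := by
          calc h * y * h⁻¹ = (h * y * h⁻¹ * y⁻¹) * y := by group
            _ = g ^ (i + j₀) * x := by rw [← hi, hy, zpow_add, mul_assoc]
        have e2 : (g ^ (i + j₀) * x) ^ p = 1 := by
          rw [← e1, conj_pow, hy1]; simp
        rw [hpow, ← hm, ← zpow_add, hz] at e2
        have e3 := hy1
        rw [hy, hpow, ← hm, ← zpow_add, hz] at e3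
        obtain ⟨d, hd⟩ := hw i
        have e4 : ((p : ℤ) ^ a) ∣ p * w * i := by
          have e6 : (p : ℤ) * w * i = (i + j₀) * p + e * (i + j₀) * (p.choose 2 : ℤ) + m
              - (j₀ * p + e * j₀ * (p.choose 2 : ℤ) + m)
              - (i * p + e * i * (p.choose 2 : ℤ) - p * w * i) := by ring
          rw [e6]
          exact dvd_sub (dvd_sub e2 e3) (hw i)
        rw [hpa, mul_assoc] at e4
        have e5 := Int.dvd_of_mul_dvd_mul_left (by exact_mod_cast hp.out.ne_zero) e4
        obtain ⟨q, hq⟩ := (IsCoprime.symm ⟨u, v, huv⟩).dvd_of_dvd_mul_left e5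
        rw [e1, zpow_add, hq, zpow_mul, ← hc, mul_assoc, ← hy]
        exact mul_mem (zpow_mem hcN q) hyN
    have hle : ∀ h : P, ∀ n ∈ N, h * n * h⁻¹ ∈ N := by
      intro h n hn
      have : N.map (MulAut.conj h).toMonoidHom ≤ N := by
        rw [Subgroup.map_sup, MonoidHom.map_zpowers, MonoidHom.map_zpowers]
        exact sup_le ((zpowers_le).mpr (key h).1) ((zpowers_le).mpr (key h).2)
      exact this ⟨n, hn, rfl⟩
    exact mem_normalizer_iff.mpr fun n =>
      ⟨hle h n, fun hn => by simpa [mul_assoc] using hle h⁻¹ _ hn⟩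
  have hcyc : IsCyclic N := hn N hNn hNc
  -- in a cyclic group at most `p` elements have `p`-th power one
  obtain ⟨i, hi⟩ : ∃ i : ℤ, c ^ i = y := by
    let : Fintype N := Fintype.ofFinite _
    classical
    let S : Finset N := (Finset.univ : Finset N).filter (fun w => w ^ p = 1)
    have hS : S.card ≤ p := IsCyclic.card_pow_eq_one_le hp.out.pos
    let C : Subgroup N := zpowers ⟨c, mem_sup_left (mem_zpowers c)⟩
    have hCcard : Nat.card C = p := by
      rw [Nat.card_zpowers, Subgroup.orderOf_mk]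
      exact orderOf_eq_prime hcp hc1
    have hsub : (C : Set N).toFinset ⊆ S := by
      intro w hw
      obtain ⟨i, rfl⟩ := Set.mem_toFinset.mp hw
      refine Finset.mem_filter.mpr ⟨Finset.mem_univ _, Subtype.ext ?_⟩
      push_cast
      rw [← zpow_natCast, ← zpow_mul, mul_comm, zpow_mul, zpow_natCast, hcp, one_zpow]
    have hCS : (C : Set N).toFinset = S := Finset.eq_of_subset_of_card_le hsub (by
      rw [Set.toFinset_card, ← Nat.card_eq_fintype_card]
      exact hS.trans hCcard.ge)
    have hyS : (⟨y, mem_sup_right (mem_zpowers y)⟩ : N) ∈ S :=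
      Finset.mem_filter.mpr ⟨Finset.mem_univ _, Subtype.ext hy1⟩
    rw [← hCS, Set.mem_toFinset] at hyS
    obtain ⟨i, hi⟩ := hyS
    exact ⟨i, congrArg Subtype.val hi⟩
  exact hyA (hi ▸ zpow_mem (zpow_mem (mem_zpowers g) _) i)

end Main

end Cfsg.Agent.H29
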