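import Cfsg.Agent.S5186
import Cfsg.Agent.H24.ExtraspecialIso

/-!
# Groups of order `p⁴` without a characteristic chain of subgroups of orders `p`, `p²`, `p³`
-/

set_option autoImplicit false

namespace Cfsg.Agent.H29.OrderPFour

open Cfsg Subgroup
open scoped commutatorElement

variable {G : Type*} [Group G] [Finite G] {p : ℕ} [Fact p.Prime]

/-- `G` has no chain of invariant subgroups of orders `p`, `p²`, `p³`. -/
def NoChain (G : Type*) [Group G] (p : ℕ) : Prop :=
  ∀ A B C : Subgroup G, Nat.card A = p → Nat.card B = p ^ 2 → Nat.card C = p ^ 3 → A ≤ B → B ≤ C →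
    (∀ α : MulAut G, (∀ x ∈ A, α x ∈ A) ∧ (∀ x ∈ B, α x ∈ B) ∧ ∀ x ∈ C, α x ∈ C) → False

theorem center_inv (α : MulAut G) {x : G} (hx : x ∈ center G) : α x ∈ center G :=
  Subgroup.mem_center_iff.2 fun y => by
    obtain ⟨y, rfl⟩ := α.surjective y
    rw [← map_mul, Subgroup.mem_center_iff.1 hx, map_mul]

theorem commutator_inv (α : MulAut G) {x : G} (hx : x ∈ commutator G) : α x ∈ commutator G := by
  have h := Subgroup.mem_map_of_mem α.toMonoidHom hx
  rw [commutator_def, Subgroup.map_commutator] at h
  exact Subgroup.commutator_mono le_top le_top h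

omit [Finite G] in
theorem comm_hom (hle : commutator G ≤ center G) (w : G) :
    ∃ f : G →* G, ∀ x, f x = ⁅x, w⁆ := by
  refine ⟨MonoidHom.mk' (fun x => ⁅x, w⁆) fun x y => ?_, fun x => rfl⟩
  have hy : ⁅y, w⁆ ∈ center G := hle (commutator_mem_commutator (mem_top y) (mem_top w))
  have h1 := Subgroup.mem_center_iff.1 hy x
  have h2 := Subgroup.mem_center_iff.1 hy ⁅x, w⁆
  calc ⁅x * y, w⁆ = x * ⁅y, w⁆ * x⁻¹ * ⁅x, w⁆ := by simp only [commutatorElement_def]; group
    _ = _ := by rw [h1, mul_inv_cancel_right]; exact h2.symm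

/-- The shape of a non-abelian group of order `p⁴` without chain: the centre has order `p²`. -/
theorem card_center (hG : Nat.card G = p ^ 4) (hna : ¬ IsMulCommutative G) (hno : NoChain G p) :
    Nat.card (center G) = p ^ 2 := by
  have hp : p.Prime := Fact.out
  have hP : IsPGroup p G := IsPGroup.of_card hG
  have hnt : Nontrivial G := by
    rw [← Finite.one_lt_card_iff_nontrivial, hG]; exact Nat.one_lt_pow (by omega) hp.one_lt
  obtain ⟨i, hi4, hi⟩ := (Nat.dvd_prime_pow hp).1 (hG ▸ card_subgroup_dvd_card (center G))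
  have hi0 : i ≠ 0 := fun h => by
    have := hP.center_nontrivial
    rw [h, pow_zero] at hi
    exact absurd hi (Finite.one_lt_card_iff_nontrivial.2 this).ne'
  have hmul := (center G).card_mul_index
  rw [hi, hG] at hmul
  have hidx : (center G).index = p ^ (4 - i) := by
    refine Nat.eq_of_mul_eq_mul_left (pow_pos hp.pos i) (hmul.trans ?_)
    rw [← pow_add]; congr 1; omega
  rcases (show i = 1 ∨ i = 2 ∨ i = 3 ∨ i = 4 by omega) with rfl | rfl | rfl | rfl
  · exfalso
    rw [pow_one] at hi
    set q := QuotientGroup.mk' (center G) with hq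
    have hQ : Nat.card (G ⧸ center G) = p ^ 3 := hidx
    have hQna : ¬ IsMulCommutative (G ⧸ center G) := by
      intro hc
      have hle : ∀ a b : G, ⁅a, b⁆ ∈ center G := fun a b => by
        rw [← QuotientGroup.eq_one_iff, ← QuotientGroup.mk'_apply, map_commutatorElement,
          commutatorElement_eq_one_iff_mul_comm]
        exact hc.is_comm.comm _ _
      have hder : commutator G ≤ center G := by
        rw [commutator_def, commutator_le]
        exact fun a _ b _ => hle a b
      have hpow : ∀ x : G, x ^ p ∈ center G := by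
        intro x
        refine Subgroup.mem_center_iff.2 fun y => ?_
        obtain ⟨f, hf⟩ := comm_hom hder y
        have h1 : ⁅x ^ p, y⁆ = 1 := by
          rw [← hf, map_pow, hf]
          have := congrArg Subtype.val (pow_card_eq_one' (x := (⟨_, hle x y⟩ : center G)))
          rw [hi] at this
          exact this
        exact (commutatorElement_eq_one_iff_mul_comm.1 h1).symm
      obtain ⟨n, hn, hn'⟩ := Agent.H24.espec_card (Agent.H24.isExtraspecial_of hP hi
        (fun h => hna ⟨⟨fun a b => Subgroup.mem_center_iff.1 (h ▸ mem_top b) a⟩⟩) hle hpow)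
      rw [hG] at hn'
      have := Nat.pow_right_injective hp.two_le hn'
      omega
    obtain ⟨hZ2, -⟩ := S5186.center_data hQ hQna
    set Z2 := (center (G ⧸ center G)).comap q with hZ2d
    have hle : center G ≤ Z2 := fun x hx => by
      show q x ∈ center (G ⧸ center G)
      rw [show q x = 1 from (QuotientGroup.eq_one_iff x).2 hx]
      exact one_mem _
    have hZ2c : Nat.card Z2 = p ^ 2 := by
      have h1 := Z2.card_mul_index
      have h2 : Z2.index = (center (G ⧸ center G)).index :=
        Subgroup.index_comap_of_surjective _ (QuotientGroup.mk'_surjective _)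
      have h3 := (center (G ⧸ center G)).card_mul_index
      rw [hZ2, hQ, pow_succ' p 2] at h3
      rw [h2, Nat.eq_of_mul_eq_mul_left hp.pos h3, hG, show p ^ 4 = p ^ 2 * p ^ 2 by ring] at h1
      exact Nat.eq_of_mul_eq_mul_right (pow_pos hp.pos 2) h1
    obtain ⟨w, hw, hwZ⟩ : ∃ w ∈ Z2, w ∉ center G := by
      refine SetLike.exists_of_lt (lt_of_le_of_ne hle fun h => ?_)
      rw [← h, hi] at hZ2c
      have := Nat.pow_right_injective hp.two_le (a₁ := 1) (a₂ := 2) (by simpa using hZ2c)
      omega
    have hval : ∀ x : G, ∀ v ∈ Z2, ⁅x, v⁆ ∈ center G := fun x v hv => by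
      rw [← QuotientGroup.eq_one_iff, ← QuotientGroup.mk'_apply, map_commutatorElement,
        commutatorElement_eq_one_iff_mul_comm]
      exact Subgroup.mem_center_iff.1 hv _
    let f : G →* G := MonoidHom.mk' (fun x => ⁅x, w⁆) fun x y => by
      have h1 := Subgroup.mem_center_iff.1 (hval y w hw) x
      have h2 := Subgroup.mem_center_iff.1 (hval y w hw) ⁅x, w⁆
      calc ⁅x * y, w⁆ = x * ⁅y, w⁆ * x⁻¹ * ⁅x, w⁆ := by simp only [commutatorElement_def]; group
        _ = _ := by rw [h1, mul_inv_cancel_right]; exact h2.symm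
    set C := centralizer (Z2 : Set G) with hC
    have hgen : Z2 = center G ⊔ zpowers w := by
      refine (Subgroup.eq_of_le_of_card_ge (sup_le hle (zpowers_le.2 hw)) ?_).symm
      have h := Agent.H24.le_relIndex_of_lt hP (H := center G) (K := center G ⊔ zpowers w)
        fun h => hwZ (h (mem_sup_right (mem_zpowers w)))
      have h' := Subgroup.relIndex_mul_relIndex ⊥ (center G) (center G ⊔ zpowers w) bot_le le_sup_left
      rw [Subgroup.relIndex_bot_left, Subgroup.relIndex_bot_left, hi] at h'
      rw [hZ2c, ← h', sq]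
      exact Nat.mul_le_mul_left p h
    have hCker : C = f.ker := by
      refine le_antisymm (fun x hx => ?_) fun x hx => ?_
      · show ⁅x, w⁆ = 1
        rw [commutatorElement_eq_one_iff_mul_comm]
        exact (Subgroup.mem_centralizer_iff.1 hx w hw).symm
      · refine Subgroup.mem_centralizer_iff.2 fun v hv => ?_
        have : center G ⊔ zpowers w ≤ centralizer ({x} : Set G) := sup_le
          (fun z hz => mem_centralizer_singleton_iff.2 (Subgroup.mem_center_iff.1 hz x).symm)
          (zpowers_le.2 (mem_centralizer_singleton_iff.2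
            (commutatorElement_eq_one_iff_mul_comm.1 (show ⁅x, w⁆ = 1 from hx)).symm))
        exact mem_centralizer_singleton_iff.1 (this (hgen ▸ hv))
    have hCidx : C.index = p := by
      rw [hCker, Subgroup.index_ker]
      have hr : f.range ≤ center G := by rintro _ ⟨x, rfl⟩; exact hval x w hw
      rcases (Nat.dvd_prime hp).1 (hi ▸ Subgroup.card_dvd_of_le hr) with h | h
      · exfalso
        rw [Subgroup.card_eq_one] at h
        apply hwZ
        refine Subgroup.mem_center_iff.2 fun y => commutatorElement_eq_one_iff_mul_comm.1 ?_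
        exact Subgroup.mem_bot.1 (h ▸ (⟨y, rfl⟩ : f y ∈ f.range))
      · exact h
    have hCc : Nat.card C = p ^ 3 := by
      have h := C.card_mul_index
      rw [hCidx, hG, pow_succ p 3] at h
      exact Nat.eq_of_mul_eq_mul_right hp.pos h
    have hZ2C : Z2 ≤ C := fun v hv => by
      refine Subgroup.mem_centralizer_iff.2 fun u hu => ?_
      have : center G ⊔ zpowers w ≤ centralizer ({v} : Set G) := sup_le
        (fun z hz => mem_centralizer_singleton_iff.2 (Subgroup.mem_center_iff.1 hz v).symm)
        (zpowers_le.2 (mem_centralizer_singleton_iff.2 ?_))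
      · exact mem_centralizer_singleton_iff.1 (this (hgen ▸ hu))
      · have h : Z2 ≤ centralizer ({w} : Set G) := hgen.trans_le (sup_le
          (fun z hz => mem_centralizer_singleton_iff.2 (Subgroup.mem_center_iff.1 hz w).symm)
          (zpowers_le.2 (mem_centralizer_singleton_iff.2 rfl)))
        exact (mem_centralizer_singleton_iff.1 (h hv)).symm
    have hZ2i : ∀ α : MulAut G, ∀ x ∈ Z2, α x ∈ Z2 := fun α x hx => by
      refine Subgroup.mem_center_iff.2 fun y => ?_
      obtain ⟨y, rfl⟩ := QuotientGroup.mk'_surjective _ y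
      obtain ⟨y, rfl⟩ := α.surjective y
      rw [← map_mul, ← map_mul, ← map_mul q, ← map_mul α, QuotientGroup.mk'_apply, QuotientGroup.mk'_apply,
        QuotientGroup.eq_iff_div_mem, ← map_div]
      refine center_inv α ?_
      rw [← QuotientGroup.eq_iff_div_mem, ← QuotientGroup.mk'_apply, ← QuotientGroup.mk'_apply, map_mul,
        map_mul]
      exact Subgroup.mem_center_iff.1 (show q x ∈ center _ from hx) (q y)
    refine hno (center G) Z2 C hi hZ2c hCc hle hZ2C fun α => ⟨fun x hx => center_inv α hx, hZ2i α,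
      fun x hx => Subgroup.mem_centralizer_iff.2 fun v hv => ?_⟩
    obtain ⟨v, rfl⟩ := α.surjective v
    have hv' : v ∈ Z2 := by
      have := hZ2i α⁻¹ _ hv
      simpa using this
    rw [← map_mul, Subgroup.mem_centralizer_iff.1 hx v hv', map_mul]
  · exact hi
  · exfalso
    have : IsCyclic (G ⧸ center G) := isCyclic_of_prime_card (p := p) (by simpa [Subgroup.index] using hidx)
    exact hna (Agent.H24.isMulCommutative_of_cyclic_quotient le_rfl)
  · exfalso
    have : center G = ⊤ := Subgroup.eq_top_of_card_eq _ (by rw [hi, hG])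
    exact hna ⟨⟨fun a b => Subgroup.mem_center_iff.1 (this ▸ mem_top b) a⟩⟩

/-- The three possible shapes. -/
theorem cases (hG : Nat.card G = p ^ 4) (hna : ¬ IsMulCommutative G) (hno : NoChain G p) :
    (Odd p ∧ ∃ (E : Type) (_ : Group E) (_ : Finite E), Cfsg.IsExtraspecial p E ∧ Nat.card E = p ^ 3 ∧
        (∀ x : E, x ^ p = 1) ∧ Nonempty (G ≃* E × Multiplicative (ZMod p))) ∨
      (p = 2 ∧ Nonempty (G ≃* QuaternionGroup 2 × Multiplicative (ZMod 2))) ∨
      ((∀ x : G, x ^ (p ^ 2) = 1) ∧ IsCyclic (center G) ∧ Nat.card (center G) = p ^ 2) := by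
  have hp : p.Prime := Fact.out
  have hP : IsPGroup p G := IsPGroup.of_card hG
  have hZ := card_center hG hna hno
  have hZidx : (center G).index = p ^ 2 := by
    have h := (center G).card_mul_index
    rw [hZ, hG, show p ^ 4 = p ^ 2 * p ^ 2 by ring] at h
    exact Nat.eq_of_mul_eq_mul_left (pow_pos hp.pos 2) h
  have hQc : IsMulCommutative (G ⧸ center G) := IsPGroup.isMulCommutative_of_card_eq_prime_sq hZidx
  have hder : commutator G ≤ center G := by
    rw [commutator_def, commutator_le]
    intro a _ b _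
    rw [← QuotientGroup.eq_one_iff, ← QuotientGroup.mk'_apply, map_commutatorElement,
      commutatorElement_eq_one_iff_mul_comm]
    exact hQc.is_comm.comm _ _
  have hpZ : ∀ x : G, x ^ p ∈ center G := by
    intro x
    by_contra hx
    have ho : orderOf (QuotientGroup.mk' (center G) x) = Nat.card (G ⧸ center G) := by
      rw [← Subgroup.index_eq_card, hZidx]
      refine orderOf_eq_prime_pow (n := 1) ?_ ?_
      · rw [pow_one, ← map_pow, QuotientGroup.mk'_apply, QuotientGroup.eq_one_iff]
        exact hx
      · rw [← hZidx, Subgroup.index_eq_card, pow_card_eq_one']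
    have : IsCyclic (G ⧸ center G) := isCyclic_of_orderOf_eq_card _ ho
    exact hna (Agent.H24.isMulCommutative_of_cyclic_quotient le_rfl)
  -- generators
  obtain ⟨a, -, haZ⟩ := SetLike.exists_of_lt (lt_top_iff_ne_top.2 fun h : center G = ⊤ =>
    hna ⟨⟨fun a b => Subgroup.mem_center_iff.1 (h ▸ mem_top b) a⟩⟩)
  obtain ⟨b, hab⟩ : ∃ b : G, ⁅a, b⁆ ≠ 1 := by
    by_contra h
    push Not at h
    exact haZ (Subgroup.mem_center_iff.2 fun y => (commutatorElement_eq_one_iff_mul_comm.1 (h y)).symm)
  set c := ⁅a, b⁆ with hc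
  have hcD : c ∈ commutator G := commutator_mem_commutator (mem_top a) (mem_top b)
  have hcZ : c ∈ center G := hder hcD
  have hcp : c ^ p = 1 := by
    obtain ⟨f, hf⟩ := comm_hom hder b
    rw [hc, ← hf, ← map_pow, hf, commutatorElement_eq_one_iff_mul_comm]
    exact (Subgroup.mem_center_iff.1 (hpZ a) b).symm
  have hco : orderOf c = p := orderOf_eq_prime hcp hab
  have hgen : center G ⊔ zpowers a ⊔ zpowers b = ⊤ := by
    have hbn : b ∉ center G ⊔ zpowers a := by
      intro h
      have : center G ⊔ zpowers a ≤ centralizer ({a} : Set G) := sup_le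
        (fun z hz => mem_centralizer_singleton_iff.2 (Subgroup.mem_center_iff.1 hz a).symm)
        (zpowers_le.2 (mem_centralizer_singleton_iff.2 rfl))
      exact hab (commutatorElement_eq_one_iff_mul_comm.2 (mem_centralizer_singleton_iff.1 (this h)).symm)
    have e1 := Agent.H24.le_relIndex_of_lt hP (H := center G) (K := center G ⊔ zpowers a)
      fun h => haZ (h (mem_sup_right (mem_zpowers a)))
    have e2 := Agent.H24.le_relIndex_of_lt hP (H := center G ⊔ zpowers a) (K := center G ⊔ zpowers a ⊔ zpowers b)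
      fun h => hbn (h (mem_sup_right (mem_zpowers b)))
    have h12 := Subgroup.relIndex_mul_relIndex (center G) _ (center G ⊔ zpowers a ⊔ zpowers b)
      (le_sup_left : center G ≤ center G ⊔ zpowers a) le_sup_left
    have h3 := Subgroup.relIndex_mul_index (le_sup_left.trans le_sup_left :
      center G ≤ center G ⊔ zpowers a ⊔ zpowers b)
    rw [← Subgroup.index_eq_one]
    have hpos : 0 < (center G ⊔ zpowers a ⊔ zpowers b).index :=
      Nat.pos_of_ne_zero Subgroup.index_ne_zero_of_finite
    have h4 : p * p ≤ (center G).relIndex (center G ⊔ zpowers a ⊔ zpowers b) :=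
      h12 ▸ Nat.mul_le_mul e1 e2
    rw [hZidx, sq] at h3
    have h5 : p * p * (center G ⊔ zpowers a ⊔ zpowers b).index ≤ p * p * 1 := by
      rw [mul_one]
      exact (Nat.mul_le_mul_right _ h4).trans h3.le
    have := Nat.le_of_mul_le_mul_left h5 (Nat.mul_pos hp.pos hp.pos)
    omega
  have hC : (zpowers c).Normal := Agent.H24.normal_of_le_center (zpowers_le.2 hcZ)
  have hDc : commutator G = zpowers c := by
    refine le_antisymm ?_ (zpowers_le.2 hcD)
    set q := QuotientGroup.mk' (zpowers c) with hq
    have hqab : q a * q b = q b * q a := by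
      rw [← commutatorElement_eq_one_iff_mul_comm, ← map_commutatorElement]
      exact (QuotientGroup.eq_one_iff _).2 (mem_zpowers c)
    have hcen : ∀ z ∈ center G, ∀ y, q z * q y = q y * q z := fun z hz y => by
      rw [← map_mul, ← map_mul, Subgroup.mem_center_iff.1 hz y]
    have hqa : ∀ y, q a * q y = q y * q a := fun y => by
      have hle : center G ⊔ zpowers a ⊔ zpowers b ≤ (centralizer ({q a} : Set (G ⧸ zpowers c))).comap q :=
        sup_le (sup_le (fun z hz => mem_centralizer_singleton_iff.2 (hcen z hz a))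
          (zpowers_le.2 (mem_centralizer_singleton_iff.2 rfl)))
          (zpowers_le.2 (mem_centralizer_singleton_iff.2 hqab.symm))
      exact (mem_centralizer_singleton_iff.1 (hle (hgen ▸ mem_top y))).symm
    have hqb : ∀ y, q b * q y = q y * q b := fun y => by
      have hle : center G ⊔ zpowers a ⊔ zpowers b ≤ (centralizer ({q b} : Set (G ⧸ zpowers c))).comap q :=
        sup_le (sup_le (fun z hz => mem_centralizer_singleton_iff.2 (hcen z hz b))
          (zpowers_le.2 (mem_centralizer_singleton_iff.2 hqab)))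
          (zpowers_le.2 (mem_centralizer_singleton_iff.2 rfl))
      exact (mem_centralizer_singleton_iff.1 (hle (hgen ▸ mem_top y))).symm
    rw [commutator_def, commutator_le]
    intro x _ y _
    have hle : center G ⊔ zpowers a ⊔ zpowers b ≤ (centralizer ({q y} : Set (G ⧸ zpowers c))).comap q :=
      sup_le (sup_le (fun z hz => mem_centralizer_singleton_iff.2 (hcen z hz y))
        (zpowers_le.2 (mem_centralizer_singleton_iff.2 (hqa y))))
        (zpowers_le.2 (mem_centralizer_singleton_iff.2 (hqb y)))
    refine (QuotientGroup.eq_one_iff _).1 ?_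
    show q ⁅x, y⁆ = 1
    rw [map_commutatorElement, commutatorElement_eq_one_iff_mul_comm]
    exact mem_centralizer_singleton_iff.1 (hle (hgen ▸ mem_top x))
  have hDcard : Nat.card (commutator G) = p := by rw [hDc, Nat.card_zpowers, hco]
  have hZp : ∀ z ∈ center G, z ^ p ∈ zpowers c := by
    intro z hz
    by_contra h
    have hzo : z ^ p ^ 2 = 1 := by
      have := congrArg Subtype.val (pow_card_eq_one' (x := (⟨z, hz⟩ : center G)))
      rw [hZ] at this
      exact this
    have ho : orderOf z = p ^ 2 := orderOf_eq_prime_pow (n := 1) (fun h1 => h (by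
      rw [pow_one] at h1; rw [h1]; exact one_mem _)) hzo
    have heq : zpowers z = center G := Subgroup.eq_of_le_of_card_ge (zpowers_le.2 hz)
      (by rw [Nat.card_zpowers, ho, hZ])
    obtain ⟨i, hi⟩ := Subgroup.mem_zpowers_iff.1 (heq ▸ hcZ)
    have h1 : z ^ (i * p) = 1 := by rw [zpow_mul, hi, zpow_natCast, hcp]
    rw [← orderOf_dvd_iff_zpow_eq_one, ho] at h1
    push_cast at h1
    rw [pow_two] at h1
    obtain ⟨j, rfl⟩ : (p : ℤ) ∣ i :=
      Int.dvd_of_mul_dvd_mul_right (by exact_mod_cast hp.ne_zero) h1
    apply h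
    have hj : ¬ (p : ℤ) ∣ j := by
      rintro ⟨k, rfl⟩
      apply hab
      rw [← hi, show (p : ℤ) * (p * k) = ((p ^ 2 : ℕ) : ℤ) * k by push_cast; ring, zpow_mul,
        zpow_natCast, hzo, one_zpow]
    obtain ⟨s, t, hst⟩ := (Nat.prime_iff_prime_int.1 hp).coprime_iff_not_dvd.2 hj
    refine ⟨t, ?_⟩
    show c ^ t = z ^ p
    rw [← hi, ← zpow_mul, ← zpow_natCast z p]
    have : (p : ℤ) * j * t = (p : ℤ) + ((p ^ 2 : ℕ) : ℤ) * (-s) := by
      push_cast
      linear_combination (p : ℤ) * hst
    rw [this, zpow_add, zpow_mul, zpow_natCast z (p ^ 2), hzo, one_zpow, mul_one]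
  have hDZ : commutator G ≤ center G := hder
  -- the power map modulo the derived subgroup
  by_cases hA : ∀ x : G, x ^ p ∈ zpowers c
  swap
  · exfalso
    set q := QuotientGroup.mk' (zpowers c) with hq
    have hcomm : ∀ x y : G, Commute (q x) (q y) := fun x y => by
      rw [commute_iff_eq, ← commutatorElement_eq_one_iff_mul_comm, ← map_commutatorElement]
      exact (QuotientGroup.eq_one_iff _).2 (hDc ▸ commutator_mem_commutator (mem_top x) (mem_top y))
    let ψ : G →* G ⧸ zpowers c := MonoidHom.mk' (fun x => q x ^ p) fun x y => by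
      rw [map_mul, (hcomm x y).mul_pow]
    have hψ : ∀ x, x ∈ ψ.ker ↔ x ^ p ∈ zpowers c := fun x => by
      show q x ^ p = 1 ↔ _
      rw [← map_pow, hq, QuotientGroup.mk'_apply, QuotientGroup.eq_one_iff]
    have hrange : ψ.range ≤ (center G).map q := by
      rintro _ ⟨x, rfl⟩
      exact ⟨x ^ p, hpZ x, map_pow q x p⟩
    have hmapc : Nat.card ((center G).map q) = p := by
      rw [← Subgroup.relIndex_ker, hq, QuotientGroup.ker_mk']
      have h := Subgroup.relIndex_mul_relIndex ⊥ (zpowers c) (center G) bot_le (zpowers_le.2 hcZ)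
      rw [Subgroup.relIndex_bot_left, Subgroup.relIndex_bot_left, hZ, Nat.card_zpowers, hco, sq] at h
      exact Nat.eq_of_mul_eq_mul_left hp.pos h
    have hker : ψ.ker.index = p := by
      rw [Subgroup.index_ker]
      rcases (Nat.dvd_prime hp).1 (hmapc ▸ Subgroup.card_dvd_of_le hrange) with h | h
      · exfalso
        push Not at hA
        obtain ⟨x, hx⟩ := hA
        rw [Subgroup.card_eq_one] at h
        exact hx ((hψ x).1 (Subgroup.mem_bot.1 (h ▸ (⟨x, rfl⟩ : ψ x ∈ ψ.range))))
      · exact h
    have hkc : Nat.card ψ.ker = p ^ 3 := by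
      have h := ψ.ker.card_mul_index
      rw [hker, hG, pow_succ p 3] at h
      exact Nat.eq_of_mul_eq_mul_right hp.pos h
    refine hno (commutator G) (center G) ψ.ker hDcard hZ hkc hDZ (fun z hz => (hψ z).2 (hZp z hz))
      fun α => ⟨fun x hx => commutator_inv α hx, fun x hx => center_inv α hx, fun x hx => ?_⟩
    rw [hψ, ← hDc] at hx ⊢
    rw [← map_pow]
    exact commutator_inv α hx
  by_cases hcyc : IsCyclic (center G)
  · refine Or.inr (Or.inr ⟨fun x => ?_, hcyc, hZ⟩)
    obtain ⟨i, hi⟩ := hA x
    rw [sq, pow_mul, ← show c ^ i = x ^ p from hi, ← zpow_natCast, ← zpow_mul, mul_comm, zpow_mul, zpow_natCast,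
      hcp, one_zpow]
  have hZexp : ∀ z ∈ center G, z ^ p = 1 := by
    intro z hz
    by_contra h
    apply hcyc
    refine isCyclic_of_orderOf_eq_card (⟨z, hz⟩ : center G) ?_
    rw [hZ, Subgroup.orderOf_mk]
    refine orderOf_eq_prime_pow (n := 1) (by rwa [pow_one]) ?_
    have := congrArg Subtype.val (pow_card_eq_one' (x := (⟨z, hz⟩ : center G)))
    rw [hZ] at this
    exact this
  obtain ⟨w, hwZ, hwc⟩ : ∃ w ∈ center G, w ∉ zpowers c := by
    refine SetLike.exists_of_lt (lt_of_le_of_ne (zpowers_le.2 hcZ) fun h => ?_)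
    rw [← h, Nat.card_zpowers, hco] at hZ
    nlinarith [hp.two_le]
  -- the direct decomposition
  set E := closure ({a, b} : Set G) with hE
  have haE : a ∈ E := subset_closure (Set.mem_insert _ _)
  have hbE : b ∈ E := subset_closure (Set.mem_insert_of_mem _ rfl)
  have hEle : Nat.card E ≤ p ^ 3 := Agent.H24.card_closure_pair_le hcZ hcp (hA a) (hA b)
  have hcE : c ∈ E := by
    rw [hc, commutatorElement_def]
    exact mul_mem (mul_mem (mul_mem haE hbE) (inv_mem haE)) (inv_mem hbE)
  have hcw : zpowers c ⊔ zpowers w = center G := by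
    refine Subgroup.eq_of_le_of_card_ge (sup_le (zpowers_le.2 hcZ) (zpowers_le.2 hwZ)) ?_
    have h := Agent.H24.le_relIndex_of_lt hP (H := zpowers c) (K := zpowers c ⊔ zpowers w)
      fun h => hwc (h (mem_sup_right (mem_zpowers w)))
    have h' := Subgroup.relIndex_mul_relIndex ⊥ (zpowers c) (zpowers c ⊔ zpowers w) bot_le le_sup_left
    rw [Subgroup.relIndex_bot_left, Subgroup.relIndex_bot_left, Nat.card_zpowers, hco] at h'
    rw [hZ, ← h', sq]
    exact Nat.mul_le_mul_left p h
  have hEW : E ⊔ zpowers w = ⊤ := by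
    refine top_le_iff.1 (hgen ▸ sup_le (sup_le (hcw ▸ sup_le ?_ le_sup_right) ?_) ?_)
    · exact (zpowers_le.2 hcE).trans le_sup_left
    · exact (zpowers_le.2 haE).trans le_sup_left
    · exact (zpowers_le.2 hbE).trans le_sup_left
  have hwo : Nat.card (zpowers w) = p := by
    rw [Nat.card_zpowers]
    exact orderOf_eq_prime (hZexp w hwZ) fun h => hwc (h ▸ one_mem _)
  let φ : E × zpowers w →* G := MonoidHom.noncommCoprod E.subtype (zpowers w).subtype fun x y =>
    Subgroup.mem_center_iff.1 (zpowers_le.2 hwZ y.2) (x : G)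
  have hsurj : Function.Surjective φ := by
    rw [← MonoidHom.range_eq_top]
    refine (MonoidHom.noncommCoprod_range _ _ _).trans ?_
    rw [Subgroup.range_subtype, Subgroup.range_subtype, hEW]
  have hle := Nat.card_le_card_of_surjective φ hsurj
  rw [hG, Nat.card_prod, hwo] at hle
  have hEc : Nat.card E = p ^ 3 := le_antisymm hEle (by
    by_contra h
    have : Nat.card E * p < p ^ 3 * p := Nat.mul_lt_mul_of_pos_right (by omega) hp.pos
    rw [← pow_succ] at this
    change _ < p ^ 4 at this
    omega)
  have hbij : Function.Bijective φ := (Nat.bijective_iff_surjective_and_card φ).2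
    ⟨hsurj, by rw [hG, Nat.card_prod, hwo, hEc, ← pow_succ]⟩
  have hEna : ¬ IsMulCommutative E := fun h => hab (commutatorElement_eq_one_iff_mul_comm.2
    (congrArg Subtype.val (h.is_comm.comm ⟨a, haE⟩ ⟨b, hbE⟩)))
  have : Fact (Nat.card (zpowers w) = p) := ⟨hwo⟩
  have eW : zpowers w ≃* Multiplicative (ZMod p) := by
    have := zmodCyclicMulEquiv (G := zpowers w) inferInstance
    exact this.symm.trans (hwo ▸ MulEquiv.refl (Multiplicative (ZMod (Nat.card (zpowers w)))))
  have eG : G ≃* E × Multiplicative (ZMod p) :=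
    (MulEquiv.ofBijective φ hbij).symm.trans ((MulEquiv.refl E).prodCongr eW)
  by_cases hp2 : p = 2
  swap
  · -- odd `p`
    have hmulp : ∀ x y : G, (x * y) ^ p = x ^ p * y ^ p := fun x y =>
      Agent.H24.mul_pow_prime_of_class_two hp hp2 (hder (commutator_mem_commutator (mem_top y) (mem_top x)))
        (hZexp _ (hder (commutator_mem_commutator (mem_top y) (mem_top x))))
    let χ : G →* G := MonoidHom.mk' (fun x => x ^ p) hmulp
    by_cases hexp : ∀ x : G, x ^ p = 1
    · refine Or.inl ⟨hp.odd_of_ne_two hp2, Shrink.{0} E, inferInstance, inferInstance, ?_⟩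
      let eS : Shrink.{0} E ≃* E := Shrink.mulEquiv
      have hSc : Nat.card (Shrink.{0} E) = p ^ 3 := (Nat.card_congr eS.toEquiv).trans hEc
      have hSna : ¬ IsMulCommutative (Shrink.{0} E) := fun h => hEna ⟨⟨fun x y => eS.symm.injective
        (by rw [map_mul, map_mul]; exact h.is_comm.comm _ _)⟩⟩
      have hSe : ∀ x : Shrink.{0} E, x ^ p = 1 := fun x => eS.injective (Subtype.ext (by
        rw [map_pow, map_one, Subgroup.coe_pow, hexp]; rfl))
      obtain ⟨h1, h2⟩ := S5186.center_data hSc hSna
      refine ⟨Agent.H24.isExtraspecial_of (IsPGroup.of_card hSc) h1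
        (fun h => hSna ⟨⟨fun u v => Subgroup.mem_center_iff.1 (h ▸ mem_top v) u⟩⟩)
        (fun u v => by rw [← h2]; exact commutator_mem_commutator (mem_top u) (mem_top v))
        (fun x => by rw [hSe x]; exact one_mem _), hSc, hSe,
        ⟨eG.trans (eS.symm.prodCongr (MulEquiv.refl _))⟩⟩
    · exfalso
      push Not at hexp
      obtain ⟨x, hx⟩ := hexp
      have hr : χ.range ≤ zpowers c := by rintro _ ⟨y, rfl⟩; exact hA y
      have hker : χ.ker.index = p := by
        rw [Subgroup.index_ker]
        rcases (Nat.dvd_prime hp).1 ((Nat.card_zpowers c).trans hco ▸ Subgroup.card_dvd_of_le hr) with h | h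
        · exfalso
          rw [Subgroup.card_eq_one] at h
          exact hx (Subgroup.mem_bot.1 (h ▸ (⟨x, rfl⟩ : χ x ∈ χ.range)))
        · exact h
      have hkc : Nat.card χ.ker = p ^ 3 := by
        have h := χ.ker.card_mul_index
        rw [hker, hG, pow_succ p 3] at h
        exact Nat.eq_of_mul_eq_mul_right hp.pos h
      refine hno (commutator G) (center G) χ.ker hDcard hZ hkc hDZ hZexp
        fun α => ⟨fun x hx => commutator_inv α hx, fun x hx => center_inv α hx, fun x hx => ?_⟩
      show (α x) ^ p = 1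
      rw [← map_pow, show x ^ p = 1 from hx, map_one]
  subst hp2
  refine Or.inr (Or.inl ⟨rfl, ?_⟩)
  have hEP : IsPGroup 2 E := IsPGroup.of_card hEc
  obtain ⟨hE1, hE2⟩ := S5186.center_data hEc hEna
  have hEx : Cfsg.IsExtraspecial 2 E := Agent.H24.isExtraspecial_of hEP hE1
    (fun h => hEna ⟨⟨fun u v => Subgroup.mem_center_iff.1 (h ▸ mem_top v) u⟩⟩)
    (fun u v => by rw [← hE2]; exact commutator_mem_commutator (mem_top u) (mem_top v))
    (fun x => Subgroup.mem_center_iff.2 fun y => Subtype.ext (Subgroup.mem_center_iff.1 (hpZ (x : G)) (y : G)))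
  obtain ⟨u, v, huv, hcase⟩ := Agent.H24.extraspecial_eight_cases hEx
  rcases hcase with ⟨hu, hv⟩ | ⟨hu, hv⟩
  · exfalso
    set r : G := ((u * v : E) : G) with hr
    have huG : (u : G) ^ 2 = 1 := by simpa using congrArg Subtype.val hu
    have hvG : (v : G) ^ 2 = 1 := by simpa using congrArg Subtype.val hv
    have huinv : (u : G)⁻¹ = u := inv_eq_of_mul_eq_one_left (by rw [← sq, huG])
    have hvinv : (v : G)⁻¹ = v := inv_eq_of_mul_eq_one_left (by rw [← sq, hvG])
    have hrsq : r ^ 2 = ((⁅u, v⁆ : E) : G) := by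
      rw [hr, Subgroup.coe_mul, commutatorElement_def, Subgroup.coe_mul, Subgroup.coe_mul, Subgroup.coe_mul,
        Subgroup.coe_inv, Subgroup.coe_inv, huinv, hvinv, sq]
      group
    have hrne : r ^ 2 ≠ 1 := fun h => huv (Subtype.ext (hrsq.symm.trans h))
    have hrZ : r ∉ center G := fun h => hrne (hZexp r h)
    set N := center G ⊔ zpowers r with hN
    have hNcomm : ∀ x ∈ N, x * r = r * x := fun x hx =>
      mem_centralizer_singleton_iff.1 ((sup_le
        (fun z hz => mem_centralizer_singleton_iff.2 (Subgroup.mem_center_iff.1 hz r).symm)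
        (zpowers_le.2 (mem_centralizer_singleton_iff.2 rfl)) : N ≤ centralizer ({r} : Set G)) hx)
    have huN : (u : G) ∉ N := fun h => by
      have h1 := hNcomm _ h
      rw [hr, Subgroup.coe_mul] at h1
      apply huv
      rw [commutatorElement_eq_one_iff_mul_comm]
      refine Subtype.ext ?_
      rw [Subgroup.coe_mul, Subgroup.coe_mul]
      exact mul_left_cancel (h1.trans (mul_assoc _ _ _))
    have hNnorm : (center G).Normal := inferInstance
    have e1 := Agent.H24.le_relIndex_of_lt hP (H := center G) (K := N)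
      fun h => hrZ (h (mem_sup_right (mem_zpowers r)))
    have e2 := Agent.H24.le_relIndex_of_lt hP (H := N) (K := ⊤) fun h => huN (h (mem_top _))
    rw [Subgroup.relIndex_top_right] at e2
    have h3 : (center G).relIndex N * N.index = (center G).index :=
      Subgroup.relIndex_mul_index le_sup_left
    rw [hZidx] at h3
    have hNi : N.index = 2 := by
      have : 2 * N.index ≤ (center G).relIndex N * N.index := Nat.mul_le_mul_right _ e1
      omega
    have hNc : Nat.card N = 2 ^ 3 := by
      have h := N.card_mul_index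
      rw [hNi, hG] at h
      omega
    have hinvert : ∀ n ∈ N, (u : G) * n * u = n⁻¹ := by
      intro n hn
      obtain ⟨z, hz, _, ⟨i, rfl⟩, rfl⟩ := Subgroup.mem_sup_of_normal_left.1 hn
      show (u : G) * (z * r ^ i) * u = (z * r ^ i)⁻¹
      have h1 : (u : G) * r ^ i * (u : G)⁻¹ = (r ^ i)⁻¹ := by
        rw [← conj_zpow, ← inv_zpow]
        congr 1
        rw [hr, Subgroup.coe_mul, mul_inv_rev, huinv, hvinv, ← mul_assoc, ← sq, huG, one_mul]
      rw [huinv] at h1
      have hzi : z⁻¹ = z := inv_eq_of_mul_eq_one_left (by rw [← sq, hZexp z hz])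
      rw [mul_inv_rev, hzi, ← h1]
      have hzu := Subgroup.mem_center_iff.1 hz
      calc (u : G) * (z * r ^ i) * u = ((u : G) * z) * r ^ i * u := by group
        _ = z * ((u : G) * r ^ i * u) := by rw [hzu]; group
        _ = (u : G) * r ^ i * u * z := (hzu _).symm
    have hsqN : ∀ g : G, g ^ 2 ≠ 1 → g ∈ N := by
      intro g hg
      by_contra hgn
      apply hg
      have hgu : g * u ∈ N := by
        rw [Subgroup.mul_mem_iff_of_index_two hNi]
        exact ⟨fun h => absurd h hgn, fun h => absurd h huN⟩
      have hg' : g = g * u * u := by rw [mul_assoc, ← sq, huG, mul_one]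
      calc g ^ 2 = (g * u * u) * (g * u * u) := by rw [← hg', sq]
        _ = (g * u) * ((u : G) * (g * u) * u) := by group
        _ = 1 := by rw [hinvert _ hgu, mul_inv_cancel]
    have hNgen : closure {g : G | g ^ 2 ≠ 1} = N := by
      refine le_antisymm ((closure_le _).2 hsqN) (sup_le ?_ (zpowers_le.2 (subset_closure hrne)))
      intro z hz
      have h1 : r * z ∈ closure {g : G | g ^ 2 ≠ 1} := subset_closure (by
        show (r * z) ^ 2 ≠ 1
        rw [(show Commute r z from Subgroup.mem_center_iff.1 hz r).mul_pow, hZexp z hz, mul_one]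
        exact hrne)
      have := mul_mem (inv_mem (subset_closure (show r ∈ {g : G | g ^ 2 ≠ 1} from hrne))) h1
      rwa [inv_mul_cancel_left] at this
    refine hno (commutator G) (center G) N hDcard hZ hNc hDZ le_sup_left
      fun α => ⟨fun x hx => commutator_inv α hx, fun x hx => center_inv α hx, fun x hx => ?_⟩
    rw [← hNgen] at hx ⊢
    have hle : closure {g : G | g ^ 2 ≠ 1} ≤ (closure {g : G | g ^ 2 ≠ 1}).comap α.toMonoidHom := by
      refine (closure_le _).2 fun g hg => subset_closure ?_
      show (α g) ^ 2 ≠ 1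
      rw [← map_pow]
      exact fun h => hg (α.injective (h.trans (map_one α).symm))
    exact hle hx
  · have hc2 : ⁅u, v⁆ ^ 2 = 1 := Agent.H24.espec_comm_pow hEx u v
    have huo : orderOf u = 2 * 2 := by
      refine (orderOf_eq_prime_pow (p := 2) (n := 1) ?_ ?_).trans (by norm_num)
      · rw [pow_one, hu]; exact huv
      · rw [show 2 ^ (1 + 1) = 2 * 2 from rfl, pow_mul, hu, hc2]
    have hvns : v ∉ zpowers u := by
      rintro ⟨i, hi⟩
      apply huv
      rw [commutatorElement_eq_one_iff_mul_comm, ← show u ^ i = v from hi]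
      exact Commute.self_zpow u i
    have huidx : (zpowers u).index = 2 := by
      have h := (zpowers u).card_mul_index
      rw [Nat.card_zpowers, huo, hEc] at h
      omega
    have hgenE : ∀ g : E, ∃ i : ℕ, g = u ^ i ∨ g = v * u ^ i := by
      intro g
      by_cases hg : g ∈ zpowers u
      · obtain ⟨i, hi⟩ := mem_powers_iff_mem_zpowers.2 hg
        exact ⟨i, Or.inl hi.symm⟩
      · have : v⁻¹ * g ∈ zpowers u := by
          rw [Subgroup.mul_mem_iff_of_index_two huidx, inv_mem_iff]
          exact ⟨fun h => absurd h hvns, fun h => absurd h hg⟩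
        obtain ⟨i, hi⟩ := mem_powers_iff_mem_zpowers.2 this
        exact ⟨i, Or.inr (by rw [show u ^ i = v⁻¹ * g from hi, mul_inv_cancel_left])⟩
    have hconj : v * u * v⁻¹ = u⁻¹ := by
      have h1 : ⁅v, u⁆ = u ^ 2 := by
        rw [hu, ← commutatorElement_inv, inv_eq_iff_mul_eq_one, ← sq, hc2]
      calc v * u * v⁻¹ = ⁅v, u⁆ * u := by rw [commutatorElement_def]; group
        _ = u⁻¹ := by
          rw [h1]
          refine eq_inv_of_mul_eq_one_left ?_
          rw [← pow_succ, ← pow_succ]
          have : u ^ (2 * 2) = 1 := by rw [← huo, pow_orderOf_eq_one]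
          exact this
    obtain ⟨eQ⟩ := Agent.H24.quaternion_of_relations 2 u v huo (by rw [← sq, hv, hu]) hconj hvns hgenE
    exact ⟨eG.trans (eQ.prodCongr (MulEquiv.refl _))⟩

end Cfsg.Agent.H29.OrderPFour
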