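import Cfsg.Agent.H24.TwoMaxClass

/-!
# 2-groups with an element having a centralizer of order four
-/

set_option autoImplicit false

namespace Cfsg.Agent.H29

open Subgroup
open scoped commutatorElement

variable {S : Type*} [Group S] [Finite S]

omit [Finite S] in
/-- In a finite cyclic group elements of equal order generate each other. -/
theorem mem_zpowers_of_orderOf_eq [Finite S] [IsCyclic S] {a b : S} (h : orderOf b = orderOf a) :
    b ∈ Subgroup.zpowers a := by
  classical
  let : Fintype S := Fintype.ofFinite S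
  have hle : ({z : S | z ^ orderOf a = 1} : Set S).ncard ≤ orderOf a := by
    rw [← Nat.card_coe_set_eq, Nat.card_eq_fintype_card, ← Set.toFinset_card]
    refine le_trans (le_of_eq ?_) (IsCyclic.card_pow_eq_one_le (α := S) (orderOf_pos a))
    congr 1
    ext z
    simp
  have hsub : (Subgroup.zpowers a : Set S) ⊆ {z : S | z ^ orderOf a = 1} := by
    rintro _ ⟨i, rfl⟩
    show (a ^ i) ^ orderOf a = 1
    rw [← zpow_natCast, zpow_comm, zpow_natCast, pow_orderOf_eq_one, one_zpow]
  have heq := Set.eq_of_subset_of_ncard_le hsub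
    (hle.trans (le_of_eq ((Nat.card_zpowers a).symm.trans (Nat.card_coe_set_eq _)))) (Set.toFinite _)
  have hb : b ∈ ({z : S | z ^ orderOf a = 1} : Set S) := by
    show b ^ orderOf a = 1
    rw [← h, pow_orderOf_eq_one]
  rw [← heq] at hb
  exact hb

/-- Inside a cyclic subgroup, elements of equal order generate each other. -/
theorem mem_zpowers_of_mem_cyclic (C : Subgroup S) (hC : IsCyclic C) {a b : S} (ha : a ∈ C)
    (hb : b ∈ C) (h : orderOf b = orderOf a) : b ∈ Subgroup.zpowers a := by
  obtain ⟨i, hi⟩ := mem_zpowers_of_orderOf_eq (a := (⟨a, ha⟩ : C)) (b := ⟨b, hb⟩)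
    (by rw [← Subgroup.orderOf_coe, ← Subgroup.orderOf_coe]; exact h)
  exact ⟨i, by simpa using congrArg Subtype.val hi⟩

/-- A non-abelian 2-group with a self-centralizing subgroup `⟨x⟩Z` of order four has commutator
quotient of order four. -/
theorem index_commutator_of_centralizer_four (hS : IsPGroup 2 S) (hna : ¬ IsMulCommutative S)
    (x : S) (hC : Nat.card (Subgroup.centralizer ({x} : Set S)) = 4) :
    (commutator S).index = 4 := by
  have : Fact (Nat.Prime 2) := ⟨Nat.prime_two⟩
  set C := Subgroup.centralizer ({x} : Set S) with hCdef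
  have hsize : C.index ≤ Nat.card (commutator S) := by
    let f : S ⧸ C → commutator S := fun q => ⟨⁅q.out, x⁆,
      Subgroup.commutator_mem_commutator (Subgroup.mem_top _) (Subgroup.mem_top _)⟩
    refine Nat.card_le_card_of_injective f fun a b h => ?_
    have h' : ⁅a.out, x⁆ = ⁅b.out, x⁆ := congrArg Subtype.val h
    rw [commutatorElement_def, commutatorElement_def] at h'
    rw [← QuotientGroup.out_eq' a, ← QuotientGroup.out_eq' b, QuotientGroup.eq,
      Subgroup.mem_centralizer_singleton_iff]
    have h'' : a.out * x * a.out⁻¹ = b.out * x * b.out⁻¹ := mul_right_cancel h'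
    calc a.out⁻¹ * b.out * x = a.out⁻¹ * (b.out * x * b.out⁻¹) * b.out := by group
      _ = a.out⁻¹ * (a.out * x * a.out⁻¹) * b.out := by rw [h'']
      _ = x * (a.out⁻¹ * b.out) := by group
  have hmulC := C.card_mul_index
  rw [hC] at hmulC
  have hmulD := (commutator S).card_mul_index
  have hge := H24.sq_le_index_commutator hS hna
  have : (commutator S).index ≤ 4 := by
    by_contra hgt
    have h1 : C.index * 5 ≤ Nat.card (commutator S) * (commutator S).index :=
      Nat.mul_le_mul hsize (by omega)
    have : 0 < C.index := Nat.pos_of_ne_zero Subgroup.index_ne_zero_of_finite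
    omega
  omega

/-- A non-abelian 2-group with commutator quotient of order four: its order and centre. -/
theorem card_center_data (hS : IsPGroup 2 S) (hna : ¬ IsMulCommutative S)
    (hidx : (commutator S).index = 4) :
    8 ≤ Nat.card S ∧ Nat.card (center S) = 2 ∧ ∃ C : Subgroup S, IsCyclic C ∧ C.index = 2 := by
  have : Fact (Nat.Prime 2) := ⟨Nat.prime_two⟩
  obtain ⟨k, hk⟩ := IsPGroup.iff_card.1 hS
  have hk3 : 3 ≤ k := by
    by_contra hk3
    rcases Nat.lt_or_ge k 2 with h | h
    · have := H24.isCyclic_of_card_pow_le hk (by omega)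
      exact hna IsCyclic.isMulCommutative
    · obtain rfl : k = 2 := by omega
      exact hna (IsPGroup.isMulCommutative_of_card_eq_prime_sq hk)
  obtain ⟨hC, -, hcen⟩ := H24.two_group_commutator_index_four S k hk (by omega) hidx
  exact ⟨hk ▸ (by norm_num : (8 : ℕ) = 2 ^ 3) ▸ Nat.pow_le_pow_right two_pos hk3, hcen hk3, hC⟩

/-- The elements outside a cyclic subgroup of index two of a non-abelian 2-group whose centre has
order two. -/
theorem outside_data (hna : ¬ IsMulCommutative S) (hcen : Nat.card (center S) = 2)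
    (C : Subgroup S) (hCc : IsCyclic C) (hCi : C.index = 2) (x : S) (hx : x ∉ C) :
    Nat.card (Subgroup.centralizer ({x} : Set S)) = 4 ∧ x * x ∈ center S ∧
      (∀ a ∈ C, a * x = x * a → a ∈ center S) ∧
        ∀ a ∈ C, orderOf a = 4 → x * a * x⁻¹ = a⁻¹ := by
  have hCab : ∀ a ∈ C, ∀ b ∈ C, a * b = b * a := fun a ha b hb =>
    congrArg Subtype.val ((IsCyclic.isMulCommutative (α := C)).is_comm.comm ⟨a, ha⟩ ⟨b, hb⟩)
  have hx2C : x * x ∈ C := Subgroup.mul_self_mem_of_index_two hCi x
  -- elements of `C` commuting with `x` are central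
  have hfix : ∀ a ∈ C, a * x = x * a → a ∈ center S := by
    intro a ha hax
    refine mem_center_iff.2 fun g => ?_
    by_cases hg : g ∈ C
    · exact hCab g hg a ha
    · have h1 : g * x⁻¹ ∈ C := by
        rw [mul_mem_iff_of_index_two hCi, inv_mem_iff]
        simp [hg, hx]
      calc g * a = g * x⁻¹ * (x * a) := by group
        _ = g * x⁻¹ * (a * x) := by rw [hax]
        _ = g * x⁻¹ * a * x := by group
        _ = a * (g * x⁻¹) * x := by rw [hCab _ h1 a ha]
        _ = a * g := by group
  have hx2 : x * x ∈ center S := hfix _ hx2C (mul_assoc _ _ _)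
  have hZC : center S ≤ C := by
    intro z hz
    by_contra hzC
    have h1 : z * x⁻¹ ∈ C := by
      rw [mul_mem_iff_of_index_two hCi, inv_mem_iff]
      simp [hzC, hx]
    apply hna
    refine ⟨⟨fun g h => ?_⟩⟩
    -- `S` is generated by `C` and the central element `z`
    have hd : ∀ g : S, ∃ c ∈ C, g = c ∨ g = c * z := fun g => by
      by_cases hg : g ∈ C
      · exact ⟨g, hg, Or.inl rfl⟩
      · refine ⟨g * z⁻¹, ?_, Or.inr (by group)⟩
        rw [mul_mem_iff_of_index_two hCi, inv_mem_iff]
        simp [hg, hzC]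
    have hz' : ∀ w, w * z = z * w := fun w => mem_center_iff.1 hz w
    obtain ⟨c, hc, rfl | rfl⟩ := hd g <;> obtain ⟨d, hd', rfl | rfl⟩ := hd h
    · exact hCab g hc h hd'
    · calc g * (d * z) = d * g * z := by rw [← mul_assoc, hCab g hc d hd']
        _ = d * z * g := by rw [mul_assoc, hz', ← mul_assoc]
    · calc c * z * h = c * h * z := by rw [mul_assoc, ← hz', ← mul_assoc]
        _ = h * (c * z) := by rw [hCab c hc h hd', mul_assoc]
    · calc c * z * (d * z) = c * d * (z * z) := by rw [mul_assoc c, ← mul_assoc z, ← hz' d]; group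
        _ = d * c * (z * z) := by rw [hCab c hc d hd']
        _ = d * z * (c * z) := by rw [mul_assoc d z, ← mul_assoc z, ← hz' c]; group
  refine ⟨?_, hx2, hfix, fun a ha ha4 => ?_⟩
  · set K := Subgroup.centralizer ({x} : Set S) with hK
    have hxK : x ∈ K := Subgroup.mem_centralizer_singleton_iff.2 rfl
    have hKC : K ⊓ C = center S := by
      refine le_antisymm (fun a ha => hfix a ha.2 (Subgroup.mem_centralizer_singleton_iff.1 ha.1))
        (le_inf (Subgroup.center_le_centralizer _) hZC)
    have hrel : C.relIndex K = 2 := by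
      have h1 : C.relIndex K ∣ 2 := hCi ▸
        (@Subgroup.relIndex_dvd_index_of_normal S _ C K (Subgroup.normal_of_index_eq_two hCi))
      rcases (Nat.dvd_prime Nat.prime_two).1 h1 with h | h
      · exact absurd ((Subgroup.relIndex_eq_one.1 h) hxK) hx
      · exact h
    have := Subgroup.card_mul_index ((C ⊓ K).subgroupOf K)
    rw [Nat.card_congr (Subgroup.subgroupOfEquivOfLe inf_le_right).toEquiv, inf_comm, hKC, hcen,
      ← Subgroup.relIndex, ← hKC, inf_comm, Subgroup.inf_relIndex_right, hrel] at this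
    exact this.symm
  · have hCn : C.Normal := Subgroup.normal_of_index_eq_two hCi
    have hb := hCn.conj_mem a ha x
    have hbo : orderOf (x * a * x⁻¹) = 4 := ((MulAut.conj x).orderOf_eq a).trans ha4
    have hne : x * a * x⁻¹ ≠ a := by
      intro h
      have h1 : a ∈ center S := hfix a ha (mul_inv_eq_iff_eq_mul.1 h).symm
      have h2 := orderOf_dvd_natCard (⟨a, h1⟩ : center S)
      rw [hcen, Subgroup.orderOf_mk, ha4] at h2
      norm_num at h2
    -- the two elements of order four of a cyclic group
    obtain ⟨i, hi⟩ : (⟨x * a * x⁻¹, hb⟩ : C) ∈ Subgroup.zpowers (⟨a, ha⟩ : C) :=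
      mem_zpowers_of_orderOf_eq (by rw [Subgroup.orderOf_mk, Subgroup.orderOf_mk, hbo, ha4])
    have hi' : a ^ i = x * a * x⁻¹ := by simpa using congrArg Subtype.val hi
    have hmod : a ^ i = a ^ (i % 4) := by
      rw [← zpow_mod_orderOf, ha4]; norm_num
    rw [hmod] at hi'
    have h0 := Int.emod_nonneg i (show (4 : ℤ) ≠ 0 by norm_num)
    have h3 := Int.emod_lt_of_pos i (show (0 : ℤ) < 4 by norm_num)
    have hcases : i % 4 = 0 ∨ i % 4 = 1 ∨ i % 4 = 2 ∨ i % 4 = 3 := by omega
    rcases hcases with e | e | e | e <;> rw [e] at hi'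
    · rw [zpow_zero] at hi'
      rw [← hi', orderOf_one] at hbo
      norm_num at hbo
    · rw [zpow_one] at hi'
      exact absurd hi'.symm hne
    · have h4 : (x * a * x⁻¹) ^ 2 = 1 := by
        rw [← hi', zpow_two, ← sq, ← pow_mul]
        rw [show (2 * 2 : ℕ) = orderOf a by rw [ha4]]
        exact pow_orderOf_eq_one a
      have := Nat.le_of_dvd two_pos (hbo ▸ orderOf_dvd_of_pow_eq_one h4)
      omega
    · rw [← hi', eq_inv_iff_mul_eq_one, ← zpow_add_one]
      norm_num
      exact ha4 ▸ pow_orderOf_eq_one a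

/-- No section of order sixteen over a central involution is elementary abelian of order eight. -/
def NoBigSection (S : Type*) [Group S] : Prop :=
  ∀ (W : Subgroup S) (z : S), z ∈ W → (∀ w ∈ W, w * z = z * w) → orderOf z = 2 →
    (∀ u ∈ W, ∀ v ∈ W, (v * u)⁻¹ * (u * v) ∈ Subgroup.zpowers z) →
      (∀ u ∈ W, u * u ∈ Subgroup.zpowers z) → Nat.card W ≤ 8

omit [Finite S] in
theorem NoBigSection.subgroup (h : NoBigSection S) (U : Subgroup S) : NoBigSection U := by
  intro W z hz hc hz2 hcomm hsq
  have hmem : ∀ w : U, w ∈ Subgroup.zpowers z → (w : S) ∈ Subgroup.zpowers (z : S) := by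
    rintro _ ⟨i, rfl⟩
    exact ⟨i, by simp⟩
  have := h (W.map U.subtype) z ⟨z, hz, rfl⟩ ?_ (by rw [Subgroup.orderOf_coe, hz2]) ?_ ?_
  · rwa [Subgroup.card_map_of_injective U.subtype_injective] at this
  · rintro _ ⟨w, hw, rfl⟩
    exact congrArg Subtype.val (hc w hw)
  · rintro _ ⟨u, hu, rfl⟩ _ ⟨v, hv, rfl⟩
    exact hmem _ (hcomm u hu v hv)
  · rintro _ ⟨u, hu, rfl⟩
    exact hmem _ (hsq u hu)

omit [Finite S] in
/-- The commutator quotient condition is inherited from a subgroup of index two, when no big
section exists. -/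
theorem step_index_two [Finite S] (hS : IsPGroup 2 S) (hno : NoBigSection S) (T : Subgroup S)
    (hTi : T.index = 2) (hTna : ¬ IsMulCommutative T) (hTidx : (commutator T).index = 4) :
    ¬ IsMulCommutative S ∧ (commutator S).index = 4 := by
  have : Fact (Nat.Prime 2) := ⟨Nat.prime_two⟩
  have hTn : T.Normal := Subgroup.normal_of_index_eq_two hTi
  have hna : ¬ IsMulCommutative S := fun h =>
    hTna ⟨⟨fun a b => Subtype.ext (h.is_comm.comm (a : S) b)⟩⟩
  refine ⟨hna, ?_⟩
  obtain ⟨hT8, hTcen, C₀, hC₀c, hC₀i⟩ := card_center_data (hS.to_subgroup T) hTna hTidx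
  -- the central involution of `T` is central in `S`
  obtain ⟨⟨z, hzT⟩, hz⟩ := exists_prime_orderOf_dvd_card' (G := center T) 2 (dvd_of_eq hTcen.symm)
  rw [← Subgroup.orderOf_coe] at hz
  have hzs : orderOf (z : S) = 2 := by rw [Subgroup.orderOf_coe]; exact hz
  have hcenz : ∀ w : T, w ∈ center T → w = 1 ∨ w = z := by
    intro w hw
    by_contra hcon
    push Not at hcon
    have hz1 : z ≠ 1 := fun h => by simp [h] at hz
    have : ({1, z, w} : Set T) ⊆ (center T : Set T) := by
      rintro v (h | h | h)
      · rw [h]; exact one_mem _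
      · rw [h]; exact hzT
      · rw [Set.mem_singleton_iff] at h; rw [h]; exact hw
    have h3 := Set.ncard_le_ncard this (Set.toFinite _)
    rw [Set.ncard_insert_of_notMem (by simp [Ne.symm hz1, Ne.symm hcon.1]),
      Set.ncard_pair (Ne.symm hcon.2)] at h3
    rw [← Nat.card_coe_set_eq] at h3
    change 2 + 1 ≤ Nat.card (center T) at h3
    omega
  have hzc : ∀ g : S, g * z = z * g := by
    intro g
    have h1 : g * z * g⁻¹ ∈ T := hTn.conj_mem _ z.2 g
    have h2 : (⟨g * z * g⁻¹, h1⟩ : T) ∈ center T := by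
      refine mem_center_iff.2 fun w => Subtype.ext ?_
      have h3 : g⁻¹ * w * g ∈ T := by
        have := hTn.conj_mem _ w.2 g⁻¹
        rwa [inv_inv] at this
      have h4 : g⁻¹ * w * g * z = z * (g⁻¹ * w * g) :=
        congrArg Subtype.val (mem_center_iff.1 hzT ⟨_, h3⟩)
      calc (w : S) * (g * z * g⁻¹) = g * (g⁻¹ * w * g * z) * g⁻¹ := by group
        _ = g * (z * (g⁻¹ * w * g)) * g⁻¹ := by rw [h4]
        _ = g * z * g⁻¹ * w := by group
    rcases hcenz _ h2 with h | h
    · have h5 : (z : S) = 1 := conj_eq_one_iff.1 (congrArg Subtype.val h)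
      rw [h5, orderOf_one] at hzs
      exact absurd hzs (by norm_num)
    · exact mul_inv_eq_iff_eq_mul.1 (congrArg Subtype.val h)
  -- an `S`-invariant cyclic subgroup of index two of `T`
  obtain ⟨C, hCc, hCi, hCn⟩ : ∃ C : Subgroup T, IsCyclic C ∧ C.index = 2 ∧
      (C.map T.subtype).Normal := by
    have hd := outside_data hTna hTcen C₀ hC₀c hC₀i
    have hC₀card : 2 * Nat.card C₀ = Nat.card T := by rw [← C₀.card_mul_index, hC₀i, mul_comm]
    by_cases hcase : 16 ≤ Nat.card T ∨ ∃ y : T, y ∉ C₀ ∧ y * y = 1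
    · refine ⟨C₀, hC₀c, hC₀i, ?_⟩
      obtain ⟨c, hc⟩ := Subgroup.isCyclic_iff_exists_zpowers_eq_top C₀ |>.1 hC₀c
      have hco : orderOf c = Nat.card C₀ := by rw [← Nat.card_zpowers, hc]
      have hin : ∀ y : T, orderOf y = Nat.card C₀ → y ∈ C₀ := by
        intro y hy
        by_contra hyC
        obtain ⟨-, hy2, -, -⟩ := hd y hyC
        rcases hcase with h16 | ⟨y₀, hy₀, hy₀2⟩
        · have h4 : y ^ 4 = 1 := by
            rw [show (4 : ℕ) = 2 * 2 from rfl, pow_mul, sq y]
            have := congrArg Subtype.val (pow_card_eq_one' (x := (⟨_, hy2⟩ : center T)))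
            rw [hTcen] at this
            simpa using this
          have := Nat.le_of_dvd (by norm_num) (orderOf_dvd_of_pow_eq_one h4)
          omega
        · rcases Nat.lt_or_ge 8 (Nat.card T) with h | h
          · have h4 : y ^ 4 = 1 := by
              rw [show (4 : ℕ) = 2 * 2 from rfl, pow_mul, sq y]
              have := congrArg Subtype.val (pow_card_eq_one' (x := (⟨_, hy2⟩ : center T)))
              rw [hTcen] at this
              simpa using this
            have := Nat.le_of_dvd (by norm_num) (orderOf_dvd_of_pow_eq_one h4)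
            obtain ⟨k, hk⟩ := IsPGroup.iff_card.1 (hS.to_subgroup T)
            have h16 : 2 ^ 4 ≤ 2 ^ k := by
              refine Nat.pow_le_pow_right two_pos ?_
              by_contra hk4
              have := Nat.pow_le_pow_right two_pos (show k ≤ 3 by omega)
              omega
            omega
          · -- here every element outside the cyclic subgroup is an involution
            have hy' : y₀⁻¹ * y ∈ C₀ := by
              rw [mul_mem_iff_of_index_two hC₀i, inv_mem_iff]
              simp [hy₀, hyC]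
            set a := y₀⁻¹ * y with ha
            have hao : orderOf a ∣ 4 := by
              have := orderOf_dvd_natCard (⟨a, hy'⟩ : C₀)
              rwa [Subgroup.orderOf_mk, show Nat.card C₀ = 4 by omega] at this
            have hconj : y₀ * a * y₀⁻¹ = a⁻¹ := by
              have hc4 : orderOf c = 4 := by omega
              have hcC : c ∈ C₀ := hc ▸ Subgroup.mem_zpowers c
              obtain ⟨i, hi' : c ^ i = a⟩ : a ∈ Subgroup.zpowers c := hc.symm ▸ hy'
              rw [← hi', ← conj_zpow, (hd y₀ hy₀).2.2.2 c hcC hc4, inv_zpow]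
            have hy1 : y * y = 1 := by
              rw [show y = y₀ * a by rw [ha, mul_inv_cancel_left]]
              calc y₀ * a * (y₀ * a) = y₀ * a * y₀⁻¹ * (y₀ * y₀) * a := by group
                _ = 1 := by rw [hconj, hy₀2, mul_one, inv_mul_cancel]
            have := Nat.le_of_dvd two_pos (orderOf_dvd_of_pow_eq_one (show y ^ 2 = 1 by rw [sq, hy1]))
            omega
      have hle : ∀ g : S, ∀ w ∈ C₀, (⟨g * w * g⁻¹, hTn.conj_mem _ w.2 g⟩ : T) ∈ C₀ := by
        intro g w hw
        obtain ⟨i, rfl⟩ : w ∈ Subgroup.zpowers c := hc.symm ▸ hw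
        have h1 : (⟨g * (c : S) * g⁻¹, hTn.conj_mem _ c.2 g⟩ : T) ∈ C₀ := by
          refine hin _ ?_
          rw [← Subgroup.orderOf_coe]
          refine ((MulAut.conj g).orderOf_eq _).trans ?_
          rw [Subgroup.orderOf_coe, hco]
        convert zpow_mem h1 i using 1
        exact Subtype.ext (by simp [conj_zpow])
      refine ⟨fun n hn g => ?_⟩
      obtain ⟨w, hw, rfl⟩ := hn
      exact ⟨_, hle g w hw, rfl⟩
    · push Not at hcase
      obtain ⟨k, hk⟩ := IsPGroup.iff_card.1 (hS.to_subgroup T)
      have hk3 : k = 3 := by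
        have h1 : k ≤ 3 := by
          by_contra h
          have := Nat.pow_le_pow_right two_pos (show 4 ≤ k by omega)
          omega
        have h2 : 3 ≤ k := by
          by_contra h
          have := Nat.pow_le_pow_right two_pos (show k ≤ 2 by omega)
          omega
        omega
      obtain ⟨W, hWn, hWT, hW⟩ := H24.exists_normal_le_card (p := 2) hS (N := T) hk (j := 2) (by omega)
      refine ⟨W.subgroupOf T, ?_, ?_, ?_⟩
      · obtain ⟨w, hw⟩ : ∃ w : T, (w : S) ∈ W ∧ w * w ≠ 1 := by
          by_contra hcon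
          push Not at hcon
          have hsub : ((W.subgroupOf T : Subgroup T) : Set T) ⊆ {1, z} := by
            intro w hw
            have h2 := hcon w hw
            by_cases hwC : w ∈ C₀
            · rcases eq_or_ne w 1 with h | h
              · exact Or.inl h
              · refine Or.inr ?_
                have hwo : orderOf w = 2 := orderOf_eq_prime (by rw [sq, h2]) h
                have hzC : z ∈ C₀ := by
                  by_contra hzC
                  exact hcase.2 z hzC (by rw [← sq, ← hz, pow_orderOf_eq_one])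
                obtain ⟨i, hi' : z ^ i = w⟩ := mem_zpowers_of_mem_cyclic C₀ hC₀c hzC hwC (hwo.trans hz.symm)
                rcases Int.even_or_odd i with ⟨j, rfl⟩ | ⟨j, rfl⟩
                · exfalso; apply h
                  rw [← hi', ← two_mul, zpow_mul, zpow_two, ← sq, ← hz, pow_orderOf_eq_one, one_zpow]
                · rw [Set.mem_singleton_iff, ← hi', zpow_add_one, zpow_mul, zpow_two, ← sq, ← hz,
                    pow_orderOf_eq_one, one_zpow, one_mul]
            · exact absurd h2 (hcase.2 w hwC)
          have := (Set.ncard_le_ncard hsub (Set.toFinite _)).trans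
            ((Set.ncard_insert_le _ _).trans (by rw [Set.ncard_singleton]))
          rw [← Nat.card_coe_set_eq] at this
          change Nat.card (W.subgroupOf T) ≤ 2 at this
          rw [Nat.card_congr (Subgroup.subgroupOfEquivOfLe hWT).toEquiv, hW] at this
          norm_num at this
        have h4 : orderOf w = 2 ^ (1 + 1) := by
          refine orderOf_eq_prime_pow (by rw [pow_one, sq]; exact hw.2) ?_
          have := congrArg Subtype.val (pow_card_eq_one' (x := (⟨(w : S), hw.1⟩ : W)))
          rw [hW] at this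
          exact Subtype.ext (by simpa using this)
        refine isCyclic_of_orderOf_eq_card (⟨w, Subgroup.mem_subgroupOf.2 hw.1⟩ : W.subgroupOf T) ?_
        rw [← Subgroup.orderOf_coe]
        show orderOf w = _
        rw [h4, Nat.card_congr (Subgroup.subgroupOfEquivOfLe hWT).toEquiv, hW]
      · have h := (W.subgroupOf T).card_mul_index
        rw [Nat.card_congr (Subgroup.subgroupOfEquivOfLe hWT).toEquiv, hW, hk, hk3] at h
        omega
      · rw [Subgroup.subgroupOf_map_subtype, inf_eq_left.2 hWT]
        exact hWn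
  have hd := outside_data hTna hTcen C hCc hCi
  obtain ⟨x, hxC⟩ : ∃ x : T, x ∉ C := by
    by_contra h
    push Not at h
    rw [(eq_top_iff' C).2 h, index_top] at hCi
    omega
  obtain ⟨a, haC, ha4⟩ : ∃ a ∈ C, orderOf a = 4 := by
    obtain ⟨g, hg⟩ := hCc.exists_ofOrder_eq_natCard
    have h4 : 4 ∣ orderOf g := by
      obtain ⟨j, hj⟩ := IsPGroup.iff_card.1 ((hS.to_subgroup T).to_subgroup C)
      rw [hg, hj]
      have := C.card_mul_index
      rw [hCi, hj] at this
      refine (show (4 : ℕ) = 2 ^ 2 from rfl) ▸ pow_dvd_pow 2 ?_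
      by_contra h
      have := Nat.pow_le_pow_right two_pos (show j ≤ 1 by omega)
      omega
    refine ⟨(g : T) ^ (orderOf g / 4), pow_mem g.2 _, ?_⟩
    rw [orderOf_pow, Subgroup.orderOf_coe, Nat.gcd_eq_right (Nat.div_dvd_of_dvd h4),
      Nat.div_div_self h4 (orderOf_pos g).ne']
  obtain ⟨hx4, hxx, -, hxa⟩ := hd x hxC
  have hxa' : (x : S) * a * (x : S)⁻¹ = (a : S)⁻¹ := congrArg Subtype.val (hxa a haC ha4)
  by_cases hle : Subgroup.centralizer ({(x : S)} : Set S) ≤ T
  · refine index_commutator_of_centralizer_four hS hna (x : S) ?_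
    rw [← hx4, ← Nat.card_congr (Subgroup.subgroupOfEquivOfLe hle).toEquiv]
    congr 1
    congr 1
    ext w
    rw [Subgroup.mem_subgroupOf, Subgroup.mem_centralizer_singleton_iff,
      Subgroup.mem_centralizer_singleton_iff, ← Subgroup.coe_mul, ← Subgroup.coe_mul, Subtype.ext_iff]
  exfalso
  obtain ⟨c₀, hc₀, hc₀T⟩ := SetLike.not_le_iff_exists.1 hle
  have hc₀x : c₀ * x = x * c₀ := Subgroup.mem_centralizer_singleton_iff.1 hc₀
  -- an element outside `T` centralizing both `x` and `a`
  obtain ⟨c, hcT, hcx, hca⟩ : ∃ c, c ∉ T ∧ c * x = x * c ∧ c * a = a * c := by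
    have h1 : c₀ * (a : S) * c₀⁻¹ ∈ C.map T.subtype := hCn.conj_mem _ ⟨a, haC, rfl⟩ c₀
    obtain ⟨a', ha'C, ha'⟩ := h1
    change (a' : S) = c₀ * a * c₀⁻¹ at ha'
    have ha'o : orderOf a' = 4 := by
      rw [← Subgroup.orderOf_coe, ha']
      exact ((MulAut.conj c₀).orderOf_eq _).trans (by rw [Subgroup.orderOf_coe, ha4])
    obtain ⟨i, hi' : a ^ i = a'⟩ := mem_zpowers_of_mem_cyclic C hCc haC ha'C (ha'o.trans ha4.symm)
    have hmod : a ^ i = a ^ (i % 4) := by rw [← zpow_mod_orderOf, ha4]; norm_num
    rw [hmod] at hi'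
    have h0 := Int.emod_nonneg i (show (4 : ℤ) ≠ 0 by norm_num)
    have h3 := Int.emod_lt_of_pos i (show (0 : ℤ) < 4 by norm_num)
    have hcases : i % 4 = 0 ∨ i % 4 = 1 ∨ i % 4 = 2 ∨ i % 4 = 3 := by omega
    have ha4' : a ^ 4 = 1 := by rw [← ha4, pow_orderOf_eq_one]
    rcases hcases with e | e | e | e <;> rw [e] at hi'
    · rw [zpow_zero] at hi'
      rw [← hi', orderOf_one] at ha'o
      norm_num at ha'o
    · rw [zpow_one] at hi'
      rw [← hi'] at ha'
      exact ⟨c₀, hc₀T, hc₀x, mul_inv_eq_iff_eq_mul.1 ha'.symm⟩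
    · rw [zpow_two] at hi'
      have h2 : a' ^ 2 = 1 := by rw [← hi', ← sq, ← pow_mul]; exact ha4'
      have := Nat.le_of_dvd two_pos (orderOf_dvd_of_pow_eq_one h2)
      omega
    · have hinv : a' = a⁻¹ := by
        rw [← hi', eq_inv_iff_mul_eq_one, ← zpow_add_one]
        norm_num
        exact ha4'
      rw [hinv, Subgroup.coe_inv] at ha'
      refine ⟨c₀ * x, fun h => hc₀T ((Subgroup.mul_mem_cancel_right T x.2).1 h),
        by rw [mul_assoc, ← mul_assoc (x : S), ← hc₀x]; group, ?_⟩
      refine mul_inv_eq_iff_eq_mul.1 ?_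
      calc c₀ * x * a * (c₀ * x)⁻¹ = c₀ * (x * a * (x : S)⁻¹) * c₀⁻¹ := by group
        _ = (c₀ * a * c₀⁻¹)⁻¹ := by rw [hxa']; group
        _ = a := by rw [← ha', inv_inv]
  have hcc : c * c ∈ T := Subgroup.mul_self_mem_of_index_two hTi c
  have hxz : ∀ w : T, (w : S) * x = x * w → (w : S) * a = a * w → (w : S) ∈ Subgroup.zpowers (z : S) := by
    intro w hwx hwa
    have hwC : w ∈ C := by
      by_contra h
      have h2 : (w : S) * a * (w : S)⁻¹ = (a : S)⁻¹ := congrArg Subtype.val ((hd w h).2.2.2 a haC ha4)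
      rw [hwa, mul_inv_cancel_right, eq_inv_iff_mul_eq_one, ← sq] at h2
      have := Nat.le_of_dvd two_pos (orderOf_dvd_of_pow_eq_one h2)
      rw [Subgroup.orderOf_coe, ha4] at this
      omega
    rcases hcenz w ((hd x hxC).2.2.1 w hwC (Subtype.ext hwx)) with h | h
    · rw [h, Subgroup.coe_one]; exact one_mem _
    · rw [h]; exact Subgroup.mem_zpowers _
  set Z := Subgroup.zpowers (z : S) with hZ
  have hZn : Z.Normal := H24.normal_of_le_center (Subgroup.zpowers_le.2 (mem_center_iff.2 hzc))
  set W := Subgroup.closure ({(x : S), (a : S), c} : Set S) with hW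
  have hxW : (x : S) ∈ W := Subgroup.subset_closure (by simp)
  have haW : (a : S) ∈ W := Subgroup.subset_closure (by simp)
  have hcW : c ∈ W := Subgroup.subset_closure (by simp)
  let π := QuotientGroup.mk' Z
  have hπ : ∀ w ∈ Z, π w = 1 := fun w hw => (QuotientGroup.eq_one_iff w).2 hw
  have hx2 : π x * π x = 1 := by
    rw [← map_mul]
    refine hπ _ ?_
    rcases hcenz _ hxx with h | h
    · rw [← Subgroup.coe_mul, h, Subgroup.coe_one]; exact one_mem _
    · rw [← Subgroup.coe_mul, h]; exact Subgroup.mem_zpowers _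
  have ha2 : π a * π a = 1 := by
    rw [← map_mul]
    refine hπ _ (hxz (a * a) ?_ (by rw [Subgroup.coe_mul]; group))
    have h : (x : S) * (a * a : S) * (x : S)⁻¹ = (a : S) * a := by
      calc _ = ((x : S) * a * (x : S)⁻¹) * ((x : S) * a * (x : S)⁻¹) := by group
        _ = (a : S)⁻¹ * (a : S)⁻¹ := by rw [hxa']
        _ = ((a : S) ^ 4)⁻¹ * (a * a) := by group
        _ = a * a := by
          rw [show ((a : S) ^ 4) = 1 by rw [← ha4, ← Subgroup.orderOf_coe, pow_orderOf_eq_one], inv_one,
            one_mul]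
    rw [Subgroup.coe_mul]
    exact (mul_inv_eq_iff_eq_mul.1 h).symm
  have hc2 : π c * π c = 1 := by
    rw [← map_mul]
    refine hπ _ (hxz ⟨_, hcc⟩ ?_ ?_)
    · show c * c * x = x * (c * c)
      rw [mul_assoc, hcx, ← mul_assoc, hcx, mul_assoc]
    · show c * c * a = a * (c * c)
      rw [mul_assoc, hca, ← mul_assoc, hca, mul_assoc]
  have hxa2 : π x * π a = π a * π x := by
    have h : π x * π a * (π x)⁻¹ = (π a)⁻¹ := by rw [← map_mul, ← map_inv, ← map_mul, hxa', map_inv]
    rw [inv_eq_of_mul_eq_one_right ha2] at h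
    exact mul_inv_eq_iff_eq_mul.1 h
  have hxc2 : π x * π c = π c * π x := by rw [← map_mul, ← map_mul, hcx]
  have hac2 : π a * π c = π c * π a := by rw [← map_mul, ← map_mul, hca]
  have hWcomm : ∀ u ∈ W, ∀ v ∈ W, π u * π v = π v * π u := by
    have h1 : ∀ g ∈ ({(x : S), (a : S), c} : Set S), ∀ v ∈ W, π g * π v = π v * π g := by
      intro g hg v hv
      induction hv using Subgroup.closure_induction with
      | mem w hw =>
        rcases hg with e | e | e <;> rcases hw with e' | e' | e' <;>
          (try simp only [Set.mem_singleton_iff] at e) <;> (try simp only [Set.mem_singleton_iff] at e') <;> subst e e' <;>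
          first
            | rfl
            | exact hxa2
            | exact hxa2.symm
            | exact hxc2
            | exact hxc2.symm
            | exact hac2
            | exact hac2.symm
      | one => rw [map_one, mul_one, one_mul]
      | mul u v _ _ iu iv => rw [map_mul, ← mul_assoc, iu, mul_assoc, iv, ← mul_assoc]
      | inv u _ iu =>
        rw [map_inv]
        exact (Commute.inv_right iu : _)
    intro u hu v hv
    induction hu using Subgroup.closure_induction with
    | mem w hw => exact h1 w hw v hv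
    | one => rw [map_one, mul_one, one_mul]
    | mul u w _ _ iu iw => rw [map_mul, mul_assoc, iw, ← mul_assoc, iu, mul_assoc]
    | inv u _ iu =>
      rw [map_inv]
      exact (Commute.inv_left iu : _)
  have hWsq : ∀ u ∈ W, π u * π u = 1 := by
    intro u hu
    induction hu using Subgroup.closure_induction with
    | mem w hw => rcases hw with e | e | e <;> (try simp only [Set.mem_singleton_iff] at e) <;> subst e <;> assumption
    | one => rw [map_one, mul_one]
    | mul u w hu hw iu iw =>
      rw [map_mul, mul_assoc, ← mul_assoc (π w), hWcomm w hw u hu, mul_assoc (π u), iw, mul_one, iu]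
    | inv u _ iu => rw [map_inv, ← mul_inv_rev, iu, inv_one]
  have h8 := hno W (z : S) ?_ (fun w _ => hzc w) hzs (fun u hu v hv => ?_) (fun u hu => ?_)
  · -- but `W` properly contains a subgroup of order at least eight
    set H := W ⊓ T with hH
    have hHW : H < W := lt_of_le_of_ne inf_le_left fun h => hcT (h.ge hcW).2
    have hA4 : Nat.card (Subgroup.zpowers (a : S)) = 4 := by
      rw [Nat.card_zpowers, Subgroup.orderOf_coe, ha4]
    have hAH : Subgroup.zpowers (a : S) < H := by
      refine lt_of_le_of_ne (Subgroup.zpowers_le.2 ⟨haW, a.2⟩) fun h => hxC ?_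
      obtain ⟨i, hi⟩ : (x : S) ∈ Subgroup.zpowers (a : S) := h.ge ⟨hxW, x.2⟩
      have : x = a ^ i := Subtype.ext (by simpa using hi.symm)
      rw [this]
      exact zpow_mem haC i
    have h4H : 4 ∣ Nat.card H := hA4 ▸ Subgroup.card_dvd_of_le hAH.le
    have hHW' : Nat.card H ∣ Nat.card W := Subgroup.card_dvd_of_le hHW.le
    have hlt1 : Nat.card (Subgroup.zpowers (a : S)) < Nat.card H := by
      exact Set.ncard_lt_ncard hAH (Set.toFinite _) |> fun h => by
        rwa [← Nat.card_coe_set_eq, ← Nat.card_coe_set_eq] at h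
    have hlt2 : Nat.card H < Nat.card W := by
      exact Set.ncard_lt_ncard hHW (Set.toFinite _) |> fun h => by
        rwa [← Nat.card_coe_set_eq, ← Nat.card_coe_set_eq] at h
    obtain ⟨u, hu⟩ := h4H
    obtain ⟨v, hv⟩ := hHW'
    have hu2 : 2 ≤ u := by omega
    have hv2 : 2 ≤ v := by
      by_contra h
      interval_cases v <;> omega
    have := Nat.mul_le_mul (Nat.mul_le_mul_left 4 hu2) hv2
    rw [← hu, ← hv] at this
    omega
  · have : (z : S) = ((a * a : T) : S) := by
      have ha2' : orderOf (a * a) = 2 := by rw [← sq, orderOf_pow, ha4]; rfl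
      have hax : a * a * x = x * (a * a) := by
        have h1 := hxa a haC ha4
        have ha4' : a ^ 4 = 1 := by rw [← ha4, pow_orderOf_eq_one]
        have h2 : x * (a * a) * x⁻¹ = a * a := by
          calc _ = (x * a * x⁻¹) * (x * a * x⁻¹) := by group
            _ = (a ^ 4)⁻¹ * (a * a) := by rw [h1]; group
            _ = a * a := by rw [ha4', inv_one, one_mul]
        exact (mul_inv_eq_iff_eq_mul.1 h2).symm
      rcases hcenz (a * a) ((hd x hxC).2.2.1 _ (mul_mem haC haC) hax) with h | h
      · rw [h, orderOf_one] at ha2'; omega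
      · rw [h]
    rw [this, Subgroup.coe_mul]
    exact mul_mem haW haW
  · rw [← QuotientGroup.eq]
    exact (hWcomm v hv u hu)
  · exact (QuotientGroup.eq_one_iff _).1 (by rw [QuotientGroup.mk_mul]; exact hWsq u hu)

end Cfsg.Agent.H29
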