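import Mathlib

/-!
# Thompson's transfer lemma for involutions and normal 2-complements
-/

set_option autoImplicit false

namespace Cfsg.Agent.H29

open Subgroup
open scoped Pointwise

variable {G : Type*} [Group G]

/-- Thompson's transfer lemma in permutation form: if `|G : H|` is twice an odd number and no
conjugate of the element `s` of square one lies in `H`, then some linear character sends `s` to
`-1`. -/
theorem exists_hom_neg_one [Finite G] (H : Subgroup G) {m : ℕ} (hm : Odd m) (hH : H.index = 2 * m)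
    (s : G) (hs : s ^ 2 = 1) (hno : ∀ g : G, g⁻¹ * s * g ∉ H) :
    ∃ φ : G →* ℤˣ, φ s = -1 := by
  classical
  let : Fintype (G ⧸ H) := Fintype.ofFinite _
  refine ⟨Equiv.Perm.sign.comp (MulAction.toPermHom G (G ⧸ H)), ?_⟩
  set σ : Equiv.Perm (G ⧸ H) := MulAction.toPermHom G (G ⧸ H) s with hσdef
  show Equiv.Perm.sign σ = -1
  have hσ2 : σ ^ 2 = 1 := by rw [hσdef, ← map_pow, hs, map_one]
  have hfix : σ.support = Finset.univ := by
    refine Finset.eq_univ_of_forall fun q => ?_
    rw [Equiv.Perm.mem_support]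
    induction q using QuotientGroup.induction_on with
    | H g =>
      intro h
      have h' : (((s * g : G)) : G ⧸ H) = (g : G ⧸ H) := h
      have h2 := (QuotientGroup.eq (s := H)).mp h'.symm
      apply hno g
      simpa [mul_assoc] using h2
  have hct : σ.cycleType = Multiset.replicate (Multiset.card σ.cycleType) 2 := by
    refine Multiset.eq_replicate_card.mpr fun x hx => ?_
    have h1 : orderOf σ ∣ 2 := orderOf_dvd_of_pow_eq_one hσ2
    have h2 : x ∣ orderOf σ := Equiv.Perm.dvd_of_mem_cycleType hx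
    rcases (Nat.dvd_prime Nat.prime_two).mp (h2.trans h1) with h | h
    · have := Equiv.Perm.two_le_of_mem_cycleType hx
      omega
    · exact h
  have hsum : σ.cycleType.sum = 2 * m := by
    rw [Equiv.Perm.sum_cycleType, hfix, Finset.card_univ, ← Nat.card_eq_fintype_card]
    exact hH
  have hcard : Multiset.card σ.cycleType = m := by
    have h := hsum
    rw [hct, Multiset.sum_replicate, smul_eq_mul] at h
    omega
  rw [Equiv.Perm.sign_of_cycleType, hsum, hcard]
  obtain ⟨k, hk⟩ := hm
  exact Odd.neg_one_pow ⟨3 * k + 1, by omega⟩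

/-- A finite group with a cyclic Sylow 2-subgroup has a normal subgroup of odd order and 2-power
index. -/
theorem exists_normal_two_complement_of_cyclic [Finite G] (P : Sylow 2 G)
    (hP : IsCyclic (P : Subgroup G)) :
    ∃ N : Subgroup G, N.Normal ∧ Odd (Nat.card N) ∧ ∃ k : ℕ, N.index = 2 ^ k := by
  by_cases h2 : 2 ∣ Nat.card G
  · have hmin : (Nat.card G).minFac = 2 := (Nat.minFac_eq_two_iff _).mpr h2
    have hc := IsCyclic.isComplement' hmin hP
    refine ⟨(MonoidHom.transferSylow P (hP.normalizer_le_centralizer hmin)).ker, inferInstance,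
      ?_, ?_⟩
    · rw [← hc.index_eq_card]
      exact Nat.odd_iff.mpr (Nat.two_dvd_ne_zero.mp P.not_dvd_index)
    · obtain ⟨k, hk⟩ := P.2.exists_card_eq
      exact ⟨k, hc.symm.index_eq_card.trans hk⟩
  · refine ⟨⊤, inferInstance, ?_, 0, by simp⟩
    rw [card_top]
    exact Nat.odd_iff.mpr (Nat.two_dvd_ne_zero.mp h2)

/-- A normal subgroup `K` of 2-power index which has a normal 2-complement gives one for the whole
group. -/
theorem exists_normal_two_complement_of_normal [Finite G] (K : Subgroup G) [K.Normal] {j : ℕ}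
    (hK : K.index = 2 ^ j) (N : Subgroup K) [N.Normal] (hN : Odd (Nat.card N)) {k : ℕ}
    (hNi : N.index = 2 ^ k) :
    ∃ N' : Subgroup G, N'.Normal ∧ Odd (Nat.card N') ∧ ∃ i : ℕ, N'.index = 2 ^ i := by
  have hcard : Nat.card (N.map K.subtype) = Nat.card N :=
    card_map_of_injective K.subtype_injective
  refine ⟨N.map K.subtype, ?_, hcard ▸ hN, k + j, ?_⟩
  · -- the elements of `N` are exactly the elements of `K` of odd order
    have hmem : ∀ x : K, x ∈ N ↔ Odd (orderOf x) := by
      intro x
      constructor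
      · intro hx
        refine hN.of_dvd_nat ?_
        rw [← Subgroup.orderOf_mk x hx]
        exact orderOf_dvd_natCard _
      · intro hx
        have h1 : orderOf (x : K ⧸ N) ∣ orderOf x := orderOf_map_dvd (QuotientGroup.mk' N) x
        have h2 : orderOf (x : K ⧸ N) ∣ 2 ^ k := hNi ▸ orderOf_dvd_natCard _
        have h3 : Nat.Coprime (orderOf x) (2 ^ k) :=
          Nat.Coprime.pow_right _ (Nat.coprime_two_right.mpr hx)
        have := Nat.eq_one_of_dvd_coprimes h3 h1 h2
        rwa [orderOf_eq_one_iff, QuotientGroup.eq_one_iff] at this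
    refine ⟨fun x hx g => ?_⟩
    obtain ⟨y, hy, rfl⟩ := hx
    refine ⟨⟨g * y * g⁻¹, Subgroup.Normal.conj_mem inferInstance _ y.2 g⟩, ?_, rfl⟩
    rw [SetLike.mem_coe, hmem]
    have hy' := (hmem y).mp hy
    have : orderOf (⟨g * y * g⁻¹, Subgroup.Normal.conj_mem inferInstance _ y.2 g⟩ : K)
        = orderOf y := by
      rw [← Subgroup.orderOf_coe, ← Subgroup.orderOf_coe]
      exact (MulAut.conj g).orderOf_eq (y : G)
    rwa [this]
  · rw [Subgroup.index_map_subtype, hNi, hK, pow_add]

/-- If a Sylow 2-subgroup `T` has a cyclic subgroup `A` of index two containing a central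
involution `t` of the group, all elements of `T` outside `A` being involutions, then the group
has a normal 2-complement. -/
theorem exists_normal_two_complement_of_dihedral_type [Finite G] (T : Sylow 2 G) (A : Subgroup G)
    (hAT : A ≤ (T : Subgroup G)) (hA : IsCyclic A) (hAi : A.relIndex (T : Subgroup G) = 2)
    (t : G) (ht : orderOf t = 2) (htA : t ∈ A) (htZ : ∀ g : G, g * t = t * g)
    (hout : ∀ s ∈ (T : Subgroup G), s ∉ A → s ^ 2 = 1) :
    ∃ N : Subgroup G, N.Normal ∧ Odd (Nat.card N) ∧ ∃ k : ℕ, N.index = 2 ^ k := by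
  classical
  have hinv : ∀ y ∈ A, y ^ 2 = 1 → y ≠ 1 → y = t := by
    intro y hy hy2 hy1
    have : IsCyclic A := hA
    let : Fintype A := Fintype.ofFinite _
    by_contra hne
    have h3 : ({1, ⟨t, htA⟩, ⟨y, hy⟩} : Finset A) ⊆
        (Finset.univ : Finset A).filter (fun a : A => a ^ 2 = 1) := by
      intro a ha
      simp only [Finset.mem_insert, Finset.mem_singleton] at ha
      rw [Finset.mem_filter]
      refine ⟨Finset.mem_univ _, ?_⟩
      rcases ha with rfl | rfl | rfl
      · simp
      · exact Subtype.ext (ht ▸ pow_orderOf_eq_one t)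
      · exact Subtype.ext hy2
    have h4 := (Finset.card_le_card h3).trans (IsCyclic.card_pow_eq_one_le (by norm_num))
    have ht1 : t ≠ 1 := fun h => by simp [h] at ht
    rw [Finset.card_insert_of_notMem, Finset.card_insert_of_notMem, Finset.card_singleton] at h4
    · omega
    · simp [Subtype.ext_iff, Ne.symm hne]
    · simp [Subtype.ext_iff, Ne.symm ht1, Ne.symm hy1]
  have hindex : A.index = 2 * (T : Subgroup G).index := by
    rw [← relIndex_mul_index hAT, hAi]
  have hodd : Odd (T : Subgroup G).index :=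
    Nat.odd_iff.mpr (Nat.two_dvd_ne_zero.mp T.not_dvd_index)
  obtain ⟨s, hsT, hsA⟩ : ∃ s ∈ (T : Subgroup G), s ∉ A := by
    by_contra hc
    push Not at hc
    have := relIndex_eq_one.mpr (show (T : Subgroup G) ≤ A from hc)
    omega
  have hno : ∀ g : G, g⁻¹ * s * g ∉ A := by
    intro g hg
    have h1 : s ≠ 1 := fun h => hsA (h ▸ one_mem A)
    have h2 : (g⁻¹ * s * g) ^ 2 = 1 := by
      calc (g⁻¹ * s * g) ^ 2 = g⁻¹ * s ^ 2 * g := by simp [pow_two, mul_assoc]
        _ = 1 := by simp [hout s hsT hsA]
    have h3 : g⁻¹ * s * g ≠ 1 := fun h => h1 (by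
      calc s = g * (g⁻¹ * s * g) * g⁻¹ := by group
        _ = 1 := by rw [h]; group)
    have h4 := hinv _ hg h2 h3
    apply hsA
    have : s = t := by
      calc s = g * (g⁻¹ * s * g) * g⁻¹ := by group
        _ = t := by rw [h4, htZ g]; group
    rwa [this]
  -- every element outside `A` is sent to `-1` by a suitable linear character
  have hker : ∀ x ∈ (T : Subgroup G), x ∉ A → ∃ φ : G →* ℤˣ, φ x = -1 := by
    intro x hx hxA
    refine exists_hom_neg_one A hodd hindex x (hout x hx hxA) ?_
    intro g hg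
    have h1 : x ≠ 1 := fun h => hxA (h ▸ one_mem A)
    have h2 : (g⁻¹ * x * g) ^ 2 = 1 := by
      calc (g⁻¹ * x * g) ^ 2 = g⁻¹ * x ^ 2 * g := by simp [pow_two, mul_assoc]
        _ = 1 := by simp [hout x hx hxA]
    have h3 : g⁻¹ * x * g ≠ 1 := fun h => h1 (by
      calc x = g * (g⁻¹ * x * g) * g⁻¹ := by group
        _ = 1 := by rw [h]; group)
    have h4 := hinv _ hg h2 h3
    apply hxA
    have : x = t := by
      calc x = g * (g⁻¹ * x * g) * g⁻¹ := by group
        _ = t := by rw [h4, htZ g]; group
    rwa [this]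
  choose φ hφ using hker
  -- the intersection of the kernels
  let K : Subgroup G := ⨅ x : {x : G // x ∈ (T : Subgroup G) ∧ x ∉ A}, (φ x x.2.1 x.2.2).ker
  have hKn : K.Normal := normal_iInf_normal fun _ => inferInstance
  have hKT : (T : Subgroup G) ⊓ K ≤ A := by
    intro x hx
    by_contra hxA
    have h := mem_iInf.mp hx.2 ⟨x, hx.1, hxA⟩
    rw [MonoidHom.mem_ker, hφ] at h
    exact absurd h (by decide)
  obtain ⟨j, hj⟩ : ∃ j, K.index = 2 ^ j := by
    have hsq : ∀ q : G ⧸ K, q ^ 2 = 1 := by
      intro q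
      induction q using QuotientGroup.induction_on with
      | H g =>
        rw [← QuotientGroup.mk_pow, QuotientGroup.eq_one_iff, mem_iInf]
        intro x
        rw [MonoidHom.mem_ker, map_pow]
        exact Int.units_sq _
    have : IsPGroup 2 (G ⧸ K) := fun q => ⟨1, by simpa using hsq q⟩
    exact this.exists_card_eq
  obtain ⟨Q⟩ : Nonempty (Sylow 2 K) := inferInstance
  obtain ⟨P, hP⟩ := IsPGroup.exists_le_sylow (Q.isPGroup'.map K.subtype)
  obtain ⟨g, hg⟩ := MulAction.exists_smul_eq G P T
  have hgQ : ∀ x : K, x ∈ (Q : Subgroup K) → g * (x : G) * g⁻¹ ∈ A := by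
    intro x hx
    refine hKT ⟨?_, hKn.conj_mem _ x.2 g⟩
    rw [← hg, Sylow.smul_def]
    exact Subgroup.smul_mem_pointwise_smul _ (MulAut.conj g) _
      (hP (mem_map_of_mem K.subtype hx))
  let f : ↥(Q : Subgroup K) →* ↥A :=
    MonoidHom.mk' (fun x => ⟨g * ((x : K) : G) * g⁻¹, hgQ x x.2⟩) (by
      intro a b
      apply Subtype.ext
      simp [mul_assoc])
  have hf : Function.Injective f := by
    intro a b (h : f a = f b)
    have h' : g * ((a : K) : G) * g⁻¹ = g * ((b : K) : G) * g⁻¹ := congrArg Subtype.val h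
    exact Subtype.ext (Subtype.ext (by simpa using h'))
  have : IsCyclic A := hA
  have hQ : IsCyclic (Q : Subgroup K) := isCyclic_of_injective f hf
  obtain ⟨N, hNn, hNo, k, hNi⟩ := exists_normal_two_complement_of_cyclic Q hQ
  exact exists_normal_two_complement_of_normal K hj N hNo hNi

end Cfsg.Agent.H29
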